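import Mathlib

/-!
# The equations of the first case
-/

set_option autoImplicit false

namespace Cfsg.Agent.Lib.McL3NonSing87.Alg

/-- The degrees `n`, `m` of the two unknown characters of the first case are `3` and `1`. -/
theorem caseA {n m τ x w p0 p1 p2 X E : ℂ} (hn : n ≠ 0) (hm : m ≠ 0) (h1n : 1 + n ≠ 0) (hnm : n + m ≠ 0)
    (hX : 1 + n + 2 * m ≠ 0) (hE : 1 + 3 * n + 2 * m ≠ 0)
    (l0 : τ + x + p0 = 0) (l1 : x + w + p1 = 0) (l2 : x + w + p2 = 0) (lX : τ + x + 2 * w + X = 0)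
    (lE : -p0 - p1 - p2 + E = 0)
    (q0 : τ ^ 2 + x ^ 2 / n - p0 ^ 2 / (1 + n) = 4)
    (q1 : x ^ 2 / n + w ^ 2 / m - p1 ^ 2 / (n + m) = 4)
    (qX : τ ^ 2 + x ^ 2 / n + 2 * (w ^ 2 / m) - X ^ 2 / (1 + n + 2 * m) = 8)
    (qE : p0 ^ 2 / (1 + n) + p1 ^ 2 / (n + m) + p2 ^ 2 / (n + m) - E ^ 2 / (1 + 3 * n + 2 * m) = 0) :
    n = 1 + 2 * m ∧ (m - 1) ^ 2 * (2 * m + 1) ^ 2 = 0 := by
  obtain rfl : p0 = -(τ + x) := by linear_combination l0
  obtain rfl : p1 = -(x + w) := by linear_combination l1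
  obtain rfl : p2 = -(x + w) := by linear_combination l2
  obtain rfl : X = -(τ + x + 2 * w) := by linear_combination lX
  obtain rfl : E = -(τ + 3 * x + 2 * w) := by linear_combination lE
  set a := τ * n - x with ha
  set b := w * n - x * m with hb
  have e0 : a ^ 2 = 4 * n * (1 + n) := by
    field_simp at q0
    rw [ha]; linear_combination q0
  have e1 : b ^ 2 = 4 * n * m * (n + m) := by
    field_simp at q1
    rw [hb]; linear_combination q1
  have key : ∀ p k : ℂ, k ≠ 0 → (p + x * k) ^ 2 / k = p ^ 2 / k + 2 * p * x + x ^ 2 * k := fun p k hk => by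
    field_simp; ring
  have c1 := key a _ h1n
  have c2 := key b _ hnm
  have c3 := key (a + 2 * b) _ hX
  have c4 := key (a + 2 * b) _ hE
  have c5 := key b m hm
  rw [show a + x * (1 + n) = n * (τ + x) by rw [ha]; ring, mul_pow] at c1
  rw [show b + x * (n + m) = n * (x + w) by rw [hb]; ring, mul_pow] at c2
  rw [show a + 2 * b + x * (1 + n + 2 * m) = n * (τ + x + 2 * w) by rw [ha, hb]; ring, mul_pow] at c3
  rw [show a + 2 * b + x * (1 + 3 * n + 2 * m) = n * (τ + 3 * x + 2 * w) by rw [ha, hb]; ring, mul_pow] at c4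
  rw [show b + x * m = n * w by rw [hb]; ring, mul_pow] at c5
  have hxn : n ^ 2 * (x ^ 2 / n) = n * x ^ 2 := by field_simp
  have iX : n ^ 2 * (τ ^ 2 + x ^ 2 / n + 2 * (w ^ 2 / m) - (-(τ + x + 2 * w)) ^ 2 / (1 + n + 2 * m)) =
      a ^ 2 + 2 * b ^ 2 / m - (a + 2 * b) ^ 2 / (1 + n + 2 * m) := by
    simp only [neg_sq]
    linear_combination hxn + 2 * c5 - c3 + (n * τ + a + x) * ((show n * τ = a + x by rw [ha]; ring) : n * τ = a + x)
  have iE : n ^ 2 * ((-(τ + x)) ^ 2 / (1 + n) + (-(x + w)) ^ 2 / (n + m) + (-(x + w)) ^ 2 / (n + m) -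
      (-(τ + 3 * x + 2 * w)) ^ 2 / (1 + 3 * n + 2 * m)) =
      a ^ 2 / (1 + n) + 2 * b ^ 2 / (n + m) - (a + 2 * b) ^ 2 / (1 + 3 * n + 2 * m) := by
    simp only [neg_sq]
    linear_combination c1 + 2 * c2 - c4
  rw [qX, e0, e1] at iX
  rw [qE, e0, e1, mul_zero] at iE
  have e2 : (a + 2 * b) ^ 2 = 4 * n * (1 + 2 * m) * (1 + 3 * n + 2 * m) := by
    generalize 1 + 3 * n + 2 * m = D at iE hE ⊢
    field_simp at iE
    linear_combination iE
  field_simp at iX
  rw [e2] at iX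
  have hL : n = 1 + 2 * m := by
    have : 4 * n ^ 2 * (n - (1 + 2 * m)) = 0 := by linear_combination -iX
    rcases mul_eq_zero.1 this with h | h
    · exact absurd h (by simp [hn])
    · linear_combination h
  refine ⟨hL, ?_⟩
  have hL0 : 1 + 2 * m ≠ 0 := hL ▸ hn
  have eab : a * b = 2 * n * (1 + 5 * m + 2 * m ^ 2) := by
    have h4 : (4 : ℂ) * (a * b) = 4 * (2 * n * (1 + 5 * m + 2 * m ^ 2)) := by
      subst hL
      linear_combination e2 - e0 - 4 * e1
    linear_combination h4 / 4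
  have h5 : 4 * n ^ 2 * ((m - 1) ^ 2 * (2 * m + 1) ^ 2) = 0 := by
    have := congrArg (· ^ 2) eab
    simp only [mul_pow a b, e0, e1] at this
    subst hL
    linear_combination -this
  exact (mul_eq_zero.1 h5).resolve_left (by simp [hn])

end Cfsg.Agent.Lib.McL3NonSing87.Alg
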