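import Mathlib

/-!
# The equations of the second case
-/

set_option autoImplicit false

namespace Cfsg.Agent.Lib.McL3NonSing87.Alg

/-- The pairwise form of a weighted product sum over four points with zero totals. -/
theorem pair4 {w1 w2 w3 w4 x1 x2 x3 x4 y1 y2 y3 y4 q : ℂ} (h0 : w1 + w2 + w3 + w4 = 0)
    (hx : w1 * x1 + w2 * x2 + w3 * x3 + w4 * x4 = 0) (hy : w1 * y1 + w2 * y2 + w3 * y3 + w4 * y4 = 0)
    (hq : w1 * (x1 * y1) + w2 * (x2 * y2) + w3 * (x3 * y3) + w4 * (x4 * y4) = q) :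
    w1 * w2 * ((x1 - x2) * (y1 - y2)) + w1 * w3 * ((x1 - x3) * (y1 - y3)) +
      w2 * w3 * ((x2 - x3) * (y2 - y3)) = (w1 + w2 + w3) * q := by
  obtain rfl : w4 = -(w1 + w2 + w3) := by linear_combination h0
  linear_combination (w1 + w2 + w3) * hq - (w1 * y1 + w2 * y2 + w3 * y3) * hx -
    (w1 + w2 + w3) * x4 * hy

/-- The quadratic forms attached to three weighted points. -/
theorem inv3 {u v t aT aU bT bU TT TU UU : ℂ} (hW : u + v + t ≠ 0)
    (h1 : u * t * (aT * aT) + v * t * (bT * bT) + u * v * ((aT - bT) * (aT - bT)) = (u + v + t) * TT)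
    (h2 : u * t * (aT * aU) + v * t * (bT * bU) + u * v * ((aT - bT) * (aU - bU)) = (u + v + t) * TU)
    (h3 : u * t * (aU * aU) + v * t * (bU * bU) + u * v * ((aU - bU) * (aU - bU)) = (u + v + t) * UU) :
    (TT * UU - TU ^ 2) * (u + t) = u * t * (UU * aT ^ 2 - 2 * TU * aT * aU + TT * aU ^ 2) ∧
      (TT * UU - TU ^ 2) * (v + t) = v * t * (UU * bT ^ 2 - 2 * TU * bT * bU + TT * bU ^ 2) ∧
      TT * UU - TU ^ 2 = t * (UU * aT * bT - TU * (aT * bU + aU * bT) + TT * aU * bU) := by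
  set C := aT * bU - aU * bT with hC
  have key : (u + v + t) * (TT * UU - TU ^ 2) = u * v * t * C ^ 2 := by
    refine mul_left_cancel₀ hW ?_
    rw [hC]
    linear_combination -(u + v + t) * UU * h1 -
      (u * t * (aT * aT) + v * t * (bT * bT) + u * v * ((aT - bT) * (aT - bT))) * h3 +
      ((u + v + t) * TU + (u * t * (aT * aU) + v * t * (bT * bU) + u * v * ((aT - bT) * (aU - bU)))) * h2
  refine ⟨mul_left_cancel₀ hW ?_, mul_left_cancel₀ hW ?_, mul_left_cancel₀ hW ?_⟩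
  · rw [hC] at key
    linear_combination (u + t) * key + u * t * aT ^ 2 * h3 - 2 * u * t * aT * aU * h2 + u * t * aU ^ 2 * h1
  · rw [hC] at key
    linear_combination (v + t) * key + v * t * bT ^ 2 * h3 - 2 * v * t * bT * bU * h2 + v * t * bU ^ 2 * h1
  · rw [hC] at key
    linear_combination key + t * aT * bT * h3 - t * (aT * bU + aU * bT) * h2 + t * aU * bU * h1

/-- The six totals of one class function on four points. -/
structure Sums (w1 w2 w3 w4 x1 x2 x3 x4 y1 y2 y3 y4 TT TU UU : ℂ) : Prop where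
  deg : w1 + w2 + w3 + w4 = 0
  tsum : w1 * x1 + w2 * x2 + w3 * x3 + w4 * x4 = 0
  usum : w1 * y1 + w2 * y2 + w3 * y3 + w4 * y4 = 0
  tt : w1 * (x1 * x1) + w2 * (x2 * x2) + w3 * (x3 * x3) + w4 * (x4 * x4) = TT
  tu : w1 * (x1 * y1) + w2 * (x2 * y2) + w3 * (x3 * y3) + w4 * (x4 * y4) = TU
  uu : w1 * (y1 * y1) + w2 * (y2 * y2) + w3 * (y3 * y3) + w4 * (y4 * y4) = UU

theorem Sums.forms {w1 w2 w3 w4 x1 x2 x3 x4 y1 y2 y3 y4 TT TU UU : ℂ}
    (h : Sums w1 w2 w3 w4 x1 x2 x3 x4 y1 y2 y3 y4 TT TU UU) (hW : w1 + w2 + w3 ≠ 0) :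
    (TT * UU - TU ^ 2) * (w1 + w3) =
        w1 * w3 * (UU * (x1 - x3) ^ 2 - 2 * TU * (x1 - x3) * (y1 - y3) + TT * (y1 - y3) ^ 2) ∧
      (TT * UU - TU ^ 2) * (w2 + w3) =
        w2 * w3 * (UU * (x2 - x3) ^ 2 - 2 * TU * (x2 - x3) * (y2 - y3) + TT * (y2 - y3) ^ 2) ∧
      TT * UU - TU ^ 2 = w3 * (UU * (x1 - x3) * (x2 - x3) -
        TU * ((x1 - x3) * (y2 - y3) + (y1 - y3) * (x2 - x3)) + TT * (y1 - y3) * (y2 - y3)) :=
  inv3 hW (by linear_combination pair4 h.deg h.tsum h.tsum h.tt)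
    (by linear_combination pair4 h.deg h.tsum h.usum h.tu)
    (by linear_combination pair4 h.deg h.usum h.usum h.uu)

/-- The equations of the second case force degree three. -/
theorem caseB {d r r' s p2 p5 p6 p8 p10 eO fO eD fD eR fR eR' fR' eS fS e2 f2 e5 f5 e6 f6 e8 f8 e10 f10 : ℂ}
    (hd : d ≠ 0) (hr : r ≠ 0) (hr' : r' ≠ 0)
    (hp2 : p2 ≠ 0) (hp5 : p5 ≠ 0) (hp6 : p6 ≠ 0) (hp8 : p8 ≠ 0) (hp10 : p10 ≠ 0)
    (HP : Sums r 1 d p2 eR eO eD e2 fR fO fD f2 (8 / 3) (4 / 3) (4 / 3))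
    (HS : Sums r' s d p5 eR' eS eD e5 fR' fS fD f5 (8 / 3) (-4 / 3) (4 / 3))
    (T1 : Sums r r' 0 p6 eR eR' 0 e6 fR fR' 0 f6 0 0 (2 / 3))
    (P1 : Sums r r' d p8 eR eR' eD e8 fR fR' fD f8 (8 / 3) 0 (2 / 3))
    (h0 : 1 + r + r' + s + p10 = 0) (h0t : eO + r * eR + r' * eR' + s * eS + p10 * e10 = 0)
    (h0u : fO + r * fR + r' * fR' + s * fS + p10 * f10 = 0)
    (h0tt : eO * eO + r * (eR * eR) + r' * (eR' * eR') + s * (eS * eS) + p10 * (e10 * e10) = 8 / 3)
    (h0tu : eO * fO + r * (eR * fR) + r' * (eR' * fR') + s * (eS * fS) + p10 * (e10 * f10) = 0)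
    (h0uu : fO * fO + r * (fR * fR) + r' * (fR' * fR') + s * (fS * fS) + p10 * (f10 * f10) = 8 / 3) :
    r = 3 ∨ (r = 1 ∧ 3 * d = 2) := by
  have hW2 : r + 1 + d ≠ 0 := fun h => hp2 (by linear_combination HP.deg - h)
  have hW5 : r' + s + d ≠ 0 := fun h => hp5 (by linear_combination HS.deg - h)
  have hW6 : r + r' ≠ 0 := fun h => hp6 (by linear_combination T1.deg - h)
  have hW8 : r + r' + d ≠ 0 := fun h => hp8 (by linear_combination P1.deg - h)
  obtain ⟨a1, a2, a3⟩ := HP.forms hW2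
  obtain ⟨b1, -, -⟩ := HS.forms hW5
  have tTT := pair4 T1.deg T1.tsum T1.tsum T1.tt
  have tUU := pair4 T1.deg T1.usum T1.usum T1.uu
  have hee : eR' = eR := by
    have : r * r' * ((eR - eR') * (eR - eR')) = 0 := by linear_combination tTT
    have h2 := (mul_eq_zero.1 this).resolve_left (mul_ne_zero hr hr')
    linear_combination -(mul_self_eq_zero.1 h2)
  subst eR'
  obtain ⟨δ, rfl⟩ : ∃ δ, eR = eD + δ := ⟨eR - eD, by ring⟩
  obtain ⟨β, rfl⟩ : ∃ β, fR = fD + β := ⟨fR - fD, by ring⟩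
  obtain ⟨β', rfl⟩ : ∃ β', fR' = fD + β' := ⟨fR' - fD, by ring⟩
  simp only [add_sub_cancel_left] at a1 a2 a3 b1
  have kTT : d * (r + r') * δ ^ 2 = 8 / 3 * (r + r' + d) := by
    linear_combination pair4 P1.deg P1.tsum P1.tsum P1.tt
  have hδ : δ ≠ 0 := fun h => hW8 (by rw [h] at kTT; linear_combination -(3 / 8 : ℂ) * kTT)
  have hlin : r * β + r' * β' = 0 := by
    have : d * δ * (r * β + r' * β') = 0 := by linear_combination pair4 P1.deg P1.tsum P1.usum P1.tu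
    exact (mul_eq_zero.1 this).resolve_left (mul_ne_zero hd hδ)
  have hsq : r * β ^ 2 + r' * β' ^ 2 = 2 / 3 := by
    refine mul_left_cancel₀ hW6 ?_
    linear_combination tUU + (r * β + r' * β') * hlin
  have hb1 : r * (r + r') * β ^ 2 = 2 / 3 * r' := by
    linear_combination r' * hsq + (r * β - r' * β') * hlin
  have hb2 : r' * (r + r') * β' ^ 2 = 2 / 3 * r := by
    linear_combination r * hsq + (r' * β' - r * β) * hlin
  have hP : 3 * d * (r + r') * δ * β = 2 * (r + r' + d) := by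
    refine mul_left_cancel₀ hr ?_
    linear_combination (9 / 8 : ℂ) * (r + r') * a1 + (3 / 2 : ℂ) * r * kTT + 3 * d * hb1
  have hN : 3 * d * (r + r') * δ * β' = -(2 * (r + r' + d)) := by
    refine mul_left_cancel₀ hr' ?_
    linear_combination -(9 / 8 : ℂ) * (r + r') * b1 - (3 / 2 : ℂ) * r' * kTT - 3 * d * hb2
  have hbb : β' = -β := by
    have : 3 * d * (r + r') * δ * (β + β') = 0 := by linear_combination hP + hN
    have h2 := (mul_eq_zero.1 this).resolve_left (by simp [hd, hδ, hW6])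
    linear_combination h2
  subst hbb
  have hβ : β ≠ 0 := fun h => hW8 (by rw [h] at hP; linear_combination -(1 / 2 : ℂ) * hP)
  have hrr : r' = r := by
    have : β * (r' - r) = 0 := by linear_combination -hlin
    linear_combination (mul_eq_zero.1 this).resolve_left hβ
  subst r'
  have hrb : 3 * r * β ^ 2 = 1 := by
    refine mul_left_cancel₀ hr ?_
    linear_combination (3 / 2 : ℂ) * hb1
  have hδ4 : δ = 4 * β := by
    have : d * (r + r) * δ * (δ - 4 * β) = 0 := by linear_combination kTT - (4 / 3 : ℂ) * hP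
    linear_combination (mul_eq_zero.1 this).resolve_left (by simp [hd, hδ, hW6])
  subst hδ4
  have hd3 : 3 * d = 2 * r := by linear_combination (1 / 2 : ℂ) * hP - 4 * d * hrb
  obtain ⟨A, rfl⟩ : ∃ A, eO = eD + 4 * β + A := ⟨eO - eD - 4 * β, by ring⟩
  obtain ⟨A', rfl⟩ : ∃ A', fO = fD + A' := ⟨fO - fD, by ring⟩
  simp only [add_sub_cancel_left, add_assoc] at a2 a3
  have hdb : d * β ^ 2 = 2 / 9 := by linear_combination (1 / 3 : ℂ) * β ^ 2 * hd3 + (2 / 9 : ℂ) * hrb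
  have hA' : A' = 3 / 2 * A + 3 * β := by
    linear_combination (27 / 16 : ℂ) * β * a3 + (27 / 16 : ℂ) * (16 * β + 4 * A - 8 / 3 * A') * hdb
  subst hA'
  have E1 : 15 / 8 * A ^ 2 + 6 * A * β + 3 * β ^ 2 = 1 := by
    linear_combination -(81 / 32 : ℂ) * β ^ 2 * a2 - (81 / 32 : ℂ) *
      ((10 / 3 * A ^ 2 + 32 / 3 * A * β + 40 / 3 * β ^ 2) - 16 / 9) * hdb
  have h4 : Sums 1 s (r + r) p10 (eD + 4 * β + A) eS (eD + 4 * β) e10 (fD + (3 / 2 * A + 3 * β)) fS fD f10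
      (8 / 3) 0 2 :=
    ⟨by linear_combination h0, by linear_combination h0t, by linear_combination h0u,
      by linear_combination h0tt, by linear_combination h0tu,
      by linear_combination h0uu - (2 / 3 : ℂ) * hrb⟩
  obtain ⟨c1, -, -⟩ := h4.forms (fun h => hp10 (by linear_combination h4.deg - h))
  simp only [add_sub_cancel_left] at c1
  have E2 : 3 * A ^ 2 + 9 * A * β + 6 * β ^ 2 = 2 := by
    linear_combination -(9 / 16 : ℂ) * β ^ 2 * c1 - (3 / 16 : ℂ) *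
      ((8 * A ^ 2 + 24 * A * β + 24 * β ^ 2) - 16 / 3) * hrb * 2
  have hA : A * (A + 4 * β) = 0 := by linear_combination (8 / 3 : ℂ) * E1 - (4 / 3 : ℂ) * E2
  rcases mul_eq_zero.1 hA with h | h
  · subst A
    refine Or.inr ⟨?_, ?_⟩
    · linear_combination hrb - (r / 2) * E2
    · linear_combination hd3 + 2 * (hrb - (r / 2) * E2)
  · obtain rfl : A = -(4 * β) := by linear_combination h
    exact Or.inl (by linear_combination 3 * hrb - (r / 2) * E2)

end Cfsg.Agent.Lib.McL3NonSing87.Alg
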