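import Cfsg.Agent.Lib.McL3NonSing87.Tab

/-!
# The table of the first case
-/

set_option autoImplicit false
set_option maxRecDepth 100000
set_option maxHeartbeats 8000000
set_option synthInstance.maxSize 4000
set_option synthInstance.maxHeartbeats 400000

namespace Cfsg.Agent.Lib.McL3NonSing87.Model

/-- The table. -/
def tabA : Tab 12 13 10 where
  nH := 12
  clsT := [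
    [0, 4, 4, 4, 10, 10, 4, 10, 10, 4, 10, 10, 10, 11, 12, 10, 12, 11, 4, 10, 10, 10, 12, 11, 10, 11, 12],
    [1, 1, 1, 1, 1, 1, 1, 1, 1, 5, 5, 5, 5, 5, 5, 5, 5, 5, 5, 5, 5, 5, 5, 5, 5, 5, 5],
    [1, 1, 1, 5, 5, 5, 5, 5, 5, 1, 1, 1, 5, 5, 5, 5, 5, 5, 1, 1, 1, 5, 5, 5, 5, 5, 5],
    [1, 5, 5, 1, 5, 5, 1, 5, 5, 1, 5, 5, 1, 5, 5, 1, 5, 5, 1, 5, 5, 1, 5, 5, 1, 5, 5],
    [2, 6, 7, 6, 7, 2, 7, 2, 6, 6, 7, 2, 7, 2, 6, 2, 6, 7, 7, 2, 6, 2, 6, 7, 6, 7, 2],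
    [2, 7, 6, 6, 2, 7, 7, 6, 2, 7, 6, 2, 2, 7, 6, 6, 2, 7, 6, 2, 7, 7, 6, 2, 2, 7, 6],
    [2, 6, 7, 7, 2, 6, 6, 7, 2, 7, 2, 6, 6, 7, 2, 2, 6, 7, 6, 7, 2, 2, 6, 7, 7, 2, 6],
    [2, 7, 6, 7, 6, 2, 6, 2, 7, 6, 2, 7, 2, 7, 6, 7, 6, 2, 7, 6, 2, 6, 2, 7, 2, 7, 6],
    [3, 8, 9, 8, 9, 3, 9, 3, 8, 8, 9, 3, 9, 3, 8, 3, 8, 9, 9, 3, 8, 3, 8, 9, 8, 9, 3],
    [3, 8, 9, 9, 3, 8, 8, 9, 3, 9, 3, 8, 8, 9, 3, 3, 8, 9, 8, 9, 3, 3, 8, 9, 9, 3, 8],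
    [3, 9, 8, 9, 8, 3, 8, 3, 9, 8, 3, 9, 3, 9, 8, 9, 8, 3, 9, 8, 3, 8, 3, 9, 3, 9, 8],
    [3, 9, 8, 8, 3, 9, 9, 8, 3, 9, 8, 3, 3, 9, 8, 8, 3, 9, 8, 3, 9, 9, 8, 3, 3, 9, 8],
    [0, 0, 0, 0, 0, 0, 0, 0, 0, 0, 0, 0, 0, 0, 0, 0, 0, 0, 0, 0, 0, 0, 0, 0, 0, 0, 0],
    [0, 0, 0, 0, 0, 0, 0, 0, 0, 0, 0, 0, 0, 0, 0, 0, 0, 0, 0, 0, 0, 0, 0, 0, 0, 0, 0],
    [0, 0, 0, 0, 0, 0, 0, 0, 0, 0, 0, 0, 0, 0, 0, 0, 0, 0, 0, 0, 0, 0, 0, 0, 0, 0, 0],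
    [0, 0, 0, 0, 0, 0, 0, 0, 0, 0, 0, 0, 0, 0, 0, 0, 0, 0, 0, 0, 0, 0, 0, 0, 0, 0, 0],
    [0, 0, 0, 0, 0, 0, 0, 0, 0, 0, 0, 0, 0, 0, 0, 0, 0, 0, 0, 0, 0, 0, 0, 0, 0, 0, 0],
    [0, 0, 0, 0, 0, 0, 0, 0, 0, 0, 0, 0, 0, 0, 0, 0, 0, 0, 0, 0, 0, 0, 0, 0, 0, 0, 0],
    [0, 0, 0, 0, 0, 0, 0, 0, 0, 0, 0, 0, 0, 0, 0, 0, 0, 0, 0, 0, 0, 0, 0, 0, 0, 0, 0],
    [0, 0, 0, 0, 0, 0, 0, 0, 0, 0, 0, 0, 0, 0, 0, 0, 0, 0, 0, 0, 0, 0, 0, 0, 0, 0, 0],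
    [0, 0, 0, 0, 0, 0, 0, 0, 0, 0, 0, 0, 0, 0, 0, 0, 0, 0, 0, 0, 0, 0, 0, 0, 0, 0, 0],
    [0, 0, 0, 0, 0, 0, 0, 0, 0, 0, 0, 0, 0, 0, 0, 0, 0, 0, 0, 0, 0, 0, 0, 0, 0, 0, 0],
    [0, 0, 0, 0, 0, 0, 0, 0, 0, 0, 0, 0, 0, 0, 0, 0, 0, 0, 0, 0, 0, 0, 0, 0, 0, 0, 0],
    [0, 0, 0, 0, 0, 0, 0, 0, 0, 0, 0, 0, 0, 0, 0, 0, 0, 0, 0, 0, 0, 0, 0, 0, 0, 0, 0]]
  rep := ![((0, 0, 0), 0), ((0, 0, 0), 1), ((0, 0, 0), 4), ((0, 0, 0), 8), ((0, 0, 1), 0), ((0, 0, 1), 3), ((0, 0, 1), 4), ((0, 0, 1), 5), ((0, 0, 1), 8), ((0, 0, 1), 10), ((0, 1, 1), 0), ((1, 1, 1), 0), ((1, 1, 2), 0)]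
  size := ![1, 27, 36, 36, 6, 54, 36, 36, 36, 36, 12, 4, 4]
  term := ![
    ⟨(0, 0, 0), [(0, 0), (1, 0), (2, 0), (3, 0), (4, 0), (5, 0), (6, 0), (7, 0), (8, 0), (9, 0), (10, 0), (11, 0)]⟩,
    ⟨(0, 0, 0), [(0, 0), (1, 0), (2, 0), (3, 0), (4, 4), (5, 4), (6, 4), (7, 4), (8, 8), (9, 8), (10, 8), (11, 8)]⟩,
    ⟨(0, 0, 0), [(0, 0), (1, 0), (2, 0), (3, 0), (4, 8), (5, 8), (6, 8), (7, 8), (8, 4), (9, 4), (10, 4), (11, 4)]⟩,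
    ⟨(0, 0, 0), [(0, 0), (1, 0), (2, 6), (3, 6)]⟩,
    ⟨(1, 0, 0), [(0, 0), (1, 0)]⟩,
    ⟨(1, 0, 0), [(0, 0), (1, 6)]⟩,
    ⟨(0, 1, 1), [(0, 0)]⟩,
    ⟨(1, 1, 1), [(0, 0), (4, 0), (8, 0)]⟩,
    ⟨(1, 1, 1), [(0, 0), (4, 4), (8, 8)]⟩,
    ⟨(1, 1, 1), [(0, 0), (4, 8), (8, 4)]⟩,
    ⟨(2, 2, 2), [(0, 0), (4, 0), (8, 0)]⟩,
    ⟨(2, 2, 2), [(0, 0), (4, 4), (8, 8)]⟩,
    ⟨(2, 2, 2), [(0, 0), (4, 8), (8, 4)]⟩]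
  sums := ![
    ![(1, 0, 0, 0), (27, 0, 0, 0), (36, 0, 0, 0), (36, 0, 0, 0), (6, 0, 0, 0), (54, 0, 0, 0), (36, 0, 0, 0), (36, 0, 0, 0), (36, 0, 0, 0), (36, 0, 0, 0), (12, 0, 0, 0), (4, 0, 0, 0), (4, 0, 0, 0)],
    ![(1, 0, 0, 0), (27, 0, 0, 0), (-36, 0, 36, 0), (0, 0, -36, 0), (6, 0, 0, 0), (54, 0, 0, 0), (-36, 0, 36, 0), (-36, 0, 36, 0), (0, 0, -36, 0), (0, 0, -36, 0), (12, 0, 0, 0), (4, 0, 0, 0), (4, 0, 0, 0)],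
    ![(1, 0, 0, 0), (27, 0, 0, 0), (0, 0, -36, 0), (-36, 0, 36, 0), (6, 0, 0, 0), (54, 0, 0, 0), (0, 0, -36, 0), (0, 0, -36, 0), (-36, 0, 36, 0), (-36, 0, 36, 0), (12, 0, 0, 0), (4, 0, 0, 0), (4, 0, 0, 0)],
    ![(1, 0, 0, 0), (-9, 0, 0, 0), (0, 0, 0, 0), (0, 0, 0, 0), (6, 0, 0, 0), (-18, 0, 0, 0), (0, 0, 0, 0), (0, 0, 0, 0), (0, 0, 0, 0), (0, 0, 0, 0), (12, 0, 0, 0), (4, 0, 0, 0), (4, 0, 0, 0)],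
    ![(1, 0, 0, 0), (9, 0, 0, 0), (0, 0, 0, 0), (0, 0, 0, 0), (3, 0, 0, 0), (-9, 0, 0, 0), (0, 0, 0, 0), (0, 0, 0, 0), (0, 0, 0, 0), (0, 0, 0, 0), (0, 0, 0, 0), (-2, 0, 0, 0), (-2, 0, 0, 0)],
    ![(1, 0, 0, 0), (-9, 0, 0, 0), (0, 0, 0, 0), (0, 0, 0, 0), (3, 0, 0, 0), (9, 0, 0, 0), (0, 0, 0, 0), (0, 0, 0, 0), (0, 0, 0, 0), (0, 0, 0, 0), (0, 0, 0, 0), (-2, 0, 0, 0), (-2, 0, 0, 0)],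
    ![(1, 0, 0, 0), (0, 0, 0, 0), (0, 0, 0, 0), (0, 0, 0, 0), (0, 0, 0, 0), (0, 0, 0, 0), (0, 0, 0, 0), (0, 0, 0, 0), (0, 0, 0, 0), (0, 0, 0, 0), (-3, 0, 0, 0), (1, 0, 0, 0), (1, 0, 0, 0)],
    ![(1, 0, 0, 0), (0, 0, 0, 0), (9, 0, 0, 0), (9, 0, 0, 0), (-3, 0, 0, 0), (0, 0, 0, 0), (-9, 0, 9, 0), (0, 0, -9, 0), (-9, 0, 9, 0), (0, 0, -9, 0), (3, 0, 0, 0), (1, 0, -3, 0), (-2, 0, 3, 0)],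
    ![(1, 0, 0, 0), (0, 0, 0, 0), (-9, 0, 9, 0), (0, 0, -9, 0), (-3, 0, 0, 0), (0, 0, 0, 0), (0, 0, -9, 0), (9, 0, 0, 0), (9, 0, 0, 0), (-9, 0, 9, 0), (3, 0, 0, 0), (1, 0, -3, 0), (-2, 0, 3, 0)],
    ![(1, 0, 0, 0), (0, 0, 0, 0), (0, 0, -9, 0), (-9, 0, 9, 0), (-3, 0, 0, 0), (0, 0, 0, 0), (9, 0, 0, 0), (-9, 0, 9, 0), (0, 0, -9, 0), (9, 0, 0, 0), (3, 0, 0, 0), (1, 0, -3, 0), (-2, 0, 3, 0)],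
    ![(1, 0, 0, 0), (0, 0, 0, 0), (9, 0, 0, 0), (9, 0, 0, 0), (-3, 0, 0, 0), (0, 0, 0, 0), (0, 0, -9, 0), (-9, 0, 9, 0), (0, 0, -9, 0), (-9, 0, 9, 0), (3, 0, 0, 0), (-2, 0, 3, 0), (1, 0, -3, 0)],
    ![(1, 0, 0, 0), (0, 0, 0, 0), (-9, 0, 9, 0), (0, 0, -9, 0), (-3, 0, 0, 0), (0, 0, 0, 0), (9, 0, 0, 0), (0, 0, -9, 0), (-9, 0, 9, 0), (9, 0, 0, 0), (3, 0, 0, 0), (-2, 0, 3, 0), (1, 0, -3, 0)],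
    ![(1, 0, 0, 0), (0, 0, 0, 0), (0, 0, -9, 0), (-9, 0, 9, 0), (-3, 0, 0, 0), (0, 0, 0, 0), (-9, 0, 9, 0), (9, 0, 0, 0), (9, 0, 0, 0), (0, 0, -9, 0), (3, 0, 0, 0), (-2, 0, 3, 0), (1, 0, -3, 0)]]
  coef := ![
    ![1, 0, 0, 1, 0, 0, 0, -1, 0, 0, 0, 0, 0],
    ![1, 0, 0, 1, 0, 0, 0, 0, 0, 0, -1, 0, 0],
    ![0, 1, 0, 1, 0, 0, 0, 0, -1, 0, 0, 0, 0],
    ![0, 1, 0, 1, 0, 0, 0, 0, 0, 0, 0, -1, 0],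
    ![0, 0, 1, 1, 0, 0, 0, 0, 0, -1, 0, 0, 0],
    ![0, 0, 1, 1, 0, 0, 0, 0, 0, 0, 0, 0, -1],
    ![1, 1, 1, 1, -1, 0, 0, 0, 0, 0, 0, 0, 0],
    ![0, 0, 0, 0, 0, 0, -1, 1, 1, 1, 0, 0, 0],
    ![0, 0, 0, 0, 0, 0, -1, 0, 0, 0, 1, 1, 1],
    ![0, 0, 0, 0, 1, 1, -1, 0, 0, 0, 0, 0, 0]]
  val := ![
    ![(0, 0, 0, 0), (0, 0, 0, 0), (0, 0, 0, 0), (0, 0, 0, 0), (6, 0, 0, 0), (0, 0, 0, 0), (2, 0, -1, 0), (1, 0, 1, 0), (2, 0, -1, 0), (1, 0, 1, 0), (3, 0, 0, 0), (3, 0, 3, 0), (6, 0, -3, 0)],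
    ![(0, 0, 0, 0), (0, 0, 0, 0), (0, 0, 0, 0), (0, 0, 0, 0), (6, 0, 0, 0), (0, 0, 0, 0), (1, 0, 1, 0), (2, 0, -1, 0), (1, 0, 1, 0), (2, 0, -1, 0), (3, 0, 0, 0), (6, 0, -3, 0), (3, 0, 3, 0)],
    ![(0, 0, 0, 0), (0, 0, 0, 0), (0, 0, 0, 0), (0, 0, 0, 0), (6, 0, 0, 0), (0, 0, 0, 0), (-1, 0, 2, 0), (-2, 0, 1, 0), (-1, 0, -1, 0), (1, 0, -2, 0), (3, 0, 0, 0), (3, 0, 3, 0), (6, 0, -3, 0)],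
    ![(0, 0, 0, 0), (0, 0, 0, 0), (0, 0, 0, 0), (0, 0, 0, 0), (6, 0, 0, 0), (0, 0, 0, 0), (-2, 0, 1, 0), (-1, 0, 2, 0), (1, 0, -2, 0), (-1, 0, -1, 0), (3, 0, 0, 0), (6, 0, -3, 0), (3, 0, 3, 0)],
    ![(0, 0, 0, 0), (0, 0, 0, 0), (0, 0, 0, 0), (0, 0, 0, 0), (6, 0, 0, 0), (0, 0, 0, 0), (-1, 0, -1, 0), (1, 0, -2, 0), (-1, 0, 2, 0), (-2, 0, 1, 0), (3, 0, 0, 0), (3, 0, 3, 0), (6, 0, -3, 0)],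
    ![(0, 0, 0, 0), (0, 0, 0, 0), (0, 0, 0, 0), (0, 0, 0, 0), (6, 0, 0, 0), (0, 0, 0, 0), (1, 0, -2, 0), (-1, 0, -1, 0), (-2, 0, 1, 0), (-1, 0, 2, 0), (3, 0, 0, 0), (6, 0, -3, 0), (3, 0, 3, 0)],
    ![(0, 0, 0, 0), (0, 0, 0, 0), (0, 0, 0, 0), (0, 0, 0, 0), (3, 0, 0, 0), (3, 0, 0, 0), (0, 0, 0, 0), (0, 0, 0, 0), (0, 0, 0, 0), (0, 0, 0, 0), (6, 0, 0, 0), (9, 0, 0, 0), (9, 0, 0, 0)],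
    ![(0, 0, 0, 0), (0, 0, 0, 0), (0, 0, 0, 0), (0, 0, 0, 0), (-6, 0, 0, 0), (0, 0, 0, 0), (0, 0, 0, 0), (0, 0, 0, 0), (0, 0, 0, 0), (0, 0, 0, 0), (6, 0, 0, 0), (0, 0, -9, 0), (-9, 0, 9, 0)],
    ![(0, 0, 0, 0), (0, 0, 0, 0), (0, 0, 0, 0), (0, 0, 0, 0), (-6, 0, 0, 0), (0, 0, 0, 0), (0, 0, 0, 0), (0, 0, 0, 0), (0, 0, 0, 0), (0, 0, 0, 0), (6, 0, 0, 0), (-9, 0, 9, 0), (0, 0, -9, 0)],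
    ![(0, 0, 0, 0), (0, 0, 0, 0), (0, 0, 0, 0), (0, 0, 0, 0), (6, 0, 0, 0), (0, 0, 0, 0), (0, 0, 0, 0), (0, 0, 0, 0), (0, 0, 0, 0), (0, 0, 0, 0), (3, 0, 0, 0), (-9, 0, 0, 0), (-9, 0, 0, 0)]]
  gram := ![
    ![3, 2, 1, 1, 1, 1, 2, -1, 0, 0],
    ![2, 3, 1, 1, 1, 1, 2, 0, -1, 0],
    ![1, 1, 3, 2, 1, 1, 2, -1, 0, 0],
    ![1, 1, 2, 3, 1, 1, 2, 0, -1, 0],
    ![1, 1, 1, 1, 3, 2, 2, -1, 0, 0],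
    ![1, 1, 1, 1, 2, 3, 2, 0, -1, 0],
    ![2, 2, 2, 2, 2, 2, 5, 0, 0, -1],
    ![-1, 0, -1, 0, -1, 0, 0, 4, 1, 1],
    ![0, -1, 0, -1, 0, -1, 0, 1, 4, 1],
    ![0, 0, 0, 0, 0, 0, -1, 1, 1, 3]]

theorem tabA_ok : tabA.Ok where
  nH_ok := Or.inl rfl
  cls_rep := by decide +kernel
  inv_h := by decide +kernel
  inv_v := by decide +kernel
  wit := by decide +kernel
  size_ok := by decide +kernel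
  term_one := by decide +kernel
  term_low := by decide +kernel
  term_nodup := by decide +kernel
  term_mul := by decide +kernel
  term_lookup := by decide +kernel
  term_dvd := by decide +kernel
  sums_ok := by decide +kernel
  val_ok := by decide +kernel
  off := by decide +kernel
  gram_ok := by decide +kernel

/-- The elements of a class. -/
def tabAClass (c : Fin 13) : List W := (allW 12).filter fun w => decide (tabA.cls w = c)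

theorem tabA_inv : ∀ w ∈ allW 12, powW w 2 = oneW → w ≠ oneW → tabA.cls w = 1 := by decide +kernel

theorem tabA_inv_class : ∀ c ∈ ([1] : List (Fin 13)), ∀ w ∈ tabAClass c, powW w 2 = oneW ∧ w ≠ oneW := by
  decide +kernel

theorem tabA_rep : tabA.rep 0 = oneW ∧ tabA.rep 1 = ((0, 0, 0), 1) := by decide +kernel

theorem tabA_qTT : ∀ i, zsum ((tabAClass 1).flatMap fun p => (tabAClass 1).map fun q =>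
    tabA.val i (tabA.cls (mulW p q))) = ((![972, 972, 972, 972, 972, 972, 1944, 0, 0, 972] : Fin 10 → ℤ) i, 0, 0, 0) := by
  decide +kernel

theorem tabA_conj : ∀ c, conjZ (tabA.val 2 c) = tabA.val 5 c ∧ conjZ (tabA.val 3 c) = tabA.val 4 c := by
  decide +kernel

end Cfsg.Agent.Lib.McL3NonSing87.Model
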