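import Cfsg.Agent.Lib.McL3NonSing87.Equations
import Cfsg.Agent.Lib.McL3NonSing87.TabA
import Cfsg.Agent.Lib.McL3NonSing87.AlgA

/-!
# A character of degree three in the first case
-/

set_option autoImplicit false
set_option linter.style.haveILetI false
set_option linter.unusedSectionVars false
set_option maxRecDepth 100000
set_option maxHeartbeats 2000000
set_option synthInstance.maxSize 4000

namespace Cfsg.Agent.Lib.McL3NonSing87

open Subgroup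
open Cfsg.Agent.Lib.McL3Local35
open Cfsg.Agent.Lib.Characters.Basic
open Cfg (yX lw)
open scoped ComplexConjugate

namespace Model

/-- The entries at the trivial character. -/
def tA : Fin 10 → ℤ := ![1, 1, 0, 0, 0, 0, 1, 0, 0, 0]

theorem tabA_t : ∀ k, zsum ((List.finRange 13).map fun c => zsmul' (tabA.size c) (tabA.val k c)) =
    (27 * (tabA.nH : ℤ) * tA k, 0, 0, 0) := by decide +kernel

theorem tabA_small : ∀ i, tabA.gram i i ≤ 15 := by decide +kernel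

theorem tabA_conj' : ∀ c, conjZ (tabA.val 5 c) = tabA.val 2 c := by decide +kernel

/-- The last of the three states, the only one with integral degrees. -/
def liveA : List (List ℤ) :=
  [[1, 1, 1, 1, 1, 1, 1, 0, 0, 0], [1, 0, 0, 0, 0, 0, 0, -1, 0, 0], [0, 1, 0, 0, 0, 0, 0, 0, -1, 0],
    [0, 0, 1, 1, 0, 0, 1, 0, 0, 0], [0, 0, 1, 0, 0, 0, 0, -1, 0, 0], [0, 0, 0, 1, 0, 0, 0, 0, -1, 0],
    [0, 0, 0, 0, 1, 1, 1, 0, 0, 0], [0, 0, 0, 0, 1, 0, 0, -1, 0, 0], [0, 0, 0, 0, 0, 1, 0, 0, -1, 0],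
    [0, 0, 0, 0, 0, 0, 1, 0, 0, -1], [0, 0, 0, 0, 0, 0, 0, 1, 1, 1], [0, 0, 0, 0, 0, 0, 0, 0, 0, 1]]

/-- The rows of the live state. -/
def RA : Fin 12 → Fin 10 → ℤ := ![
    ![1, 1, 1, 1, 1, 1, 1, 0, 0, 0],
    ![1, 0, 0, 0, 0, 0, 0, -1, 0, 0],
    ![0, 1, 0, 0, 0, 0, 0, 0, -1, 0],
    ![0, 0, 1, 1, 0, 0, 1, 0, 0, 0],
    ![0, 0, 1, 0, 0, 0, 0, -1, 0, 0],
    ![0, 0, 0, 1, 0, 0, 0, 0, -1, 0],
    ![0, 0, 0, 0, 1, 1, 1, 0, 0, 0],
    ![0, 0, 0, 0, 1, 0, 0, -1, 0, 0],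
    ![0, 0, 0, 0, 0, 1, 0, 0, -1, 0],
    ![0, 0, 0, 0, 0, 0, 1, 0, 0, -1],
    ![0, 0, 0, 0, 0, 0, 0, 1, 1, 1],
    ![0, 0, 0, 0, 0, 0, 0, 0, 0, 1]]

theorem RA_eq : (fun (i : Fin 12) (k : Fin 10) => (liveA.get i).getD k.val 0) = RA := by decide +kernel

theorem statesA : Rows.states tabA.gram tA =
    [[1, 1, 0, 0, 0, 0, 1, 0, 0, 0] :: [[1, 1, 1, 1, 1, 1, 1, -1, -1, 0], [1, 0, 0, 0, 0, 0, 0, 0, 1, 0],
        [0, 1, 0, 0, 0, 0, 0, 1, 0, 0], [0, 0, 1, 1, 0, 0, 0, 0, 0, 0], [0, 0, 1, 0, 0, 0, 1, 0, 1, 0],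
        [0, 0, 0, 1, 0, 0, 1, 1, 0, 0], [0, 0, 0, 0, 1, 1, 1, 0, 0, -1], [0, 0, 0, 0, 1, 0, 0, 0, 1, 1],
        [0, 0, 0, 0, 0, 1, 0, 1, 0, 1]],
      [1, 1, 0, 0, 0, 0, 1, 0, 0, 0] :: [[1, 1, 1, 1, 1, 1, 1, -1, -1, 0], [1, 0, 0, 0, 0, 0, 0, 0, 1, 0],
        [0, 1, 0, 0, 0, 0, 0, 1, 0, 0], [0, 0, 1, 1, 0, 0, 1, 0, 0, -1], [0, 0, 1, 0, 0, 0, 0, 0, 1, 1],
        [0, 0, 0, 1, 0, 0, 0, 1, 0, 1], [0, 0, 0, 0, 1, 1, 0, 0, 0, 0], [0, 0, 0, 0, 1, 0, 1, 0, 1, 0],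
        [0, 0, 0, 0, 0, 1, 1, 1, 0, 0]],
      [1, 1, 0, 0, 0, 0, 1, 0, 0, 0] :: liveA] := by decide +kernel

end Model

open Model (oneW powW tabA tabA_ok tA)

/-- In the first case some character of degree three has a nonzero sum over a coset of `⟨y⟩`. -/
theorem exists_threeA {G : Type*} [Group G] [Finite G] (d : Std G) (h : d.CaseA) :
    ∃ (χ : Cfsg.IrrCharacter (Cy d)) (g : Cy d), (χ : Cy d → ℂ) 1 = 3 ∧
      ∑ i : ZMod 3, (χ : Cy d → ℂ) (yX i * g) ≠ 0 := by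
  classical
  haveI : Fintype (Cfsg.IrrCharacter (Cy d)) := Fintype.ofFinite _
  let C : Cfg d := ⟨1, 12, Or.inl ⟨rfl, h⟩⟩
  have hT := tabA_ok
  have hnH : tabA.nH = C.nH := rfl
  obtain ⟨hd, tl, hrows, hdata⟩ := C.rows_data hT hnH tA Model.tabA_small Model.tabA_t
  rw [Model.statesA] at hrows
  simp only [List.mem_cons, List.not_mem_nil, or_false, List.cons.injEq] at hrows
  rcases hrows with ⟨-, rfl⟩ | ⟨-, rfl⟩ | ⟨-, rfl⟩
  · exfalso
    obtain ⟨x, D, -, -, -, -, -, -, -, hdeg, -, -⟩ := hdata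
    have h0 := hdeg 0; have h1 := hdeg 1; have h2 := hdeg 2; have h3 := hdeg 3; have h4 := hdeg 4
    have h5 := hdeg 5; have h6 := hdeg 6; have h7 := hdeg 7; have h8 := hdeg 8; have h9 := hdeg 9
    simp [Fin.sum_univ_succ, tA] at h0 h1 h2 h3 h4 h5 h6 h7 h8 h9
    omega
  · exfalso
    obtain ⟨x, D, -, -, -, -, -, -, -, hdeg, -, -⟩ := hdata
    have h0 := hdeg 0; have h1 := hdeg 1; have h2 := hdeg 2; have h3 := hdeg 3; have h4 := hdeg 4
    have h5 := hdeg 5; have h6 := hdeg 6; have h7 := hdeg 7; have h8 := hdeg 8; have h9 := hdeg 9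
    simp [Fin.sum_univ_succ, tA] at h0 h1 h2 h3 h4 h5 h6 h7 h8 h9
    omega
  obtain ⟨x, D, hD0, hDx, hs, hne, hinj, hcov, hent, hdeg, hval, hquad⟩ :
      C.RowsData hT hnH tA 12 Model.RA := Model.RA_eq ▸ hdata
  -- the complex conjugate of the fourth character
  set cW : Cfsg.IrrCharacter (Cy d) := ⟨fun g => conj (((x 3).1 : Cy d → ℂ) g),
    Cfsg.Agent.Lib.Characters.Linear.isIrrCharacter_conj (x 3).1.2⟩ with hcW
  have c2 : C.fint hT hnH 5 cW = C.fint hT hnH 2 (x 3).1 :=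
    C.fint_conj hT hnH (fun c => (Model.tabA_conj c).1) fun _ => rfl
  have c3 : C.fint hT hnH 4 cW = C.fint hT hnH 3 (x 3).1 :=
    C.fint_conj hT hnH (fun c => (Model.tabA_conj c).2) fun _ => rfl
  have c5 : C.fint hT hnH 2 cW = C.fint hT hnH 5 (x 3).1 :=
    C.fint_conj hT hnH Model.tabA_conj' fun _ => rfl
  have w2 : (x 3).2 * C.fint hT hnH 2 (x 3).1 = 1 := hent 3 2
  have w3 : (x 3).2 * C.fint hT hnH 3 (x 3).1 = 1 := hent 3 3
  have w5 : (x 3).2 * C.fint hT hnH 5 (x 3).1 = 0 := hent 3 5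
  have hne5 : C.fint hT hnH 5 cW ≠ 0 := by
    intro h0; rw [c2] at h0; rw [h0, mul_zero] at w2; exact zero_ne_one w2
  have hne4 : C.fint hT hnH 4 cW ≠ 0 := by
    intro h0; rw [c3] at h0; rw [h0, mul_zero] at w3; exact zero_ne_one w3
  have hz2 : C.fint hT hnH 2 cW = 0 := by
    rw [c5]; rcases hs 3 with e | e <;> rw [e] at w5 <;> omega
  have hW : (x 6).1 = cW := by
    rcases hcov cW 5 hne5 with ho | ⟨i, hi⟩
    · exfalso
      rw [ho, C.fint_one hT hnH 5 (Model.tabA_t 5)] at hne5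
      exact hne5 rfl
    · have key : ∀ i : Fin 12, Model.RA i 5 ≠ 0 → Model.RA i 4 ≠ 0 → Model.RA i 2 = 0 → i = 6 := by
        decide +kernel
      have e5 : (x i).2 * C.fint hT hnH 5 (x i).1 = Model.RA i 5 := hent i 5
      have e4 : (x i).2 * C.fint hT hnH 4 (x i).1 = Model.RA i 4 := hent i 4
      have e2 : (x i).2 * C.fint hT hnH 2 (x i).1 = Model.RA i 2 := hent i 2
      rw [hi] at e5 e4 e2
      have hs0 : (x i).2 ≠ 0 := by rcases hs i with e | e <;> rw [e] <;> decide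
      obtain rfl := key i (e5 ▸ mul_ne_zero hs0 hne5) (e4 ▸ mul_ne_zero hs0 hne4)
        (by rw [← e2, hz2, mul_zero])
      exact hi
  have hsign : (x 6).2 = (x 3).2 := by
    have w6 : (x 6).2 * C.fint hT hnH 5 (x 6).1 = 1 := hent 6 5
    rw [hW, c2] at w6
    rcases hs 6 with e | e <;> rcases hs 3 with e' | e' <;> rw [e] at w6 ⊢ <;> rw [e'] at w2 ⊢ <;> omega
  have hDW : D 6 = D 3 := by
    have e : (D 6 : ℂ) = (D 3 : ℂ) := by
      rw [hDx, hDx, hsign, hW]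
      show _ * conj (((x 3).1 : Cy d → ℂ) 1) = _
      rw [conj_apply_one (isCharacter_irr _)]
    exact_mod_cast e
  -- the involution
  set t := lw C (C.repW hT hnH 1) with htdef
  have hinv : ∀ w ∈ Model.allW tabA.nH, tabA.cls w = 1 → powW w 2 = oneW ∧ w ≠ oneW := fun w hw hc =>
    Model.tabA_inv_class 1 (by simp) w (List.mem_filter.2 ⟨hw, decide_eq_true hc⟩)
  have hsep : ∀ w : C.Wn, powW w.1 2 = oneW → w.1 ≠ oneW → ∀ x : Cy d,
      x * lw C (C.repW hT hnH 1) * x⁻¹ = lw C w → tabA.cls w.1 = 1 := fun w h2 h1 _ _ =>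
    Model.tabA_inv w.1 (C.mem_allW hT hnH w) h2 h1
  have ht2 : t * t = 1 := C.lw_sq (hinv _ (C.mem_allW hT hnH (C.repW hT hnH 1)) (hT.cls_rep 1).2).1
  set Λ : ℂ := (Nat.card (centralizer ({t} : Set (Cy d))) : ℂ) * (Nat.card (centralizer ({t} : Set (Cy d))) : ℂ) /
    ((Nat.card (NX d) : ℂ) * (Nat.card (Cy d) : ℂ)) with hΛ
  have hΛ0 : Λ ≠ 0 := div_ne_zero (mul_ne_zero (Nat.cast_ne_zero.2 Nat.card_pos.ne')
    (Nat.cast_ne_zero.2 Nat.card_pos.ne')) (mul_ne_zero (Nat.cast_ne_zero.2 Nat.card_pos.ne')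
    (Nat.cast_ne_zero.2 Nat.card_pos.ne'))
  obtain ⟨s, hs2⟩ := IsAlgClosed.exists_pow_nat_eq (243 * Λ) (n := 2) (by norm_num)
  have hs0 : s ≠ 0 := fun h0 => by
    rw [h0, zero_pow (by norm_num)] at hs2
    exact mul_ne_zero (by norm_num) hΛ0 hs2.symm
  set σ : Fin 12 → ℂ := fun i => (x i).2 * ((x i).1 : Cy d → ℂ) t with hσ
  have hq : ∀ k : Fin 10, (tA k : ℂ) + ∑ i, (Model.RA i k : ℂ) * (σ i * σ i / (D i : ℂ)) =
      Λ * ((![972, 972, 972, 972, 972, 972, 1944, 0, 0, 972] : Fin 10 → ℤ) k : ℂ) := fun k =>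
    (hquad k t t).symm.trans (C.quad hT hnH k 1 1 hinv hinv hsep hsep (Model.tabA_qTT k))
  have hσ6 : σ 6 = σ 3 := by
    simp only [hσ]
    rw [hsign, hW]
    show _ * conj (((x 3).1 : Cy d → ℂ) t) = _
    rw [← apply_inv (isCharacter_irr _), inv_eq_of_mul_eq_one_right ht2]
  have l0 := hval 0 t ht2; have l2 := hval 2 t ht2; have l4 := hval 4 t ht2
  have l6 := hval 6 t ht2; have l7 := hval 7 t ht2
  have d0 := hdeg 0; have d2 := hdeg 2; have d4 := hdeg 4; have d6 := hdeg 6; have d7 := hdeg 7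
  have q0 := hq 0; have q2 := hq 2; have q6 := hq 6; have q7 := hq 7
  simp [Fin.sum_univ_succ, Model.RA, tA] at l0 l2 l4 l6 l7 d0 d2 d4 d6 d7 q0 q2 q6 q7
  have e1 : (D 1 : ℂ) = -(1 + (D 0 : ℂ)) := by exact_mod_cast (show D 1 = -(1 + D 0) by omega)
  have e4 : (D 4 : ℂ) = -((D 0 : ℂ) + D 3) := by exact_mod_cast (show D 4 = -(D 0 + D 3) by omega)
  have e7 : (D 7 : ℂ) = -((D 0 : ℂ) + D 3) := by exact_mod_cast (show D 7 = -(D 0 + D 3) by omega)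
  have e9 : (D 9 : ℂ) = -(1 + (D 0 : ℂ) + 2 * D 3) := by
    exact_mod_cast (show D 9 = -(1 + D 0 + 2 * D 3) by omega)
  have e10 : (D 10 : ℂ) = -(1 + 3 * (D 0 : ℂ) + 2 * D 3) := by
    exact_mod_cast (show D 10 = -(1 + 3 * D 0 + 2 * D 3) by omega)
  have hD : ∀ i, (D i : ℂ) ≠ 0 := fun i => Int.cast_ne_zero.2 (hD0 i)
  have e6 : (D 6 : ℂ) = D 3 := by rw [hDW]
  obtain ⟨hn, hm⟩ := Alg.caseA (n := (D 0 : ℂ)) (m := (D 3 : ℂ)) (τ := 1 / s) (x := σ 0 / s) (w := σ 3 / s)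
    (p0 := σ 1 / s) (p1 := σ 4 / s) (p2 := σ 7 / s) (X := σ 9 / s) (E := σ 10 / s) (hD 0) (hD 3)
    (fun h0 => hD 1 (by rw [e1, h0, neg_zero])) (fun h0 => hD 4 (by rw [e4, h0, neg_zero]))
    (fun h0 => hD 9 (by rw [e9, h0, neg_zero])) (fun h0 => hD 10 (by rw [e10, h0, neg_zero]))
    (by linear_combination (1 / s) * l0) (by linear_combination (1 / s) * l2)
    (by linear_combination (1 / s) * l4 - (1 / s) * hσ6)
    (by linear_combination (1 / s) * l6 - (1 / s) * hσ6)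
    (by linear_combination (1 / s) * l7)
    (by
      rw [e1, div_neg] at q0
      field_simp
      linear_combination q0 - 4 * hs2)
    (by
      rw [e4, div_neg] at q2
      field_simp
      linear_combination q2 - 4 * hs2)
    (by
      rw [e6, hσ6, e9, div_neg] at q6
      field_simp
      linear_combination q6 - 8 * hs2)
    (by
      rw [e1, e4, e7, e10, div_neg, div_neg, div_neg, div_neg] at q7
      field_simp
      linear_combination q7)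
  have hn3 : D 0 = 3 := by
    rcases mul_eq_zero.1 hm with h1 | h1
    · have hm1 : D 3 = 1 := by exact_mod_cast (show (D 3 : ℂ) = 1 by linear_combination (pow_eq_zero_iff (by norm_num)).1 h1)
      have hn' : D 0 = 1 + 2 * D 3 := by exact_mod_cast hn
      omega
    · have hm1 : 2 * D 3 + 1 = 0 := by exact_mod_cast (pow_eq_zero_iff (by norm_num)).1 h1
      omega
  obtain ⟨N, hN, hN1⟩ := exists_degree_pos (x 0).1
  have hchi : ((x 0).1 : Cy d → ℂ) 1 = 3 := by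
    have e := hDx 0
    rw [hn3, hN1] at e
    have e' : (3 : ℤ) = (x 0).2 * (N : ℤ) := by exact_mod_cast e
    rw [hN1]
    rcases hs 0 with e0 | e0 <;> rw [e0] at e'
    · exact_mod_cast (show N = 3 by omega)
    · omega
  have hk : C.fint hT hnH 0 (x 0).1 ≠ 0 := fun h0 => by
    have e : (x 0).2 * C.fint hT hnH 0 (x 0).1 = 1 := hent 0 0
    rw [h0, mul_zero] at e
    exact zero_ne_one e
  obtain ⟨w, hw⟩ := C.exists_fsum_ne hT hnH hk
  refine ⟨(x 0).1, C.E 0 w, hchi, ?_⟩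
  have e : ∀ i : ZMod 3, yX i * C.E 0 w = C.E i w := fun i => by rw [← C.E_shift, add_zero]
  simpa only [e, Cfg.fsum] using hw

end Cfsg.Agent.Lib.McL3NonSing87
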