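import Cfsg.Agent.Lib.McL3NonSing87.Tab

/-!
# The table of the second case
-/

set_option autoImplicit false
set_option maxRecDepth 100000
set_option maxHeartbeats 8000000
set_option synthInstance.maxSize 4000
set_option synthInstance.maxHeartbeats 400000

namespace Cfsg.Agent.Lib.McL3NonSing87.Model

/-- The table. -/
def tabB : Tab 13 14 10 where
  nH := 24
  clsT := [
    [0, 5, 5, 5, 12, 12, 5, 12, 12, 5, 12, 12, 12, 13, 13, 12, 13, 13, 5, 12, 12, 12, 13, 13, 12, 13, 13],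
    [1, 1, 1, 1, 1, 1, 1, 1, 1, 6, 6, 6, 6, 6, 6, 6, 6, 6, 6, 6, 6, 6, 6, 6, 6, 6, 6],
    [1, 1, 1, 6, 6, 6, 6, 6, 6, 1, 1, 1, 6, 6, 6, 6, 6, 6, 1, 1, 1, 6, 6, 6, 6, 6, 6],
    [1, 6, 6, 1, 6, 6, 1, 6, 6, 1, 6, 6, 1, 6, 6, 1, 6, 6, 1, 6, 6, 1, 6, 6, 1, 6, 6],
    [3, 7, 8, 7, 8, 3, 8, 3, 7, 7, 8, 3, 8, 3, 7, 3, 7, 8, 8, 3, 7, 3, 7, 8, 7, 8, 3],
    [3, 8, 7, 7, 3, 8, 8, 7, 3, 8, 7, 3, 3, 8, 7, 7, 3, 8, 7, 3, 8, 8, 7, 3, 3, 8, 7],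
    [3, 7, 8, 8, 3, 7, 7, 8, 3, 8, 3, 7, 7, 8, 3, 3, 7, 8, 7, 8, 3, 3, 7, 8, 8, 3, 7],
    [3, 8, 7, 8, 7, 3, 7, 3, 8, 7, 3, 8, 3, 8, 7, 8, 7, 3, 8, 7, 3, 7, 3, 8, 3, 8, 7],
    [3, 8, 7, 8, 7, 3, 7, 3, 8, 8, 7, 3, 7, 3, 8, 3, 8, 7, 7, 3, 8, 3, 8, 7, 8, 7, 3],
    [3, 8, 7, 7, 3, 8, 8, 7, 3, 7, 3, 8, 8, 7, 3, 3, 8, 7, 8, 7, 3, 3, 8, 7, 7, 3, 8],
    [3, 7, 8, 7, 8, 3, 8, 3, 7, 8, 3, 7, 3, 7, 8, 7, 8, 3, 7, 8, 3, 8, 3, 7, 3, 7, 8],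
    [3, 7, 8, 8, 3, 7, 7, 8, 3, 7, 8, 3, 3, 7, 8, 8, 3, 7, 8, 3, 7, 7, 8, 3, 3, 7, 8],
    [4, 4, 4, 4, 4, 4, 4, 4, 4, 11, 11, 11, 11, 11, 11, 11, 11, 11, 10, 10, 10, 10, 10, 10, 10, 10, 10],
    [4, 4, 4, 4, 4, 4, 4, 4, 4, 10, 10, 10, 10, 10, 10, 10, 10, 10, 11, 11, 11, 11, 11, 11, 11, 11, 11],
    [2, 9, 9, 9, 2, 9, 9, 9, 2, 2, 9, 9, 9, 2, 9, 9, 9, 2, 2, 9, 9, 9, 2, 9, 9, 9, 2],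
    [2, 9, 9, 9, 9, 2, 9, 2, 9, 2, 9, 9, 9, 9, 2, 9, 2, 9, 2, 9, 9, 9, 9, 2, 9, 2, 9],
    [2, 2, 2, 9, 9, 9, 9, 9, 9, 9, 9, 9, 9, 9, 9, 2, 2, 2, 9, 9, 9, 2, 2, 2, 9, 9, 9],
    [4, 10, 11, 4, 10, 11, 4, 10, 11, 4, 10, 11, 4, 10, 11, 4, 10, 11, 4, 10, 11, 4, 10, 11, 4, 10, 11],
    [4, 11, 10, 4, 11, 10, 4, 11, 10, 4, 11, 10, 4, 11, 10, 4, 11, 10, 4, 11, 10, 4, 11, 10, 4, 11, 10],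
    [2, 2, 2, 9, 9, 9, 9, 9, 9, 9, 9, 9, 2, 2, 2, 9, 9, 9, 9, 9, 9, 9, 9, 9, 2, 2, 2],
    [4, 4, 4, 10, 10, 10, 11, 11, 11, 4, 4, 4, 10, 10, 10, 11, 11, 11, 4, 4, 4, 10, 10, 10, 11, 11, 11],
    [2, 9, 9, 2, 9, 9, 2, 9, 9, 9, 2, 9, 9, 2, 9, 9, 2, 9, 9, 9, 2, 9, 9, 2, 9, 9, 2],
    [4, 4, 4, 11, 11, 11, 10, 10, 10, 4, 4, 4, 11, 11, 11, 10, 10, 10, 4, 4, 4, 11, 11, 11, 10, 10, 10],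
    [2, 9, 9, 2, 9, 9, 2, 9, 9, 9, 9, 2, 9, 9, 2, 9, 9, 2, 9, 2, 9, 9, 2, 9, 9, 2, 9]]
  rep := ![((0, 0, 0), 0), ((0, 0, 0), 1), ((0, 0, 0), 15), ((0, 0, 0), 4), ((0, 0, 0), 12), ((0, 0, 1), 0), ((0, 0, 1), 3), ((0, 0, 1), 4), ((0, 0, 1), 5), ((0, 0, 1), 14), ((0, 0, 1), 17), ((0, 0, 1), 18), ((0, 1, 1), 0), ((1, 1, 1), 0)]
  size := ![1, 27, 54, 72, 54, 6, 54, 72, 72, 108, 54, 54, 12, 8]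
  term := ![
    ⟨(0, 0, 0), [(0, 0), (1, 0), (2, 0), (3, 0), (4, 0), (5, 0), (6, 0), (7, 0), (8, 0), (9, 0), (10, 0), (11, 0), (12, 0), (13, 0), (14, 0), (15, 0), (16, 0), (17, 0), (18, 0), (19, 0), (20, 0), (21, 0), (22, 0), (23, 0)]⟩,
    ⟨(0, 0, 0), [(0, 0), (1, 0), (2, 0), (3, 0), (4, 0), (5, 0), (6, 0), (7, 0), (8, 0), (9, 0), (10, 0), (11, 0), (12, 6), (13, 6), (14, 6), (15, 6), (16, 6), (17, 6), (18, 6), (19, 6), (20, 6), (21, 6), (22, 6), (23, 6)]⟩,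
    ⟨(1, 0, 0), [(0, 0), (12, 0), (1, 0), (13, 0)]⟩,
    ⟨(1, 0, 0), [(0, 0), (12, 6), (1, 0), (13, 6)]⟩,
    ⟨(1, 0, 0), [(0, 0), (12, 3), (1, 6), (13, 9)]⟩,
    ⟨(1, 0, 0), [(0, 0), (12, 9), (1, 6), (13, 3)]⟩,
    ⟨(0, 1, 1), [(0, 0), (15, 0)]⟩,
    ⟨(0, 1, 1), [(0, 0), (15, 6)]⟩,
    ⟨(1, 1, 1), [(0, 0), (4, 0), (8, 0)]⟩,
    ⟨(1, 1, 1), [(0, 0), (4, 4), (8, 8)]⟩,
    ⟨(1, 1, 1), [(0, 0), (4, 8), (8, 4)]⟩,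
    ⟨(0, 0, 0), [(0, 0), (1, 0), (2, 0), (3, 0), (4, 4), (5, 4), (6, 4), (7, 4), (8, 8), (9, 8), (10, 8), (11, 8)]⟩,
    ⟨(0, 0, 0), [(0, 0), (1, 0), (2, 6), (3, 6), (12, 0), (13, 0), (14, 6), (15, 6)]⟩,
    ⟨(0, 0, 0), [(0, 0), (1, 0), (2, 6), (3, 6), (12, 6), (13, 6), (14, 0), (15, 0)]⟩]
  sums := ![
    ![(1, 0, 0, 0), (27, 0, 0, 0), (54, 0, 0, 0), (72, 0, 0, 0), (54, 0, 0, 0), (6, 0, 0, 0), (54, 0, 0, 0), (72, 0, 0, 0), (72, 0, 0, 0), (108, 0, 0, 0), (54, 0, 0, 0), (54, 0, 0, 0), (12, 0, 0, 0), (8, 0, 0, 0)],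
    ![(1, 0, 0, 0), (27, 0, 0, 0), (-54, 0, 0, 0), (72, 0, 0, 0), (-54, 0, 0, 0), (6, 0, 0, 0), (54, 0, 0, 0), (72, 0, 0, 0), (72, 0, 0, 0), (-108, 0, 0, 0), (-54, 0, 0, 0), (-54, 0, 0, 0), (12, 0, 0, 0), (8, 0, 0, 0)],
    ![(1, 0, 0, 0), (9, 0, 0, 0), (0, 0, 0, 0), (0, 0, 0, 0), (18, 0, 0, 0), (3, 0, 0, 0), (-9, 0, 0, 0), (0, 0, 0, 0), (0, 0, 0, 0), (0, 0, 0, 0), (-9, 0, 0, 0), (-9, 0, 0, 0), (0, 0, 0, 0), (-4, 0, 0, 0)],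
    ![(1, 0, 0, 0), (9, 0, 0, 0), (0, 0, 0, 0), (0, 0, 0, 0), (-18, 0, 0, 0), (3, 0, 0, 0), (-9, 0, 0, 0), (0, 0, 0, 0), (0, 0, 0, 0), (0, 0, 0, 0), (9, 0, 0, 0), (9, 0, 0, 0), (0, 0, 0, 0), (-4, 0, 0, 0)],
    ![(1, 0, 0, 0), (-9, 0, 0, 0), (0, 0, 0, 0), (0, 0, 0, 0), (0, 0, 0, 0), (3, 0, 0, 0), (9, 0, 0, 0), (0, 0, 0, 0), (0, 0, 0, 0), (0, 0, 0, 0), (0, 18, 0, -9), (0, -18, 0, 9), (0, 0, 0, 0), (-4, 0, 0, 0)],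
    ![(1, 0, 0, 0), (-9, 0, 0, 0), (0, 0, 0, 0), (0, 0, 0, 0), (0, 0, 0, 0), (3, 0, 0, 0), (9, 0, 0, 0), (0, 0, 0, 0), (0, 0, 0, 0), (0, 0, 0, 0), (0, -18, 0, 9), (0, 18, 0, -9), (0, 0, 0, 0), (-4, 0, 0, 0)],
    ![(1, 0, 0, 0), (0, 0, 0, 0), (9, 0, 0, 0), (0, 0, 0, 0), (0, 0, 0, 0), (0, 0, 0, 0), (0, 0, 0, 0), (0, 0, 0, 0), (0, 0, 0, 0), (-9, 0, 0, 0), (0, 0, 0, 0), (0, 0, 0, 0), (-3, 0, 0, 0), (2, 0, 0, 0)],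
    ![(1, 0, 0, 0), (0, 0, 0, 0), (-9, 0, 0, 0), (0, 0, 0, 0), (0, 0, 0, 0), (0, 0, 0, 0), (0, 0, 0, 0), (0, 0, 0, 0), (0, 0, 0, 0), (9, 0, 0, 0), (0, 0, 0, 0), (0, 0, 0, 0), (-3, 0, 0, 0), (2, 0, 0, 0)],
    ![(1, 0, 0, 0), (0, 0, 0, 0), (0, 0, 0, 0), (18, 0, 0, 0), (0, 0, 0, 0), (-3, 0, 0, 0), (0, 0, 0, 0), (-9, 0, 0, 0), (-9, 0, 0, 0), (0, 0, 0, 0), (0, 0, 0, 0), (0, 0, 0, 0), (3, 0, 0, 0), (-1, 0, 0, 0)],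
    ![(1, 0, 0, 0), (0, 0, 0, 0), (0, 0, 0, 0), (-9, 0, 0, 0), (0, 0, 0, 0), (-3, 0, 0, 0), (0, 0, 0, 0), (-9, 0, 0, 0), (18, 0, 0, 0), (0, 0, 0, 0), (0, 0, 0, 0), (0, 0, 0, 0), (3, 0, 0, 0), (-1, 0, 0, 0)],
    ![(1, 0, 0, 0), (0, 0, 0, 0), (0, 0, 0, 0), (-9, 0, 0, 0), (0, 0, 0, 0), (-3, 0, 0, 0), (0, 0, 0, 0), (18, 0, 0, 0), (-9, 0, 0, 0), (0, 0, 0, 0), (0, 0, 0, 0), (0, 0, 0, 0), (3, 0, 0, 0), (-1, 0, 0, 0)],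
    ![(1, 0, 0, 0), (27, 0, 0, 0), (0, 0, 0, 0), (-36, 0, 0, 0), (0, 0, 0, 0), (6, 0, 0, 0), (54, 0, 0, 0), (-36, 0, 0, 0), (-36, 0, 0, 0), (0, 0, 0, 0), (0, 0, 0, 0), (0, 0, 0, 0), (12, 0, 0, 0), (8, 0, 0, 0)],
    ![(1, 0, 0, 0), (-9, 0, 0, 0), (-18, 0, 0, 0), (0, 0, 0, 0), (18, 0, 0, 0), (6, 0, 0, 0), (-18, 0, 0, 0), (0, 0, 0, 0), (0, 0, 0, 0), (-36, 0, 0, 0), (18, 0, 0, 0), (18, 0, 0, 0), (12, 0, 0, 0), (8, 0, 0, 0)],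
    ![(1, 0, 0, 0), (-9, 0, 0, 0), (18, 0, 0, 0), (0, 0, 0, 0), (-18, 0, 0, 0), (6, 0, 0, 0), (-18, 0, 0, 0), (0, 0, 0, 0), (0, 0, 0, 0), (36, 0, 0, 0), (-18, 0, 0, 0), (-18, 0, 0, 0), (12, 0, 0, 0), (8, 0, 0, 0)]]
  coef := ![
    ![1, 0, -1, 0, 0, 0, 0, 0, 0, 0, 0, 1, 1, 0],
    ![0, 1, 0, -1, 0, 0, 0, 0, 0, 0, 0, 1, 0, 1],
    ![0, 0, 0, 0, -1, 0, 0, 0, 0, 0, 0, 0, 1, 1],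
    ![0, 0, 0, 0, 0, -1, 0, 0, 0, 0, 0, 0, 1, 1],
    ![0, 0, 0, 0, 0, 0, 0, 0, 0, -1, 0, 1, 1, 1],
    ![0, 0, 0, 0, 0, 0, 0, 0, 0, 0, -1, 1, 1, 1],
    ![1, 1, 0, 0, 0, 0, 0, 0, -1, 0, 0, 0, 1, 1],
    ![0, 0, -1, 0, -1, 0, 1, 0, 0, 0, 0, 0, 1, -1],
    ![0, 0, 0, -1, -1, 0, 0, 1, 0, 0, 0, 0, -1, 1],
    ![0, 0, -1, 0, 0, -1, 1, 0, 0, 0, 0, 0, 1, -1]]
  val := ![
    ![(0, 0, 0, 0), (0, 0, 0, 0), (0, 0, 0, 0), (0, 0, 0, 0), (0, 0, 0, 0), (3, 0, 0, 0), (3, 0, 0, 0), (0, 0, 0, 0), (0, 0, 0, 0), (0, 0, 0, 0), (3, 0, 0, 0), (3, 0, 0, 0), (6, 0, 0, 0), (9, 0, 0, 0)],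
    ![(0, 0, 0, 0), (0, 0, 0, 0), (0, 0, 0, 0), (0, 0, 0, 0), (0, 0, 0, 0), (3, 0, 0, 0), (3, 0, 0, 0), (0, 0, 0, 0), (0, 0, 0, 0), (0, 0, 0, 0), (-3, 0, 0, 0), (-3, 0, 0, 0), (6, 0, 0, 0), (9, 0, 0, 0)],
    ![(0, 0, 0, 0), (0, 0, 0, 0), (0, 0, 0, 0), (0, 0, 0, 0), (0, 0, 0, 0), (3, 0, 0, 0), (-3, 0, 0, 0), (0, 0, 0, 0), (0, 0, 0, 0), (0, 0, 0, 0), (0, -2, 0, 1), (0, 2, 0, -1), (6, 0, 0, 0), (9, 0, 0, 0)],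
    ![(0, 0, 0, 0), (0, 0, 0, 0), (0, 0, 0, 0), (0, 0, 0, 0), (0, 0, 0, 0), (3, 0, 0, 0), (-3, 0, 0, 0), (0, 0, 0, 0), (0, 0, 0, 0), (0, 0, 0, 0), (0, 2, 0, -1), (0, -2, 0, 1), (6, 0, 0, 0), (9, 0, 0, 0)],
    ![(0, 0, 0, 0), (0, 0, 0, 0), (0, 0, 0, 0), (0, 0, 0, 0), (0, 0, 0, 0), (12, 0, 0, 0), (0, 0, 0, 0), (0, 0, 0, 0), (-3, 0, 0, 0), (0, 0, 0, 0), (0, 0, 0, 0), (0, 0, 0, 0), (6, 0, 0, 0), (9, 0, 0, 0)],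
    ![(0, 0, 0, 0), (0, 0, 0, 0), (0, 0, 0, 0), (0, 0, 0, 0), (0, 0, 0, 0), (12, 0, 0, 0), (0, 0, 0, 0), (-3, 0, 0, 0), (0, 0, 0, 0), (0, 0, 0, 0), (0, 0, 0, 0), (0, 0, 0, 0), (6, 0, 0, 0), (9, 0, 0, 0)],
    ![(0, 0, 0, 0), (0, 0, 0, 0), (0, 0, 0, 0), (0, 0, 0, 0), (0, 0, 0, 0), (12, 0, 0, 0), (0, 0, 0, 0), (3, 0, 0, 0), (3, 0, 0, 0), (0, 0, 0, 0), (0, 0, 0, 0), (0, 0, 0, 0), (6, 0, 0, 0), (9, 0, 0, 0)],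
    ![(0, 0, 0, 0), (0, 0, 0, 0), (0, 0, 0, 0), (0, 0, 0, 0), (0, 0, 0, 0), (-6, 0, 0, 0), (0, 0, 0, 0), (0, 0, 0, 0), (0, 0, 0, 0), (-3, 0, 0, 0), (3, -2, 0, 1), (3, 2, 0, -1), (-3, 0, 0, 0), (9, 0, 0, 0)],
    ![(0, 0, 0, 0), (0, 0, 0, 0), (0, 0, 0, 0), (0, 0, 0, 0), (0, 0, 0, 0), (-6, 0, 0, 0), (0, 0, 0, 0), (0, 0, 0, 0), (0, 0, 0, 0), (3, 0, 0, 0), (-3, -2, 0, 1), (-3, 2, 0, -1), (-3, 0, 0, 0), (9, 0, 0, 0)],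
    ![(0, 0, 0, 0), (0, 0, 0, 0), (0, 0, 0, 0), (0, 0, 0, 0), (0, 0, 0, 0), (-6, 0, 0, 0), (0, 0, 0, 0), (0, 0, 0, 0), (0, 0, 0, 0), (-3, 0, 0, 0), (3, 2, 0, -1), (3, -2, 0, 1), (-3, 0, 0, 0), (9, 0, 0, 0)]]
  gram := ![
    ![4, 1, 1, 1, 2, 2, 2, 2, -1, 2],
    ![1, 4, 1, 1, 2, 2, 2, -1, 2, -1],
    ![1, 1, 3, 2, 2, 2, 2, 1, 1, 0],
    ![1, 1, 2, 3, 2, 2, 2, 0, 0, 1],
    ![2, 2, 2, 2, 4, 3, 2, 0, 0, 0],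
    ![2, 2, 2, 2, 3, 4, 2, 0, 0, 0],
    ![2, 2, 2, 2, 2, 2, 5, 0, 0, 0],
    ![2, -1, 1, 0, 0, 0, 0, 5, -1, 4],
    ![-1, 2, 1, 0, 0, 0, 0, -1, 5, -2],
    ![2, -1, 0, 1, 0, 0, 0, 4, -2, 5]]

theorem tabB_ok : tabB.Ok where
  nH_ok := Or.inr rfl
  cls_rep := by decide +kernel
  inv_h := by decide +kernel
  inv_v := by decide +kernel
  wit := by decide +kernel
  size_ok := by decide +kernel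
  term_one := by decide +kernel
  term_low := by decide +kernel
  term_nodup := by decide +kernel
  term_mul := by decide +kernel
  term_lookup := by decide +kernel
  term_dvd := by decide +kernel
  sums_ok := by decide +kernel
  val_ok := by decide +kernel
  off := by decide +kernel
  gram_ok := by decide +kernel

/-- The elements of a class. -/
def tabBClass (c : Fin 14) : List W := (allW 24).filter fun w => decide (tabB.cls w = c)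

theorem tabB_inv : ∀ w ∈ allW 24, powW w 2 = oneW → w ≠ oneW → tabB.cls w = 1 ∨ tabB.cls w = 2 := by decide +kernel

theorem tabB_inv_class : ∀ c ∈ ([1, 2] : List (Fin 14)), ∀ w ∈ tabBClass c, powW w 2 = oneW ∧ w ≠ oneW := by
  decide +kernel

theorem tabB_rep : tabB.rep 0 = oneW ∧ tabB.rep 1 = ((0, 0, 0), 1) ∧ tabB.rep 2 = ((0, 0, 0), 15) := by decide +kernel

theorem tabB_qTT : ∀ i, zsum ((tabBClass 1).flatMap fun p => (tabBClass 1).map fun q =>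
    tabB.val i (tabB.cls (mulW p q))) = ((![1944, 1944, 0, 0, 1944, 1944, 1944, -972, -972, -972] : Fin 10 → ℤ) i, 0, 0, 0) := by
  decide +kernel

theorem tabB_qTU : ∀ i, zsum ((tabBClass 1).flatMap fun p => (tabBClass 2).map fun q =>
    tabB.val i (tabB.cls (mulW p q))) = ((![1944, -1944, 0, 0, 0, 0, 0, 972, -972, 972] : Fin 10 → ℤ) i, 0, 0, 0) := by
  decide +kernel

theorem tabB_qUU : ∀ i, zsum ((tabBClass 2).flatMap fun p => (tabBClass 2).map fun q =>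
    tabB.val i (tabB.cls (mulW p q))) = ((![3888, 3888, 1944, 1944, 1944, 1944, 7776, 972, 972, 972] : Fin 10 → ℤ) i, 0, 0, 0) := by
  decide +kernel

end Cfsg.Agent.Lib.McL3NonSing87.Model
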