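import Cfsg.Agent.Lib.McL3NonSing87.Equations
import Cfsg.Agent.Lib.McL3NonSing87.TabB
import Cfsg.Agent.Lib.McL3NonSing87.AlgB

/-!
# A character of degree three in the second case
-/

set_option autoImplicit false
set_option linter.style.haveILetI false
set_option linter.unusedSectionVars false
set_option maxRecDepth 100000
set_option maxHeartbeats 4000000
set_option synthInstance.maxSize 4000

namespace Cfsg.Agent.Lib.McL3NonSing87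

open Subgroup
open Cfsg.Agent.Lib.McL3Local35
open Cfsg.Agent.Lib.Characters.Basic
open Cfg (yX lw)
open scoped ComplexConjugate

namespace Model

/-- The entries at the trivial character. -/
def tB : Fin 10 → ℤ := ![1, 0, 0, 0, 0, 0, 1, 0, 0, 0]

theorem tabB_t : ∀ k, zsum ((List.finRange 14).map fun c => zsmul' (tabB.size c) (tabB.val k c)) =
    (27 * (tabB.nH : ℤ) * tB k, 0, 0, 0) := by decide +kernel

theorem tabB_small : ∀ i, tabB.gram i i ≤ 15 := by decide +kernel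

/-- The rows of a live state. -/
def RB0 : Fin 13 → Fin 10 → ℤ := ![
    ![1, 1, 0, 0, 1, 1, 0, 0, 0, 0],
    ![1, 0, 1, 1, 1, 1, 1, 1, -1, 1],
    ![1, 0, 0, 0, 0, 0, 0, 1, 0, 1],
    ![0, 1, 1, 1, 1, 1, 1, -1, 1, -1],
    ![0, 1, 0, 0, 0, 0, 1, 0, 0, 0],
    ![0, 1, 0, 0, 0, 0, 0, 0, 1, 0],
    ![0, 0, 1, 0, 0, 0, 0, 1, 1, 0],
    ![0, 0, 0, 1, 0, 0, 0, 0, 0, 1],
    ![0, 0, 0, 0, 1, 0, 0, 0, 0, 0],
    ![0, 0, 0, 0, 0, 1, 0, 0, 0, 0],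
    ![0, 0, 0, 0, 0, 0, 1, 0, 0, 0],
    ![0, 0, 0, 0, 0, 0, 0, 1, 0, 1],
    ![0, 0, 0, 0, 0, 0, 0, 0, 1, 0]]

theorem RB0_eq : (fun (i : Fin 13) (k : Fin 10) =>
    (([[1, 1, 0, 0, 1, 1, 0, 0, 0, 0], [1, 0, 1, 1, 1, 1, 1, 1, -1, 1],
    [1, 0, 0, 0, 0, 0, 0, 1, 0, 1], [0, 1, 1, 1, 1, 1, 1, -1, 1, -1], [0, 1, 0, 0, 0, 0, 1, 0, 0, 0],
    [0, 1, 0, 0, 0, 0, 0, 0, 1, 0], [0, 0, 1, 0, 0, 0, 0, 1, 1, 0], [0, 0, 0, 1, 0, 0, 0, 0, 0, 1],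
    [0, 0, 0, 0, 1, 0, 0, 0, 0, 0], [0, 0, 0, 0, 0, 1, 0, 0, 0, 0], [0, 0, 0, 0, 0, 0, 1, 0, 0, 0],
    [0, 0, 0, 0, 0, 0, 0, 1, 0, 1], [0, 0, 0, 0, 0, 0, 0, 0, 1, 0]] : List (List ℤ)).get i).getD k.val 0) = RB0 := by decide +kernel

/-- The rows of a live state. -/
def RB1 : Fin 12 → Fin 10 → ℤ := ![
    ![1, 1, 0, 0, 1, 1, 0, 0, 0, 0],
    ![1, 0, 1, 1, 1, 1, 1, 1, -1, 1],
    ![1, 0, 0, 0, 0, 0, 0, 1, 0, 1],
    ![0, 1, 1, 1, 1, 1, 1, -1, 1, -1],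
    ![0, 1, 0, 0, 0, 0, 1, 0, 1, 0],
    ![0, 1, 0, 0, 0, 0, 0, 0, 0, 0],
    ![0, 0, 1, 0, 0, 0, 0, 1, 1, 0],
    ![0, 0, 0, 1, 0, 0, 0, 0, 0, 1],
    ![0, 0, 0, 0, 1, 0, 0, 0, 0, 0],
    ![0, 0, 0, 0, 0, 1, 0, 0, 0, 0],
    ![0, 0, 0, 0, 0, 0, 1, 0, -1, 0],
    ![0, 0, 0, 0, 0, 0, 0, 1, 0, 1]]

theorem RB1_eq : (fun (i : Fin 12) (k : Fin 10) =>
    (([[1, 1, 0, 0, 1, 1, 0, 0, 0, 0], [1, 0, 1, 1, 1, 1, 1, 1, -1, 1],
    [1, 0, 0, 0, 0, 0, 0, 1, 0, 1], [0, 1, 1, 1, 1, 1, 1, -1, 1, -1], [0, 1, 0, 0, 0, 0, 1, 0, 1, 0],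
    [0, 1, 0, 0, 0, 0, 0, 0, 0, 0], [0, 0, 1, 0, 0, 0, 0, 1, 1, 0], [0, 0, 0, 1, 0, 0, 0, 0, 0, 1],
    [0, 0, 0, 0, 1, 0, 0, 0, 0, 0], [0, 0, 0, 0, 0, 1, 0, 0, 0, 0], [0, 0, 0, 0, 0, 0, 1, 0, -1, 0],
    [0, 0, 0, 0, 0, 0, 0, 1, 0, 1]] : List (List ℤ)).get i).getD k.val 0) = RB1 := by decide +kernel

/-- The common first eleven rows of the live states. -/
def RB7 : Fin 11 → Fin 10 → ℤ := ![
    ![1, 1, 0, 0, 1, 1, 0, 0, 0, 0],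
    ![1, 0, 1, 1, 1, 1, 1, 0, 0, 0],
    ![1, 0, 0, 0, 0, 0, 0, 0, 0, 0],
    ![0, 1, 1, 1, 1, 1, 1, 0, 0, 0],
    ![0, 1, 0, 0, 0, 0, 1, 0, 0, 0],
    ![0, 1, 0, 0, 0, 0, 0, 0, 0, 0],
    ![0, 0, 1, 0, 0, 0, 0, 0, 0, 0],
    ![0, 0, 0, 1, 0, 0, 0, 0, 0, 0],
    ![0, 0, 0, 0, 1, 0, 0, 0, 0, 0],
    ![0, 0, 0, 0, 0, 1, 0, 0, 0, 0],
    ![0, 0, 0, 0, 0, 0, 1, 0, 0, 0]]

theorem statesB : Rows.states tabB.gram tB =
  [[1, 0, 0, 0, 0, 0, 1, 0, 0, 0] :: [[1, 1, 0, 0, 1, 1, 0, 0, 0, 0], [1, 0, 1, 1, 1, 1, 1, 1, -1, 1],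
    [1, 0, 0, 0, 0, 0, 0, 1, 0, 1], [0, 1, 1, 1, 1, 1, 1, -1, 1, -1], [0, 1, 0, 0, 0, 0, 1, 0, 0, 0],
    [0, 1, 0, 0, 0, 0, 0, 0, 1, 0], [0, 0, 1, 0, 0, 0, 0, 1, 1, 0], [0, 0, 0, 1, 0, 0, 0, 0, 0, 1],
    [0, 0, 0, 0, 1, 0, 0, 0, 0, 0], [0, 0, 0, 0, 0, 1, 0, 0, 0, 0], [0, 0, 0, 0, 0, 0, 1, 0, 0, 0],
    [0, 0, 0, 0, 0, 0, 0, 1, 0, 1], [0, 0, 0, 0, 0, 0, 0, 0, 1, 0]],
   [1, 0, 0, 0, 0, 0, 1, 0, 0, 0] :: [[1, 1, 0, 0, 1, 1, 0, 0, 0, 0], [1, 0, 1, 1, 1, 1, 1, 1, -1, 1],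
    [1, 0, 0, 0, 0, 0, 0, 1, 0, 1], [0, 1, 1, 1, 1, 1, 1, -1, 1, -1], [0, 1, 0, 0, 0, 0, 1, 0, 1, 0],
    [0, 1, 0, 0, 0, 0, 0, 0, 0, 0], [0, 0, 1, 0, 0, 0, 0, 1, 1, 0], [0, 0, 0, 1, 0, 0, 0, 0, 0, 1],
    [0, 0, 0, 0, 1, 0, 0, 0, 0, 0], [0, 0, 0, 0, 0, 1, 0, 0, 0, 0], [0, 0, 0, 0, 0, 0, 1, 0, -1, 0],
    [0, 0, 0, 0, 0, 0, 0, 1, 0, 1]],
   [1, 0, 0, 0, 0, 0, 1, 0, 0, 0] :: [[1, 1, 1, 1, 1, 1, 1, 0, 0, 0], [1, 0, 0, 0, 1, 1, 0, 1, -1, 1],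
    [1, 0, 0, 0, 0, 0, 0, 1, 0, 1], [0, 1, 1, 1, 1, 1, 1, 0, 1, 0], [0, 1, 0, -1, 0, 0, 0, 0, 1, -1],
    [0, 1, -1, 0, 0, 0, 0, -1, 0, 0], [0, 0, 0, 0, 1, 0, 0, -1, 0, -1], [0, 0, 0, 0, 0, 1, 0, -1, 0, -1],
    [0, 0, 0, 0, 0, 0, 1, 0, 0, 0], [0, 0, 0, 0, 0, 0, 1, 0, -1, 0], [0, 0, 0, 0, 0, 0, 0, 0, 1, 0]],
   [1, 0, 0, 0, 0, 0, 1, 0, 0, 0] :: [[1, 1, 1, 1, 1, 1, 1, 1, 0, 1], [1, 0, 0, 0, 1, 1, 0, 0, -1, 0],
    [1, 0, 0, 0, 0, 0, 0, 1, 0, 1], [0, 1, 1, 1, 1, 1, 1, -1, 1, -1], [0, 1, 0, -1, 0, 0, 0, 0, 1, -1],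
    [0, 1, -1, 0, 0, 0, 0, -1, 0, 0], [0, 0, 0, 0, 1, 0, 0, 0, 0, 0], [0, 0, 0, 0, 0, 1, 0, 0, 0, 0],
    [0, 0, 0, 0, 0, 0, 1, 0, 0, 0], [0, 0, 0, 0, 0, 0, 1, 0, -1, 0], [0, 0, 0, 0, 0, 0, 0, 1, 0, 1],
    [0, 0, 0, 0, 0, 0, 0, 0, 1, 0]]] := by decide +kernel

end Model

open Model (oneW powW mulW conjW tabB tabB_ok tB)

variable {G : Type*} [Group G] [Finite G] {d : Std G}

namespace Cfg

variable (C : Cfg d)

theorem coe_lw (hnH : tabB.nH = C.nH) (c : Fin 14) :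
    ((lw C (C.repW tabB_ok hnH c) : Cy d) : G) =
      (jc d (0, (tabB.rep c).1) * LL d C.u (tabB.rep c).2) ^ 3 := by
  rw [lw, SubgroupClass.coe_pow]
  rfl

theorem coe_lw_one (hnH : tabB.nH = C.nH) : ((lw C (C.repW tabB_ok hnH 1) : Cy d) : G) = d.t := by
  rw [C.coe_lw hnH 1, show (tabB.rep 1).1 = 0 by decide +kernel,
    show (tabB.rep 1).2 = 1 by decide +kernel, show ((0 : ZMod 3), (0 : Model.Vec)) = 0 from rfl, jc_zero,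
    one_mul, show LL d C.u 1 = d.t by simp [LL]]
  rw [pow_succ, pow_two, d.t_sq, one_mul]

theorem acts_lw_two (hnH : tabB.nH = C.nH) :
    Acts d ((lw C (C.repW tabB_ok hnH 2) : Cy d) : G) 15 := by
  rw [C.coe_lw hnH 2, show (tabB.rep 2).1 = 0 by decide +kernel,
    show (tabB.rep 2).2 = 15 by decide +kernel, show ((0 : ZMod 3), (0 : Model.Vec)) = 0 from rfl, jc_zero,
    one_mul, pow_succ, pow_two]
  have hA := acts_LL d ((C.inH_iff 15).2 (hnH ▸ (by decide +kernel : (15 : Fin 24).val < tabB.nH)))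
  have h3 := (hA.mul d hA).mul d hA
  rwa [show Model.hm (Model.hm 15 15) 15 = 15 by decide +kernel] at h3

theorem sep_B (hnH : tabB.nH = C.nH) (hu : d.IsU C.u) (c : Fin 14) (hc : c = 1 ∨ c = 2) :
    ∀ w : C.Wn, powW w.1 2 = oneW → w.1 ≠ oneW → ∀ x : Cy d,
      x * lw C (C.repW tabB_ok hnH c) * x⁻¹ = lw C w → tabB.cls w.1 = c := by
  intro w h2 h1 x hx
  have hw := Model.tabB_inv w.1 (C.mem_allW tabB_ok hnH w) h2 h1
  obtain ⟨a, ha, he⟩ := List.any_eq_true.1 (tabB_ok.wit w.1 (C.mem_allW tabB_ok hnH w))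
  have hlow := C.allW_lt tabB_ok hnH ha
  have hy := C.lw_conj tabB_ok hnH (a := ⟨a, hlow⟩) (w := w) (eq_of_beq he)
  rw [← hx] at hy
  set y : Cy d := C.E 0 ⟨a, hlow⟩ * x with hydef
  have hy' : y * lw C (C.repW tabB_ok hnH c) * y⁻¹ = lw C (C.repW tabB_ok hnH (tabB.cls w.1)) := by
    rw [← hy, hydef]; group
  by_contra hne
  have hxy : ∀ z : Cy d, (z : G) * d.yp = d.yp * (z : G) := fun z => (mem_Cy d).1 z.2
  rcases hc with rfl | rfl <;> rcases hw with e | e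
  · exact hne e
  · rw [e] at hy'
    refine not_fused_t d hu (C.acts_lw_two hnH) (x := (y : G)) (hxy y) ?_
    rw [← C.coe_lw_one hnH, ← hy']
    rfl
  · rw [e] at hy'
    refine not_fused_t d hu (C.acts_lw_two hnH) (x := ((y⁻¹ : Cy d) : G)) (hxy y⁻¹) ?_
    rw [← C.coe_lw_one hnH, ← hy']
    push_cast
    group
  · exact hne e

end Cfg

/-- The six sums over the rows of a live state, in the scaled values at the two involutions. -/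
theorem live_data {u : G} (hu : d.IsU u) [Fintype (Cfsg.IrrCharacter (Cy d))] {m : ℕ} (RR : Fin m → Fin 10 → ℤ)
    (hdata : (⟨u, 24, Or.inr ⟨rfl, hu⟩⟩ : Cfg d).RowsData tabB_ok rfl tB m RR) :
    ∃ (x : Fin m → Cfsg.IrrCharacter (Cy d) × ℤ) (D : Fin m → ℤ) (a b : ℂ) (e f : Fin m → ℂ),
      (∀ i, D i ≠ 0) ∧ (∀ i, (D i : ℂ) = (x i).2 * ((x i).1 : Cy d → ℂ) 1) ∧
      (∀ i, (x i).2 = 1 ∨ (x i).2 = -1) ∧
      (∀ i k, (x i).2 * (⟨u, 24, Or.inr ⟨rfl, hu⟩⟩ : Cfg d).fint tabB_ok rfl k (x i).1 = RR i k) ∧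
      ∀ k, ((tB k : ℂ) + ∑ i, (RR i k : ℂ) * (D i : ℂ) = 0) ∧
        ((tB k : ℂ) * a + ∑ i, (RR i k : ℂ) * ((D i : ℂ) * e i) = 0) ∧
        ((tB k : ℂ) * b + ∑ i, (RR i k : ℂ) * ((D i : ℂ) * f i) = 0) ∧
        ((tB k : ℂ) * (a * a) + ∑ i, (RR i k : ℂ) * ((D i : ℂ) * (e i * e i)) =
          ((![1944, 1944, 0, 0, 1944, 1944, 1944, -972, -972, -972] : Fin 10 → ℤ) k : ℂ) / 729) ∧
        ((tB k : ℂ) * (a * b) + ∑ i, (RR i k : ℂ) * ((D i : ℂ) * (e i * f i)) =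
          ((![1944, -1944, 0, 0, 0, 0, 0, 972, -972, 972] : Fin 10 → ℤ) k : ℂ) / 1458) ∧
        ((tB k : ℂ) * (b * b) + ∑ i, (RR i k : ℂ) * ((D i : ℂ) * (f i * f i)) =
          ((![3888, 3888, 1944, 1944, 1944, 1944, 7776, 972, 972, 972] : Fin 10 → ℤ) k : ℂ) / 2916) := by
  classical
  let C : Cfg d := ⟨u, 24, Or.inr ⟨rfl, hu⟩⟩
  have hT := tabB_ok
  have hnH : tabB.nH = C.nH := rfl
  have hinv : ∀ c : Fin 14, c = 1 ∨ c = 2 →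
      ∀ w ∈ Model.allW tabB.nH, tabB.cls w = c → powW w 2 = oneW ∧ w ≠ oneW := fun c hc w hw he =>
    Model.tabB_inv_class c (by rcases hc with rfl | rfl <;> simp) w
      (List.mem_filter.2 ⟨hw, decide_eq_true he⟩)
  set t := lw C (C.repW hT hnH 1) with htdef
  set v := lw C (C.repW hT hnH 2) with hvdef
  have hsq : ∀ c : Fin 14, c = 1 ∨ c = 2 → lw C (C.repW hT hnH c) * lw C (C.repW hT hnH c) = 1 := fun c hc =>
    C.lw_sq (hinv c hc _ (C.mem_allW hT hnH (C.repW hT hnH c)) (hT.cls_rep c).2).1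
  obtain ⟨x, D, hD0, hDx, hs, hne, hinj, hcov, hent, hdeg, hval, hquad⟩ := hdata
  set ct : ℂ := (Nat.card (centralizer ({t} : Set (Cy d))) : ℂ) with hct
  set cv : ℂ := (Nat.card (centralizer ({v} : Set (Cy d))) : ℂ) with hcv
  set NC : ℂ := (Nat.card (NX d) : ℂ) * (Nat.card (Cy d) : ℂ) with hNC
  have hct0 : ct ≠ 0 := Nat.cast_ne_zero.2 Nat.card_pos.ne'
  have hcv0 : cv ≠ 0 := Nat.cast_ne_zero.2 Nat.card_pos.ne'
  have hNC0 : NC ≠ 0 := mul_ne_zero (Nat.cast_ne_zero.2 Nat.card_pos.ne') (Nat.cast_ne_zero.2 Nat.card_pos.ne')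
  obtain ⟨a, ha⟩ := IsAlgClosed.exists_pow_nat_eq (NC / (729 * ct ^ 2)) (n := 2) (by norm_num)
  set b : ℂ := a * ct / (2 * cv) with hb
  have hab1 : a ^ 2 * (ct * ct / NC) = 1 / 729 := by rw [ha]; field_simp
  have hab2 : a * b * (ct * cv / NC) = 1 / 1458 := by
    rw [hb]
    have : a * (a * ct / (2 * cv)) * (ct * cv / NC) = a ^ 2 * (ct * ct / NC) / 2 := by field_simp
    rw [this, hab1]; norm_num
  have hab3 : b ^ 2 * (cv * cv / NC) = 1 / 2916 := by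
    rw [hb]
    have : (a * ct / (2 * cv)) ^ 2 * (cv * cv / NC) = a ^ 2 * (ct * ct / NC) / 4 := by field_simp; ring
    rw [this, hab1]; norm_num
  set σ : Fin m → ℂ := fun i => (x i).2 * ((x i).1 : Cy d → ℂ) t with hσ
  set υ : Fin m → ℂ := fun i => (x i).2 * ((x i).1 : Cy d → ℂ) v with hυ
  set e : Fin m → ℂ := fun i => a * σ i / (D i : ℂ) with he
  set f : Fin m → ℂ := fun i => b * υ i / (D i : ℂ) with hf
  have hD : ∀ i, (D i : ℂ) ≠ 0 := fun i => Int.cast_ne_zero.2 (hD0 i)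
  set R : Fin 10 → Fin m → ℂ := fun k i => (RR i k : ℂ) with hR
  have gd : ∀ k, (tB k : ℂ) + ∑ i, R k i * (D i : ℂ) = 0 := fun k => by simp only [hR]; exact_mod_cast hdeg k
  have ge : ∀ k, (tB k : ℂ) * a + ∑ i, R k i * ((D i : ℂ) * e i) = 0 := fun k => by
    have h0 : (tB k : ℂ) + ∑ i, R k i * σ i = 0 := hval k t (hsq 1 (Or.inl rfl))
    rw [show (0 : ℂ) = a * ((tB k : ℂ) + ∑ i, R k i * σ i) by rw [h0, mul_zero], mul_add, Finset.mul_sum,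
      mul_comm (a : ℂ)]
    congr 1
    refine Finset.sum_congr rfl fun i _ => ?_
    rw [he]; field_simp [hD i]
  have gf : ∀ k, (tB k : ℂ) * b + ∑ i, R k i * ((D i : ℂ) * f i) = 0 := fun k => by
    have h0 : (tB k : ℂ) + ∑ i, R k i * υ i = 0 := hval k v (hsq 2 (Or.inr rfl))
    rw [show (0 : ℂ) = b * ((tB k : ℂ) + ∑ i, R k i * υ i) by rw [h0, mul_zero], mul_add, Finset.mul_sum,
      mul_comm (b : ℂ)]
    congr 1
    refine Finset.sum_congr rfl fun i _ => ?_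
    rw [hf]; field_simp [hD i]
  have gee : ∀ k, (tB k : ℂ) * (a * a) + ∑ i, R k i * ((D i : ℂ) * (e i * e i)) =
      ((![1944, 1944, 0, 0, 1944, 1944, 1944, -972, -972, -972] : Fin 10 → ℤ) k : ℂ) / 729 := fun k => by
    have h0 : (tB k : ℂ) + ∑ i, R k i * (σ i * σ i / (D i : ℂ)) = ct * ct / NC * _ :=
      (hquad k t t).symm.trans (C.quad hT hnH k 1 1 (hinv 1 (Or.inl rfl)) (hinv 1 (Or.inl rfl))
        (C.sep_B hnH hu 1 (Or.inl rfl)) (C.sep_B hnH hu 1 (Or.inl rfl)) (Model.tabB_qTT k))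
    have h1 : (tB k : ℂ) * (a * a) + ∑ i, R k i * ((D i : ℂ) * (e i * e i)) =
        (a * a) * ((tB k : ℂ) + ∑ i, R k i * (σ i * σ i / (D i : ℂ))) := by
      rw [mul_add, Finset.mul_sum, mul_comm (a * a)]
      congr 1
      refine Finset.sum_congr rfl fun i _ => ?_
      rw [he]; field_simp [hD i]
    rw [h1, h0, ← mul_assoc, ← pow_two, hab1]
    ring
  have gef : ∀ k, (tB k : ℂ) * (a * b) + ∑ i, R k i * ((D i : ℂ) * (e i * f i)) =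
      ((![1944, -1944, 0, 0, 0, 0, 0, 972, -972, 972] : Fin 10 → ℤ) k : ℂ) / 1458 := fun k => by
    have h0 : (tB k : ℂ) + ∑ i, R k i * (σ i * υ i / (D i : ℂ)) = ct * cv / NC * _ :=
      (hquad k t v).symm.trans (C.quad hT hnH k 1 2 (hinv 1 (Or.inl rfl)) (hinv 2 (Or.inr rfl))
        (C.sep_B hnH hu 1 (Or.inl rfl)) (C.sep_B hnH hu 2 (Or.inr rfl)) (Model.tabB_qTU k))
    have h1 : (tB k : ℂ) * (a * b) + ∑ i, R k i * ((D i : ℂ) * (e i * f i)) =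
        (a * b) * ((tB k : ℂ) + ∑ i, R k i * (σ i * υ i / (D i : ℂ))) := by
      rw [mul_add, Finset.mul_sum, mul_comm (a * b)]
      congr 1
      refine Finset.sum_congr rfl fun i _ => ?_
      rw [he, hf]; field_simp [hD i]
    rw [h1, h0, ← mul_assoc, hab2]
    ring
  have gff : ∀ k, (tB k : ℂ) * (b * b) + ∑ i, R k i * ((D i : ℂ) * (f i * f i)) =
      ((![3888, 3888, 1944, 1944, 1944, 1944, 7776, 972, 972, 972] : Fin 10 → ℤ) k : ℂ) / 2916 := fun k => by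
    have h0 : (tB k : ℂ) + ∑ i, R k i * (υ i * υ i / (D i : ℂ)) = cv * cv / NC * _ :=
      (hquad k v v).symm.trans (C.quad hT hnH k 2 2 (hinv 2 (Or.inr rfl)) (hinv 2 (Or.inr rfl))
        (C.sep_B hnH hu 2 (Or.inr rfl)) (C.sep_B hnH hu 2 (Or.inr rfl)) (Model.tabB_qUU k))
    have h1 : (tB k : ℂ) * (b * b) + ∑ i, R k i * ((D i : ℂ) * (f i * f i)) =
        (b * b) * ((tB k : ℂ) + ∑ i, R k i * (υ i * υ i / (D i : ℂ))) := by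
      rw [mul_add, Finset.mul_sum, mul_comm (b * b)]
      congr 1
      refine Finset.sum_congr rfl fun i _ => ?_
      rw [hf]; field_simp [hD i]
    rw [h1, h0, ← mul_assoc, ← pow_two, hab3]
    ring
  exact ⟨x, D, a, b, e, f, hD0, hDx, hs, hent, fun k => ⟨gd k, ge k, gf k, gee k, gef k, gff k⟩⟩

/-- A live state gives a character of degree three. -/
theorem finish {u : G} (hu : d.IsU u) [Fintype (Cfsg.IrrCharacter (Cy d))] {n : ℕ} (RR : Fin (n + 11) → Fin 10 → ℤ)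
    (hRR : ∀ k : Fin 10, k.val < 7 → (∀ i : Fin (n + 11), 11 ≤ i.val → RR i k = 0) ∧
      ∀ i : Fin 11, RR ⟨i.val, by omega⟩ k = Model.RB7 i k)
    (x : Fin (n + 11) → Cfsg.IrrCharacter (Cy d) × ℤ) (D : Fin (n + 11) → ℤ) (a b : ℂ) (e f : Fin (n + 11) → ℂ)
    (hD0 : ∀ i, D i ≠ 0) (hDx : ∀ i, (D i : ℂ) = (x i).2 * ((x i).1 : Cy d → ℂ) 1)
    (hs : ∀ i, (x i).2 = 1 ∨ (x i).2 = -1)
    (hent : ∀ i k, (x i).2 * (⟨u, 24, Or.inr ⟨rfl, hu⟩⟩ : Cfg d).fint tabB_ok rfl k (x i).1 = RR i k)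
    (hk : ∀ k, ((tB k : ℂ) + ∑ i, (RR i k : ℂ) * (D i : ℂ) = 0) ∧
        ((tB k : ℂ) * a + ∑ i, (RR i k : ℂ) * ((D i : ℂ) * e i) = 0) ∧
        ((tB k : ℂ) * b + ∑ i, (RR i k : ℂ) * ((D i : ℂ) * f i) = 0) ∧
        ((tB k : ℂ) * (a * a) + ∑ i, (RR i k : ℂ) * ((D i : ℂ) * (e i * e i)) =
          ((![1944, 1944, 0, 0, 1944, 1944, 1944, -972, -972, -972] : Fin 10 → ℤ) k : ℂ) / 729) ∧
        ((tB k : ℂ) * (a * b) + ∑ i, (RR i k : ℂ) * ((D i : ℂ) * (e i * f i)) =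
          ((![1944, -1944, 0, 0, 0, 0, 0, 972, -972, 972] : Fin 10 → ℤ) k : ℂ) / 1458) ∧
        ((tB k : ℂ) * (b * b) + ∑ i, (RR i k : ℂ) * ((D i : ℂ) * (f i * f i)) =
          ((![3888, 3888, 1944, 1944, 1944, 1944, 7776, 972, 972, 972] : Fin 10 → ℤ) k : ℂ) / 2916)) :
    ∃ (χ : Cfsg.IrrCharacter (Cy d)) (g : Cy d), (χ : Cy d → ℂ) 1 = 3 ∧
      ∑ i : ZMod 3, (χ : Cy d → ℂ) (yX i * g) ≠ 0 := by
  classical
  let C : Cfg d := ⟨u, 24, Or.inr ⟨rfl, hu⟩⟩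
  have hT := tabB_ok
  have hnH : tabB.nH = C.nH := rfl
  let ι : Fin 11 → Fin (n + 11) := fun i => ⟨i.val, by omega⟩
  have hred : ∀ (k : Fin 10), k.val < 7 → ∀ F : Fin (n + 11) → ℂ,
      ∑ i, (RR i k : ℂ) * F i = ∑ i : Fin 11, (Model.RB7 i k : ℂ) * F (ι i) := by
    intro k hk7 F
    obtain ⟨hz, heq⟩ := hRR k hk7
    rw [← Finset.sum_subset (Finset.subset_univ (Finset.univ.image ι))]
    · rw [Finset.sum_image (g := ι) (fun i _ j _ (hij : ι i = ι j) => Fin.ext (Fin.ext_iff.1 hij :))]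
      exact Finset.sum_congr rfl fun i _ => by rw [← heq i]
    · intro i _ hi
      rw [hz i ?_, Int.cast_zero, zero_mul]
      by_contra hlt
      exact hi (Finset.mem_image.2 ⟨⟨i.val, by omega⟩, Finset.mem_univ _, rfl⟩)
  have hk7 : ∀ k : Fin 10, k.val < 7 → ((tB k : ℂ) + ∑ i, (Model.RB7 i k : ℂ) * (D (ι i) : ℂ) = 0) ∧
      ((tB k : ℂ) * a + ∑ i, (Model.RB7 i k : ℂ) * ((D (ι i) : ℂ) * e (ι i)) = 0) ∧
      ((tB k : ℂ) * b + ∑ i, (Model.RB7 i k : ℂ) * ((D (ι i) : ℂ) * f (ι i)) = 0) ∧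
      ((tB k : ℂ) * (a * a) + ∑ i, (Model.RB7 i k : ℂ) * ((D (ι i) : ℂ) * (e (ι i) * e (ι i))) =
        ((![1944, 1944, 0, 0, 1944, 1944, 1944, -972, -972, -972] : Fin 10 → ℤ) k : ℂ) / 729) ∧
      ((tB k : ℂ) * (a * b) + ∑ i, (Model.RB7 i k : ℂ) * ((D (ι i) : ℂ) * (e (ι i) * f (ι i))) =
        ((![1944, -1944, 0, 0, 0, 0, 0, 972, -972, 972] : Fin 10 → ℤ) k : ℂ) / 1458) ∧
      ((tB k : ℂ) * (b * b) + ∑ i, (Model.RB7 i k : ℂ) * ((D (ι i) : ℂ) * (f (ι i) * f (ι i))) =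
        ((![3888, 3888, 1944, 1944, 1944, 1944, 7776, 972, 972, 972] : Fin 10 → ℤ) k : ℂ) / 2916) := by
    intro k h7
    simp only [← hred k h7 fun i => (D i : ℂ), ← hred k h7 fun i => (D i : ℂ) * e i,
      ← hred k h7 fun i => (D i : ℂ) * f i, ← hred k h7 fun i => (D i : ℂ) * (e i * e i),
      ← hred k h7 fun i => (D i : ℂ) * (e i * f i), ← hred k h7 fun i => (D i : ℂ) * (f i * f i)]
    exact hk k
  obtain ⟨d0, x0, y0, a0, b0, c0⟩ := hk7 0 (by decide)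
  obtain ⟨d1, x1, y1, a1, b1, c1⟩ := hk7 1 (by decide)
  obtain ⟨d2, x2, y2, a2, b2, c2⟩ := hk7 2 (by decide)
  obtain ⟨d4, x4, y4, a4, b4, c4⟩ := hk7 4 (by decide)
  obtain ⟨d6, x6, y6, a6, b6, c6⟩ := hk7 6 (by decide)
  simp [Fin.sum_univ_succ, Model.RB7, tB] at d0 d1 d2 d4 d6 x0 x1 x2 x4 x6 y0 y1 y2 y4 y6 a0 a1 a2 a4 a6 b0 b1 b2 b4 b6 c0 c1 c2 c4 c6
  norm_num at a0 a1 a2 a4 a6 b0 b1 b2 b4 b6 c0 c1 c2 c4 c6
  have key := Alg.caseB (d := (D (ι 0) : ℂ)) (r := (D (ι 1) : ℂ)) (r' := (D (ι 3) : ℂ)) (s := (D (ι 4) : ℂ))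
    (p2 := (D (ι 2) : ℂ)) (p5 := (D (ι 5) : ℂ)) (p6 := (D (ι 6) : ℂ)) (p8 := (D (ι 8) : ℂ)) (p10 := (D (ι 10) : ℂ))
    (eO := a) (fO := b) (eD := e (ι 0)) (fD := f (ι 0)) (eR := e (ι 1)) (fR := f (ι 1)) (eR' := e (ι 3)) (fR' := f (ι 3))
    (eS := e (ι 4)) (fS := f (ι 4)) (e2 := e (ι 2)) (f2 := f (ι 2)) (e5 := e (ι 5)) (f5 := f (ι 5)) (e6 := e (ι 6)) (f6 := f (ι 6))
    (e8 := e (ι 8)) (f8 := f (ι 8)) (e10 := e (ι 10)) (f10 := f (ι 10))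
    (Int.cast_ne_zero.2 (hD0 (ι 0))) (Int.cast_ne_zero.2 (hD0 (ι 1))) (Int.cast_ne_zero.2 (hD0 (ι 3))) (Int.cast_ne_zero.2 (hD0 (ι 2))) (Int.cast_ne_zero.2 (hD0 (ι 5))) (Int.cast_ne_zero.2 (hD0 (ι 6))) (Int.cast_ne_zero.2 (hD0 (ι 8))) (Int.cast_ne_zero.2 (hD0 (ι 10)))
    ⟨by linear_combination d0, by linear_combination x0, by linear_combination y0,
      by linear_combination a0, by linear_combination b0, by linear_combination c0⟩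
    ⟨by linear_combination d1, by linear_combination x1, by linear_combination y1,
      by linear_combination a1, by linear_combination b1, by linear_combination c1⟩
    ⟨by linear_combination d2, by linear_combination x2, by linear_combination y2,
      by linear_combination a2, by linear_combination b2, by linear_combination c2⟩
    ⟨by linear_combination d4, by linear_combination x4, by linear_combination y4,
      by linear_combination a4, by linear_combination b4, by linear_combination c4⟩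
    (by linear_combination d6) (by linear_combination x6) (by linear_combination y6)
    (by linear_combination a6) (by linear_combination b6) (by linear_combination c6)
  have hr3 : D (ι 1) = 3 := by
    rcases key with k | ⟨-, k⟩
    · exact_mod_cast k
    · have k' : 3 * D (ι 0) = 2 := by exact_mod_cast k
      omega
  obtain ⟨N, hN, hN1⟩ := exists_degree_pos (x (ι 1)).1
  have hchi : ((x (ι 1)).1 : Cy d → ℂ) 1 = 3 := by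
    have e0 := hDx (ι 1)
    rw [hr3, hN1] at e0
    have e' : (3 : ℤ) = (x (ι 1)).2 * (N : ℤ) := by exact_mod_cast e0
    rw [hN1]
    rcases hs (ι 1) with s1 | s1 <;> rw [s1] at e'
    · exact_mod_cast (show N = 3 by omega)
    · omega
  have hk : C.fint hT hnH 0 (x (ι 1)).1 ≠ 0 := fun h0 => by
    have e0 : (x (ι 1)).2 * C.fint hT hnH 0 (x (ι 1)).1 = 1 := (hent (ι 1) 0).trans ((hRR 0 (by decide)).2 1)
    rw [h0, mul_zero] at e0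
    exact zero_ne_one e0
  obtain ⟨w, hw⟩ := C.exists_fsum_ne hT hnH hk
  refine ⟨(x (ι 1)).1, C.E 0 w, hchi, ?_⟩
  have e1 : ∀ i : ZMod 3, yX i * C.E 0 w = C.E i w := fun i => by rw [← C.E_shift, add_zero]
  simpa only [e1, Cfg.fsum] using hw


/-- In the second case some character of degree three has a nonzero sum over a coset of `⟨y⟩`. -/
theorem exists_threeB {u : G} (hu : d.IsU u) :
    ∃ (χ : Cfsg.IrrCharacter (Cy d)) (g : Cy d), (χ : Cy d → ℂ) 1 = 3 ∧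
      ∑ i : ZMod 3, (χ : Cy d → ℂ) (yX i * g) ≠ 0 := by
  classical
  haveI : Fintype (Cfsg.IrrCharacter (Cy d)) := Fintype.ofFinite _
  let C : Cfg d := ⟨u, 24, Or.inr ⟨rfl, hu⟩⟩
  have hT := tabB_ok
  have hnH : tabB.nH = C.nH := rfl
  obtain ⟨hd, tl, hrows, hdata⟩ := C.rows_data hT hnH tB Model.tabB_small Model.tabB_t
  rw [Model.statesB] at hrows
  simp only [List.mem_cons, List.not_mem_nil, or_false, List.cons.injEq] at hrows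
  rcases hrows with ⟨-, rfl⟩ | ⟨-, rfl⟩ | ⟨-, rfl⟩ | ⟨-, rfl⟩
  rotate_left 2
  iterate 2
    exfalso
    obtain ⟨x, D, hD0, -, -, -, -, -, -, hdeg, -, -⟩ := hdata
    have h0 := hdeg 0; have h1 := hdeg 1; have h2 := hdeg 2; have h3 := hdeg 3; have h4 := hdeg 4
    have h5 := hdeg 5; have h6 := hdeg 6; have h7 := hdeg 7; have h8 := hdeg 8; have h9 := hdeg 9
    simp [Fin.sum_univ_succ, tB] at h0 h1 h2 h3 h4 h5 h6 h7 h8 h9
    simp [Fin.forall_fin_succ] at hD0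
    obtain ⟨-, -, -, -, n4, n5, -⟩ := hD0
    omega
  · obtain ⟨x, D, a, b, e, f, hD0, hDx, hs, hent, hk⟩ := live_data hu Model.RB0 (Model.RB0_eq ▸ hdata)
    exact finish hu Model.RB0 (by decide +kernel) x D a b e f hD0 hDx hs hent hk
  · obtain ⟨x, D, a, b, e, f, hD0, hDx, hs, hent, hk⟩ := live_data hu Model.RB1 (Model.RB1_eq ▸ hdata)
    exact finish hu Model.RB1 (by decide +kernel) x D a b e f hD0 hDx hs hent hk

end Cfsg.Agent.Lib.McL3NonSing87
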