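import Cfsg.Agent.Lib.McL3NonSing87.Tab
import Mathlib.Analysis.SpecialFunctions.Pow.Real

/-!
# Complex values of the twelfth cyclotomic coordinates
-/

set_option autoImplicit false

namespace Cfsg.Agent.Lib.McL3NonSing87.Model

open scoped ComplexConjugate

/-- The square root of three. -/
noncomputable def root3 : ℂ := ((Real.sqrt 3 : ℝ) : ℂ)

/-- A twelfth root of unity. -/
noncomputable def zeta : ℂ := (root3 + Complex.I) / 2

theorem root3_sq : root3 * root3 = 3 := by
  rw [root3, ← Complex.ofReal_mul, Real.mul_self_sqrt (by norm_num)]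
  norm_num

theorem zeta_cube : zeta ^ 3 = Complex.I := by
  rw [zeta]
  linear_combination (root3 / 8 + 3 * Complex.I / 8) * root3_sq +
    (3 * root3 / 8 + Complex.I / 8) * Complex.I_mul_I

theorem zeta_four : zeta ^ 4 = zeta ^ 2 - 1 := by
  have h2 : zeta ^ 2 = (1 + root3 * Complex.I) / 2 := by
    rw [zeta]; linear_combination (1 / 4 : ℂ) * root3_sq + (1 / 4 : ℂ) * Complex.I_mul_I
  rw [pow_succ, zeta_cube, h2, zeta]
  linear_combination (1 / 2 : ℂ) * Complex.I_mul_I

theorem zeta_twelve : zeta ^ 12 = 1 := by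
  rw [show 12 = 3 * 4 by norm_num, pow_mul, zeta_cube, Complex.I_pow_four]

/-- The twelfth root of unity as a unit. -/
noncomputable def zetaU : ℂˣ :=
  ⟨zeta, zeta ^ 11, by rw [← pow_succ', zeta_twelve], by rw [← pow_succ, zeta_twelve]⟩

theorem zeta_pow_mod (n : ℕ) : zeta ^ (n % 12) = zeta ^ n := (pow_eq_pow_mod n zeta_twelve).symm

theorem zetaU_pow_mod (n : ℕ) : zetaU ^ (n % 12) = zetaU ^ n := by
  ext
  rw [Units.val_pow_eq_pow_val, Units.val_pow_eq_pow_val]
  exact zeta_pow_mod n

theorem conj_zeta : conj zeta = zeta ^ 11 := by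
  have h : conj zeta * zeta = 1 := by
    have : conj zeta = (root3 - Complex.I) / 2 := by
      simp only [zeta, root3, map_div₀, map_add, Complex.conj_ofReal, Complex.conj_I, map_ofNat]
      ring
    rw [this, zeta]
    linear_combination (1 / 4 : ℂ) * root3_sq - (1 / 4 : ℂ) * Complex.I_mul_I
  calc conj zeta = conj zeta * zeta ^ 12 := by rw [zeta_twelve, mul_one]
    _ = conj zeta * zeta * zeta ^ 11 := by ring
    _ = zeta ^ 11 := by rw [h, one_mul]

/-- The complex number with given coordinates. -/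
noncomputable def ev (v : Z12) : ℂ :=
  v.1 + v.2.1 * zeta + v.2.2.1 * zeta ^ 2 + v.2.2.2 * zeta ^ 3

theorem ev_add (v w : Z12) : ev (v + w) = ev v + ev w := by
  simp only [ev, Prod.fst_add, Prod.snd_add]
  push_cast
  ring

theorem ev_shift (v : Z12) : ev (shift v) = zeta * ev v := by
  simp only [ev, shift]
  push_cast
  linear_combination (-(v.2.2.2 : ℂ)) * zeta_four

theorem ev_zpw : ∀ n, ev (zpw n) = zeta ^ n
  | 0 => by simp [ev, zpw]
  | n + 1 => by rw [zpw, ev_shift, ev_zpw n, pow_succ']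

theorem ev_zero : ev (0, 0, 0, 0) = 0 := by simp [ev]

theorem ev_int (n : ℤ) : ev (n, 0, 0, 0) = n := by simp [ev]

theorem ev_zsum : ∀ l : List Z12, ev (zsum l) = (l.map ev).sum
  | [] => by simp [ev, zsum]
  | x :: xs => by rw [zsum, ev_add, ev_zsum xs, List.map_cons, List.sum_cons]

theorem ev_smul (m : ℤ) (v : Z12) : ev (zsmul' m v) = m * ev v := by
  simp only [ev, zsmul']
  push_cast
  ring

theorem ev_mulZ (a b : Z12) : ev (mulZ a b) = ev a * ev b := by
  simp only [mulZ, ev_zsum, List.map_cons, List.map_nil, List.sum_cons, List.sum_nil, ev_smul, ev_shift]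
  simp only [ev]
  ring

theorem ev_conjZ (a : Z12) : ev (conjZ a) = conj (ev a) := by
  have h9 : zeta ^ 9 = (zeta ^ 11) ^ 3 := by
    rw [← pow_mul, ← zeta_pow_mod (11 * 3)]
  have h10 : zeta ^ 10 = (zeta ^ 11) ^ 2 := by
    rw [← pow_mul, ← zeta_pow_mod (11 * 2)]
  simp only [conjZ, ev_zsum, List.map_cons, List.map_nil, List.sum_cons, List.sum_nil, ev_smul, ev_zpw]
  simp only [ev, map_add, map_mul, map_pow, map_intCast, conj_zeta]
  rw [h9, h10]
  ring

end Cfsg.Agent.Lib.McL3NonSing87.Model
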