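import Cfsg.Agent.Lib.H80.ClassMult
import Cfsg.Agent.Lib.Characters.Complete

/-!
# Induced class functions supported on a special set

`S` is a set in a subgroup `N`, invariant under `N` and fused only inside `N`.  A class function on `N`
supported on `S` has Fourier coefficients on the irreducible characters of the whole group with three
properties: they preserve inner products, they are orthogonal to the values at elements not fused into
`S`, and they turn products of the values at two involutions into sums over products inside `N`.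
-/

set_option autoImplicit false

namespace Cfsg.Agent.Lib.McL3NonSing87.Exceptional

open Cfsg.Agent.Lib.Characters.Basic Cfsg.Agent.Lib.Characters.Complete
open scoped ComplexConjugate

universe u

variable {X : Type u} [Group X] [Fintype X]

/-- The special set of a subgroup. -/
structure Special (N : Subgroup X) (S : Set X) : Prop where
  le : ∀ g ∈ S, g ∈ N
  fused : ∀ g ∈ S, ∀ x : X, x * g * x⁻¹ ∈ S → x ∈ N
  inv : ∀ g ∈ S, g⁻¹ ∈ S

/-- A class function of `N` supported on `S`, extended by zero. -/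
structure Fn (N : Subgroup X) (S : Set X) where
  val : X → ℂ
  off : ∀ g, g ∉ S → val g = 0
  conj_inv : ∀ x ∈ N, ∀ g, val (x * g * x⁻¹) = val g

variable {N : Subgroup X} {S : Set X}

/-- The coefficient of the induced function at an irreducible character. -/
noncomputable def coef (φ : Fn N S) (χ : Cfsg.IrrCharacter X) : ℂ :=
  (Nat.card N : ℂ)⁻¹ * ∑ g, φ.val g * conj ((χ : X → ℂ) g)

/-- The induced class function. -/
noncomputable def ind (φ : Fn N S) (x : X) : ℂ := (Nat.card N : ℂ)⁻¹ * ∑ b : X, φ.val (b * x * b⁻¹)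

theorem ind_classFun (φ : Fn N S) : Cfsg.IsClassFunction X (ind φ) := by
  intro g h
  rw [ind, ind]
  congr 1
  refine Fintype.sum_equiv (Equiv.mulRight h) _ _ fun b => ?_
  rw [Equiv.coe_mulRight]
  congr 1
  group

/-- The Frobenius formula. -/
theorem inner_ind (φ : Fn N S) {F : X → ℂ} (hF : Cfsg.IsClassFunction X F) :
    Cfsg.classInner (ind φ) F = (Nat.card N : ℂ)⁻¹ * ∑ g, φ.val g * conj (F g) := by
  have h1 : ∀ b : X, ∑ g, φ.val (b * g * b⁻¹) * conj (F g) = ∑ g, φ.val g * conj (F g) := fun b => by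
    refine Fintype.sum_equiv (MulAut.conj b).toEquiv _ _ fun g => ?_
    show _ = φ.val (b * g * b⁻¹) * conj (F (b * g * b⁻¹))
    rw [hF]
  rw [Cfsg.classInner]
  simp only [ind]
  have h2 : ∀ g : X, ((Nat.card N : ℂ)⁻¹ * ∑ b : X, φ.val (b * g * b⁻¹)) * conj (F g) =
      (Nat.card N : ℂ)⁻¹ * ∑ b : X, φ.val (b * g * b⁻¹) * conj (F g) := fun g => by
    rw [mul_assoc, Finset.sum_mul]
  rw [Finset.sum_congr rfl fun g _ => h2 g, ← Finset.mul_sum, Finset.sum_comm,
    Finset.sum_congr rfl fun b _ => h1 b, Finset.sum_const, Finset.card_univ, nsmul_eq_mul,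
    ← Nat.card_eq_fintype_card, mul_left_comm (Nat.card N : ℂ)⁻¹,
    inv_mul_cancel_left₀ (Nat.cast_ne_zero.2 Nat.card_pos.ne')]

theorem inner_ind_irr (φ : Fn N S) (χ : Cfsg.IrrCharacter X) :
    Cfsg.classInner (ind φ) χ = coef φ χ := inner_ind φ (isClassFunction_irr χ)

theorem ind_eq_sum [Fintype (Cfsg.IrrCharacter X)] (φ : Fn N S) (x : X) :
    ind φ x = ∑ χ : Cfsg.IrrCharacter X, coef φ χ * (χ : X → ℂ) x := by
  conv_lhs => rw [classFunction_eq_sum (ind_classFun φ)]
  simp [Finset.sum_apply, inner_ind_irr]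

variable (h : Special N S)
include h

theorem ind_special (φ : Fn N S) {g : X} (hg : g ∈ S) : ind φ g = φ.val g := by
  classical
  rw [ind]
  have h1 : ∀ b : X, φ.val (b * g * b⁻¹) = if b ∈ N then φ.val g else 0 := by
    intro b
    split_ifs with hb
    · exact φ.conj_inv b hb g
    · exact φ.off _ fun hS => hb (h.fused g hg b hS)
  simp only [h1, ← Finset.sum_filter, Finset.sum_const, nsmul_eq_mul]
  rw [← Fintype.card_subtype, ← Nat.card_eq_fintype_card, ← mul_assoc,
    show Nat.card {x // x ∈ N} = Nat.card N from rfl,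
    inv_mul_cancel₀ (Nat.cast_ne_zero.2 Nat.card_pos.ne'), one_mul]

/-- The coefficients preserve inner products. -/
theorem sum_coef_mul_conj [Fintype (Cfsg.IrrCharacter X)] (φ ψ : Fn N S) :
    ∑ χ : Cfsg.IrrCharacter X, coef φ χ * conj (coef ψ χ) =
      (Nat.card N : ℂ)⁻¹ * ∑ g, φ.val g * conj (ψ.val g) := by
  calc ∑ χ : Cfsg.IrrCharacter X, coef φ χ * conj (coef ψ χ)
      = (Nat.card N : ℂ)⁻¹ * ∑ g, φ.val g * conj (ind ψ g) := by
        simp only [ind_eq_sum ψ, map_sum, map_mul, Finset.mul_sum]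
        rw [Finset.sum_comm]
        refine Finset.sum_congr rfl fun χ _ => ?_
        rw [coef, Finset.mul_sum, Finset.sum_mul]
        refine Finset.sum_congr rfl fun g _ => ?_
        ring
    _ = _ := by
        congr 1
        refine Finset.sum_congr rfl fun g _ => ?_
        by_cases hg : g ∈ S
        · rw [ind_special h ψ hg]
        · rw [φ.off g hg, zero_mul, zero_mul]

omit h in
/-- The coefficients are orthogonal to the values outside the fused special set. -/
theorem sum_coef_apply [Fintype (Cfsg.IrrCharacter X)] (φ : Fn N S) {g : X}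
    (hg : ∀ b : X, b * g * b⁻¹ ∉ S) : ∑ χ : Cfsg.IrrCharacter X, coef φ χ * (χ : X → ℂ) g = 0 := by
  rw [← ind_eq_sum, ind, Finset.sum_eq_zero fun b _ => φ.off _ (hg b), mul_zero]

omit h in
theorem sum_conjugates [DecidableEq X] (u : X) (f : X → ℂ) :
    ∑ b : X, f (b * u * b⁻¹) =
      (Nat.card (Subgroup.centralizer ({u} : Set X)) : ℂ) *
        ∑ p ∈ Finset.univ.image (fun b : X => b * u * b⁻¹), f p := by
  rw [Finset.mul_sum, ← Finset.sum_fiberwise_of_maps_to (g := fun b : X => b * u * b⁻¹)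
    (t := Finset.univ.image fun b : X => b * u * b⁻¹) (fun b hb => Finset.mem_image_of_mem _ hb)]
  refine Finset.sum_congr rfl fun p hp => ?_
  obtain ⟨b0, -, rfl⟩ := Finset.mem_image.1 hp
  rw [Finset.sum_congr rfl fun b hb => by rw [(Finset.mem_filter.1 hb).2], Finset.sum_const, nsmul_eq_mul]
  congr 1
  norm_cast
  rw [← Fintype.card_subtype, ← Nat.card_eq_fintype_card]
  refine Nat.card_congr ?_
  exact
    { toFun := fun b => ⟨b0⁻¹ * b.1, Subgroup.mem_centralizer_singleton_iff.2 (by
        have hb : b.1 * u * b.1⁻¹ = b0 * u * b0⁻¹ := b.2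
        calc b0⁻¹ * b.1 * u = b0⁻¹ * (b.1 * u * b.1⁻¹) * b.1 := by group
          _ = b0⁻¹ * (b0 * u * b0⁻¹) * b.1 := by rw [hb]
          _ = u * (b0⁻¹ * b.1) := by group)⟩
      invFun := fun c => ⟨b0 * c.1, by
        show b0 * c.1 * u * (b0 * c.1)⁻¹ = b0 * u * b0⁻¹
        have hc : c.1 * u = u * c.1 := Subgroup.mem_centralizer_singleton_iff.1 c.2
        calc b0 * c.1 * u * (b0 * c.1)⁻¹ = b0 * (c.1 * u) * c.1⁻¹ * b0⁻¹ := by group
          _ = b0 * (u * c.1) * c.1⁻¹ * b0⁻¹ := by rw [hc]
          _ = _ := by group⟩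
      left_inv := fun b => Subtype.ext (mul_inv_cancel_left _ _)
      right_inv := fun c => Subtype.ext (inv_mul_cancel_left _ _) }

open scoped Classical in
/-- The conjugates of `u` lying in `N`. -/
noncomputable def conjIn (N : Subgroup X) (u : X) : Finset X :=
  (Finset.univ.image fun b : X => b * u * b⁻¹).filter (· ∈ N)

/-- The structure constants: products of two conjugates of involutions inside the special set. -/
theorem sum_coef_invol [Fintype (Cfsg.IrrCharacter X)] (φ : Fn N S) {u v : X} (hu : u * u = 1)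
    (hv : v * v = 1) :
    ∑ χ : Cfsg.IrrCharacter X, coef φ χ * ((χ : X → ℂ) u * (χ : X → ℂ) v / (χ : X → ℂ) 1) =
      (Nat.card (Subgroup.centralizer ({u} : Set X)) : ℂ) *
        (Nat.card (Subgroup.centralizer ({v} : Set X)) : ℂ) / ((Nat.card N : ℂ) * (Nat.card X : ℂ)) *
        ∑ p ∈ conjIn N u, ∑ q ∈ conjIn N v, φ.val (p * q) := by
  classical
  have hN : (Nat.card N : ℂ) ≠ 0 := Nat.cast_ne_zero.2 Nat.card_pos.ne'
  have hX : (Nat.card X : ℂ) ≠ 0 := Nat.cast_ne_zero.2 Nat.card_pos.ne'
  -- the sum of the induced function over the products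
  have h1 : ∑ a : X, ind φ (u * (a * v * a⁻¹)) = (Nat.card X : ℂ) *
      ∑ χ : Cfsg.IrrCharacter X, coef φ χ * ((χ : X → ℂ) u * (χ : X → ℂ) v / (χ : X → ℂ) 1) := by
    simp only [ind_eq_sum φ]
    rw [Finset.sum_comm, Finset.mul_sum]
    refine Finset.sum_congr rfl fun χ _ => ?_
    rw [← Finset.mul_sum, H80.ClassMult.sum_apply_mul_conj]
    ring
  have h2 : ∑ a : X, ind φ (u * (a * v * a⁻¹)) = (Nat.card N : ℂ)⁻¹ *
      ∑ b : X, ∑ a : X, φ.val (b * u * b⁻¹ * (a * v * a⁻¹)) := by
    simp only [ind, ← Finset.mul_sum]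
    congr 1
    rw [Finset.sum_comm]
    refine Finset.sum_congr rfl fun b _ => ?_
    refine Fintype.sum_equiv (Equiv.mulLeft b) _ _ fun a => ?_
    rw [Equiv.coe_mulLeft]
    congr 1
    group
  -- a nonzero term forces both conjugates into `N`
  have hkey : ∀ p q : X, p * p = 1 → q * q = 1 → φ.val (p * q) ≠ 0 → p ∈ N ∧ q ∈ N := by
    intro p q hp hq hne
    have hS : p * q ∈ S := not_imp_comm.1 (φ.off _) hne
    have hpinv : p⁻¹ = p := inv_eq_of_mul_eq_one_right hp
    have hqinv : q⁻¹ = q := inv_eq_of_mul_eq_one_right hq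
    have hpN : p ∈ N := by
      refine h.fused _ hS p ?_
      have e : p * (p * q) * p⁻¹ = (p * q)⁻¹ := by
        rw [mul_inv_rev, hpinv, hqinv, ← mul_assoc, hp, one_mul]
      rw [e]
      exact h.inv _ hS
    refine ⟨hpN, ?_⟩
    have := mul_mem (inv_mem hpN) (h.le _ hS)
    rwa [inv_mul_cancel_left] at this
  have hsq : ∀ {w p : X}, w * w = 1 → p ∈ Finset.univ.image (fun b : X => b * w * b⁻¹) → p * p = 1 := by
    intro w p hw hp
    obtain ⟨b, -, rfl⟩ := Finset.mem_image.1 hp
    rw [show b * w * b⁻¹ * (b * w * b⁻¹) = b * (w * w) * b⁻¹ by group, hw]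
    group
  have h3 : ∑ b : X, ∑ a : X, φ.val (b * u * b⁻¹ * (a * v * a⁻¹)) =
      (Nat.card (Subgroup.centralizer ({u} : Set X)) : ℂ) *
        (Nat.card (Subgroup.centralizer ({v} : Set X)) : ℂ) *
        ∑ p ∈ conjIn N u, ∑ q ∈ conjIn N v, φ.val (p * q) := by
    rw [sum_conjugates u fun p => ∑ a : X, φ.val (p * (a * v * a⁻¹))]
    rw [Finset.sum_congr rfl fun p _ => sum_conjugates v fun q => φ.val (p * q), ← Finset.mul_sum,
      ← mul_assoc]
    congr 1
    have hrow : ∀ p ∈ Finset.univ.image (fun b : X => b * u * b⁻¹),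
        ∑ q ∈ Finset.univ.image (fun b : X => b * v * b⁻¹), φ.val (p * q) =
          if p ∈ N then ∑ q ∈ conjIn N v, φ.val (p * q) else 0 := by
      intro p hp
      split_ifs with hpN
      · rw [conjIn, Finset.sum_filter]
        refine Finset.sum_congr rfl fun q hq => ?_
        split_ifs with hqN
        · rfl
        · exact by_contra fun hne => hqN (hkey p q (hsq hu hp) (hsq hv hq) hne).2
      · exact Finset.sum_eq_zero fun q hq =>
          by_contra fun hne => hpN (hkey p q (hsq hu hp) (hsq hv hq) hne).1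
    rw [Finset.sum_congr rfl hrow, ← Finset.sum_filter]
    rfl
  have h4 := h1.symm.trans h2
  rw [h3, eq_inv_mul_iff_mul_eq₀ hN] at h4
  rw [div_mul_eq_mul_div, eq_div_iff (mul_ne_zero hN hX)]
  linear_combination h4

end Cfsg.Agent.Lib.McL3NonSing87.Exceptional
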