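import Cfsg.Agent.Lib.McL3NonSing87.Fusion
import Cfsg.Agent.Lib.McL3NonSing87.Exceptional
import Cfsg.Agent.Lib.McL3NonSing87.Ev
import Cfsg.Agent.Lib.Characters.Linear

/-!
# The exceptional coefficients in `C(y)`

The tables of the model give class functions on `N(J) ∩ C(y)` supported on the special set; their
coefficients at the irreducible characters of `C(y)` are integers.
-/

set_option autoImplicit false
set_option linter.style.haveILetI false
set_option linter.unusedSectionVars false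

namespace Cfsg.Agent.Lib.McL3NonSing87

open Subgroup
open Cfsg.Agent.Lib.McL3Local35
open Cfsg.Agent.Lib.Characters.Basic
open Model (Vec hf hm hi mulW oneW invW powW conjW ev zeta zetaU)
open scoped ComplexConjugate

variable {G : Type*} [Group G] [Finite G] (d : Std G)

/-- `C(y)`. -/
abbrev Cy : Subgroup G := centralizer ({d.yp} : Set G)

theorem mem_Cy {g : G} : g ∈ Cy d ↔ g * d.yp = d.yp * g := mem_centralizer_singleton_iff

theorem NN_le_Cy : NN d ≤ Cy d := fun _ hg => (mem_Cy d).2 hg.1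

/-- `N(J) ∩ C(y)` inside `C(y)`. -/
abbrev NX : Subgroup (Cy d) := (NN d).subgroupOf (Cy d)

/-- The special set inside `C(y)`. -/
def SX : Set (Cy d) := {g | (g : G) ∈ Sp d}

theorem special : Exceptional.Special (NX d) (SX d) where
  le := fun _ hg => hg.1
  fused := fun _ hg x hx => Sp_fused d ((mem_Cy d).1 x.2) hg hx
  inv := fun _ hg => Sp_inv d hg

/-- The choice of case: twelve monomial maps, or twenty-four with the element `u`. -/
structure Cfg where
  u : G
  nH : ℕ
  hcase : (nH = 12 ∧ d.CaseA) ∨ (nH = 24 ∧ d.IsU u)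

namespace Cfg

variable {d} (C : Cfg d)

theorem case_or : d.CaseA ∨ d.IsU C.u := C.hcase.imp And.right And.right

theorem nH_cases : C.nH = 12 ∨ C.nH = 24 := C.hcase.imp And.left And.left

theorem inH_iff (h : Fin 24) : InH d C.u h ↔ h.val < C.nH := by
  rcases C.hcase with ⟨e, hA⟩ | ⟨e, hu⟩
  · rw [e]
    exact ⟨fun h' => h'.resolve_right fun hu => d.not_IsU_of_CaseA hA hu, Or.inl⟩
  · rw [e]
    exact ⟨fun _ => h.isLt, fun _ => Or.inr hu⟩

/-- The elements of the model in use. -/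
abbrev Wn := {w : Model.W // w.2.val < C.nH}

theorem low_mul (a b : C.Wn) : (mulW a.1 b.1).2.val < C.nH := by
  rcases C.nH_cases with e | e
  · exact lt_of_lt_of_eq (Model.hm_low _ _ (lt_of_lt_of_eq a.2 e) (lt_of_lt_of_eq b.2 e)) e.symm
  · exact lt_of_lt_of_eq (Fin.isLt _) e.symm

/-- The product in the model. -/
def mul (a b : C.Wn) : C.Wn := ⟨mulW a.1 b.1, C.low_mul a b⟩

/-- The identity of the model. -/
def one : C.Wn := ⟨oneW, by rcases C.nH_cases with e | e <;> rw [e] <;> decide⟩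

/-- The element of `C(y)` with given coordinates. -/
noncomputable def E (i : ZMod 3) (w : C.Wn) : Cy d :=
  ⟨jc d (i, w.1.1) * LL d C.u w.1.2,
    NN_le_Cy d (mul_mem (J_le_NN d (jc_J d _)) (LL_mem d ((C.inH_iff _).2 w.2)))⟩

theorem E_mem (i : ZMod 3) (w : C.Wn) : C.E i w ∈ NX d :=
  mul_mem (J_le_NN d (jc_J d _)) (LL_mem d ((C.inH_iff _).2 w.2))

theorem E_inj {i k : ZMod 3} {a b : C.Wn} (h : C.E i a = C.E k b) : a = b ∧ i = k := by
  obtain ⟨h1, h2⟩ := cd_unique d ((C.inH_iff _).2 a.2) ((C.inH_iff _).2 b.2) (congrArg Subtype.val h)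
  exact ⟨Subtype.ext h1, h2⟩

theorem exists_E {g : Cy d} (hg : g ∈ NX d) : ∃ i w, C.E i w = g := by
  obtain ⟨w, hw, i, hi⟩ := exists_cd d C.case_or (g := (g : G)) hg
  exact ⟨i, ⟨w, (C.inH_iff _).1 hw⟩, Subtype.ext hi.symm⟩

theorem exists_mul (i k : ZMod 3) (a b : C.Wn) : ∃ l, C.E i a * C.E k b = C.E l (C.mul a b) := by
  obtain ⟨-, l, hl⟩ := cd_mul d ((C.inH_iff _).2 a.2) ((C.inH_iff _).2 b.2) i k
  exact ⟨l, Subtype.ext hl⟩

/-- A power of `y` inside `C(y)`. -/
noncomputable def yX (i : ZMod 3) : Cy d :=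
  ⟨pw d.yp i, pow_mem ((mem_Cy d).2 rfl) _⟩

theorem yX_comm (i : ZMod 3) (g : Cy d) : g * yX i = yX i * g :=
  Subtype.ext ((show Commute (g : G) d.yp from (mem_Cy d).1 g.2).pow_right i.val).eq

theorem E_shift (k i : ZMod 3) (w : C.Wn) : C.E (k + i) w = yX k * C.E i w := by
  refine Subtype.ext ?_
  show jc d (k + i, w.1.1) * _ = pw d.yp k * (jc d (i, w.1.1) * _)
  rw [← mul_assoc, ← jc_mem_Y, ← jc_add]
  simp

theorem E_one : C.E 0 C.one = 1 := by
  refine Subtype.ext ?_
  show jc d (0, 0) * LL d C.u 0 = 1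
  rw [show ((0, 0) : ZMod 3 × Vec) = 0 from rfl, jc_zero, one_mul, LL]
  simp

theorem yX_three (k : ZMod 3) : (yX k : Cy d) ^ 3 = 1 := Subtype.ext (by
  show (pw d.yp k) ^ 3 = 1
  rw [pw, ← pow_mul, mul_comm, pow_mul, yp_three, one_pow])

theorem E_cube (i : ZMod 3) (w : C.Wn) : C.E i w ^ 3 = C.E 0 w ^ 3 := by
  rw [show i = i + 0 by simp, C.E_shift, (show Commute (yX i) (C.E 0 w) from (yX_comm i _).symm).mul_pow,
    yX_three, one_mul]

theorem E_pow (w : C.Wn) : ∀ (n : ℕ) (i : ZMod 3), ∃ l, ∃ h : (powW w.1 n).2.val < C.nH,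
    C.E i w ^ n = C.E l ⟨powW w.1 n, h⟩
  | 0, i => ⟨0, C.one.2, by rw [pow_zero]; exact (C.E_one).symm⟩
  | n + 1, i => by
    obtain ⟨l, hl, he⟩ := E_pow w n i
    obtain ⟨m, hm'⟩ := C.exists_mul l i ⟨powW w.1 n, hl⟩ w
    exact ⟨m, C.low_mul ⟨powW w.1 n, hl⟩ w, by rw [pow_succ, he, hm']; rfl⟩

theorem E_conj (a w : C.Wn) : ∃ h : (conjW a.1 w.1).2.val < C.nH,
    ∃ δ, ∀ i, C.E 0 a * C.E i w * (C.E 0 a)⁻¹ = C.E (i + δ) ⟨conjW a.1 w.1, h⟩ := by
  have hinv : (invW a.1).2.val < C.nH := by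
    rcases C.nH_cases with e | e
    · exact lt_of_lt_of_eq (Model.hi_low _ (lt_of_lt_of_eq a.2 e)) e.symm
    · exact lt_of_lt_of_eq (Fin.isLt _) e.symm
  set c : C.Wn := C.mul (C.mul a w) ⟨invW a.1, hinv⟩
  have hcw : mulW (conjW a.1 w.1) a.1 = mulW a.1 w.1 := by
    rw [conjW, Model.mulW_assoc, (Model.invW_mul _).1, (Model.mulW_one _).1]
  refine ⟨c.2, ?_⟩
  obtain ⟨l1, h1⟩ := C.exists_mul 0 0 a w
  obtain ⟨l2, h2⟩ := C.exists_mul 0 0 c a
  refine ⟨l1 - l2, fun i => ?_⟩
  have h3 : C.mul c a = C.mul a w := Subtype.ext hcw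
  rw [h3] at h2
  have h0 : C.E (l1 - l2) c * C.E 0 a = C.E 0 a * C.E 0 w := by
    rw [show l1 - l2 = (l1 - l2) + 0 by simp, C.E_shift, mul_assoc, h2, ← C.E_shift, h1,
      sub_add_cancel]
  show _ = C.E (i + (l1 - l2)) c
  rw [C.E_shift i, show i = i + 0 by simp, C.E_shift i 0 w, mul_inv_eq_iff_eq_mul, ← mul_assoc,
    yX_comm, mul_assoc, ← h0, add_zero, mul_assoc]

theorem spW_Sp {i : ZMod 3} {w : C.Wn} (h : Model.spW w.1 = true) : (C.E i w : Cy d) ∈ SX d := by
  have key : ∀ n, (powW w.1 n).2 = 0 → (powW w.1 n).1 ≠ 0 →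
      ((C.E i w : Cy d) : G) ^ n ∈ d.J ∧ ((C.E i w : Cy d) : G) ^ n ∉ Yc d := by
    intro n h2 h1
    obtain ⟨l, hlow, he⟩ := C.E_pow w n i
    have he' : ((C.E i w : Cy d) : G) ^ n = jc d (l, (powW w.1 n).1) := by
      have := congrArg Subtype.val he
      rw [SubgroupClass.coe_pow] at this
      rw [this]
      show jc d _ * LL d C.u (powW w.1 n).2 = _
      rw [h2, LL]
      simp
    rw [he']
    exact ⟨jc_J d _, fun hY => h1 ((mem_Yc_iff d).1 hY)⟩
  refine ⟨C.E_mem i w, ?_⟩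
  simp only [Model.spW, Bool.or_eq_true, Bool.and_eq_true, beq_iff_eq, bne_iff_ne, ne_eq] at h
  rcases h with ⟨h2, h1⟩ | ⟨h2, h1⟩
  · exact Or.inr (key 4 h2 h1)
  · exact Or.inl (key 12 h2 h1).2

/-- The coordinates of an element. -/
noncomputable def cd (g : Cy d) (hg : g ∈ NX d) : C.Wn := (C.exists_E hg).choose_spec.choose

theorem cd_E {i : ZMod 3} {w : C.Wn} (h : C.E i w ∈ NX d) : C.cd (C.E i w) h = w :=
  (C.E_inj (C.exists_E h).choose_spec.choose_spec).1

noncomputable instance : Fintype (Cy d) := Fintype.ofFinite _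

/-- A sum of a function supported in `N(J) ∩ C(y)`. -/
theorem sum_NX (F : Cy d → ℂ) (hF : ∀ g, g ∉ NX d → F g = 0) :
    ∑ g, F g = ∑ w : C.Wn, ∑ i : ZMod 3, F (C.E i w) := by
  classical
  rw [← Fintype.sum_prod_type' (fun w i => F (C.E i w))]
  symm
  refine Finset.sum_bij_ne_zero (fun p _ _ => C.E p.2 p.1) (fun _ _ _ => Finset.mem_univ _) ?_ ?_
    (fun _ _ _ => rfl)
  · intro p _ _ q _ _ h
    obtain ⟨h1, h2⟩ := C.E_inj h
    exact Prod.ext h1 h2
  · intro g _ hg
    obtain ⟨i, w, rfl⟩ := C.exists_E (g := g) (by by_contra h; exact hg (hF g h))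
    exact ⟨(w, i), Finset.mem_univ _, hg, rfl⟩

theorem card_NX : Nat.card (NX d) = 81 * C.nH := by
  classical
  let f : C.Wn × ZMod 3 → NX d := fun p => ⟨C.E p.2 p.1, C.E_mem _ _⟩
  have hf : Function.Bijective f := ⟨fun p q h => by
      obtain ⟨h1, h2⟩ := C.E_inj (congrArg Subtype.val h)
      exact Prod.ext h1 h2,
    fun g => by obtain ⟨i, w, h⟩ := C.exists_E g.2; exact ⟨(w, i), Subtype.ext h⟩⟩
  rw [← Nat.card_congr (Equiv.ofBijective f hf), Nat.card_prod, Nat.card_zmod]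
  have : Nat.card C.Wn = 27 * C.nH := by
    rw [Nat.card_congr
      { toFun := fun w : C.Wn => ((w.1.1, ⟨w.1.2, w.2⟩) : Vec × {h : Fin 24 // h.val < C.nH})
        invFun := fun p => ⟨(p.1, p.2.1), p.2.2⟩
        left_inv := fun _ => rfl
        right_inv := fun _ => rfl }, Nat.card_prod, Nat.card_eq_fintype_card, Nat.card_eq_fintype_card]
    rcases C.nH_cases with e | e <;> rw [e] <;> decide
  rw [this]; ring

/-- The sum of a character over the lifts of a point of the model. -/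
noncomputable def fsum (χ : Cfsg.IrrCharacter (Cy d)) (w : C.Wn) : ℂ := ∑ i : ZMod 3, (χ : Cy d → ℂ) (C.E i w)

theorem fsum_conj (χ : Cfsg.IrrCharacter (Cy d)) (a w : C.Wn) (h : (conjW a.1 w.1).2.val < C.nH) :
    C.fsum χ ⟨conjW a.1 w.1, h⟩ = C.fsum χ w := by
  obtain ⟨h', δ, hδ⟩ := C.E_conj a w
  rw [fsum, fsum]
  symm
  refine Fintype.sum_equiv (Equiv.addRight δ) _ _ fun i => ?_
  show _ = (χ : Cy d → ℂ) (C.E (i + δ) _)
  rw [← hδ i, isClassFunction_irr χ]

variable {nc nt nf : ℕ} {T : Model.Tab nc nt nf} (hT : T.Ok) (hnH : T.nH = C.nH)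
include hT hnH

theorem mem_allW (w : C.Wn) : w.1 ∈ Model.allW T.nH := by
  simp only [Model.allW, List.mem_flatMap, List.mem_filter, List.mem_map, decide_eq_true_eq]
  exact ⟨w.1.2, ⟨List.mem_finRange _, by rw [hnH]; exact w.2⟩, w.1.1, Model.mem_allV _, rfl⟩

theorem allW_lt {w : Model.W} (h : w ∈ Model.allW T.nH) : w.2.val < C.nH := by
  simp only [Model.allW, List.mem_flatMap, List.mem_filter, List.mem_map, decide_eq_true_eq] at h
  obtain ⟨k, ⟨-, hk⟩, v, -, rfl⟩ := h
  rw [← hnH]; exact hk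

omit hT in
/-- The representative of a class. -/
noncomputable def repW (hT : T.Ok) (hnH : T.nH = C.nH) (c : Fin (nc + 1)) : C.Wn :=
  ⟨T.rep c, lt_of_lt_of_eq (hT.cls_rep c).1 hnH⟩

theorem fsum_cls (χ : Cfsg.IrrCharacter (Cy d)) (w : C.Wn) :
    C.fsum χ w = C.fsum χ (C.repW hT hnH (T.cls w.1)) := by
  obtain ⟨a, ha, he⟩ := List.any_eq_true.1 (hT.wit w.1 (C.mem_allW hT hnH w))
  have hlow := C.allW_lt hT hnH ha
  have he' : conjW a w.1 = T.rep (T.cls w.1) := eq_of_beq he
  have hc : (conjW a w.1).2.val < C.nH := by rw [he']; exact lt_of_lt_of_eq (hT.cls_rep _).1 hnH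
  rw [← C.fsum_conj χ ⟨a, hlow⟩ w hc]
  congr 1
  exact Subtype.ext he'

/-- The classes are invariant under conjugation. -/
theorem cls_conj (a w : C.Wn) : T.cls (conjW a.1 w.1) = T.cls w.1 := by
  set P : Model.W → Prop := fun a => a.2.val < C.nH ∧
    ∀ w : Model.W, w.2.val < C.nH → T.cls (conjW a w) = T.cls w
  have hmul : ∀ a b, P a → P b → P (mulW a b) := by
    intro a b ha hb
    refine ⟨C.low_mul ⟨a, ha.1⟩ ⟨b, hb.1⟩, fun w hw => ?_⟩
    obtain ⟨hlow, -⟩ := C.E_conj ⟨b, hb.1⟩ ⟨w, hw⟩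
    have hinv : invW (mulW a b) = mulW (invW b) (invW a) := by
      have h1 : mulW (mulW (invW b) (invW a)) (mulW a b) = oneW := by
        rw [Model.mulW_assoc, ← Model.mulW_assoc (invW a), (Model.invW_mul a).1, (Model.mulW_one b).2,
          (Model.invW_mul b).1]
      calc invW (mulW a b) = mulW (mulW (mulW (invW b) (invW a)) (mulW a b)) (invW (mulW a b)) := by
            rw [h1, (Model.mulW_one _).2]
        _ = mulW (invW b) (invW a) := by
            rw [Model.mulW_assoc, (Model.invW_mul _).2, (Model.mulW_one _).1]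
    have : conjW (mulW a b) w = conjW a (conjW b w) := by
      simp only [conjW, hinv, Model.mulW_assoc]
    rw [this, ha.2 _ hlow, hb.2 w hw]
  have hone : P oneW := ⟨C.one.2, fun w _ => by
    have e : invW oneW = oneW := by decide +kernel
    rw [conjW, e, (Model.mulW_one w).2, (Model.mulW_one w).1]⟩
  have hax : ∀ v ∈ Model.axes, P (v, 0) := fun v hv =>
    ⟨C.one.2, fun w hw => hT.inv_v v hv w (hnH.symm ▸ hw)⟩
  have hpow : ∀ v ∈ Model.axes, ∀ n, P (powW (v, 0) n) := fun v hv n => by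
    induction n with
    | zero => exact hone
    | succ k ih => exact hmul _ _ ih (hax v hv)
  have hsplit : ∀ v : Vec, ((v, 0) : Model.W) = mulW (powW ((1, 0, 0), 0) v.1.val)
      (mulW (powW ((0, 1, 0), 0) v.2.1.val) (powW ((0, 0, 1), 0) v.2.2.val)) := by decide +kernel
  have hv : P (a.1.1, 0) := by
    rw [hsplit]
    exact hmul _ _ (hpow _ (by decide) _) (hmul _ _ (hpow _ (by decide) _) (hpow _ (by decide) _))
  have hh : P (0, a.1.2) := ⟨a.2, fun w hw => hT.inv_h _ (hnH.symm ▸ a.2) w (hnH.symm ▸ hw)⟩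
  have ha : P a.1 := by
    have h1 := hmul _ _ hv hh
    rwa [show mulW (a.1.1, 0) (0, a.1.2) = a.1 from
      Prod.ext (by simp [mulW, Model.hf_zero]) (Model.hm_one _).1] at h1
  exact ha.2 w.1 w.2

open scoped Classical in
/-- The value of a class function of the table. -/
noncomputable def fval (hT : T.Ok) (hnH : T.nH = C.nH) (k : Fin nf) (g : Cy d) : ℂ :=
  if hg : g ∈ NX d then ev (T.val k (T.cls (C.cd g hg).1)) else 0

theorem fval_E (k : Fin nf) (i : ZMod 3) (w : C.Wn) :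
    C.fval hT hnH k (C.E i w) = ev (T.val k (T.cls w.1)) := by
  rw [fval, dif_pos (C.E_mem i w), C.cd_E]

/-- The class function with given index. -/
noncomputable def phi (k : Fin nf) : Exceptional.Fn (NX d) (SX d) where
  val := C.fval hT hnH k
  off := by
    intro g hg
    by_cases h : g ∈ NX d
    · obtain ⟨i, w, rfl⟩ := C.exists_E h
      rw [C.fval_E hT hnH]
      have hs : Model.spW w.1 = false := by
        by_contra hs
        exact hg (C.spW_Sp (by simpa using hs))
      rw [hT.off w.1 (C.mem_allW hT hnH w) hs k, Model.ev_zero]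
    · rw [fval, dif_neg h]
  conj_inv := by
    intro x hx g
    by_cases h : g ∈ NX d
    · obtain ⟨i, w, rfl⟩ := C.exists_E h
      obtain ⟨k', a, rfl⟩ := C.exists_E hx
      have e : C.E k' a * C.E i w * (C.E k' a)⁻¹ = C.E 0 a * C.E i w * (C.E 0 a)⁻¹ := by
        rw [show k' = k' + 0 by simp, C.E_shift k' 0 a, mul_inv_rev]
        calc yX k' * C.E 0 a * C.E i w * ((C.E 0 a)⁻¹ * (yX k')⁻¹)
            = yX k' * (C.E 0 a * C.E i w * (C.E 0 a)⁻¹) * (yX k')⁻¹ := by group
          _ = C.E 0 a * C.E i w * (C.E 0 a)⁻¹ := by rw [← yX_comm, mul_inv_cancel_right]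
      obtain ⟨hlow, δ, hδ⟩ := C.E_conj a w
      rw [e, hδ, C.fval_E hT hnH, C.fval_E hT hnH, C.cls_conj hT hnH a w]
    · have hn : x * g * x⁻¹ ∉ NX d := fun hc => h (by
        have := mul_mem (mul_mem (inv_mem hx) hc) hx
        simpa [mul_assoc] using this)
      rw [fval, fval, dif_neg h, dif_neg hn]

theorem coe_phi (k : Fin nf) : (C.phi hT hnH k).val = C.fval hT hnH k := rfl

/-- Sums over the model as lists. -/
theorem sum_Wn (f : Model.W → ℂ) : ∑ w : C.Wn, f w.1 = ((Model.allW T.nH).map f).sum := by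
  classical
  have hnd : (Model.allW T.nH).Nodup := by
    rw [Model.allW, List.nodup_flatMap]
    refine ⟨fun h _ => Model.allV_nodup.map fun a b e => (Prod.ext_iff.1 e).1, ?_⟩
    refine List.Pairwise.imp ?_ ((List.nodup_finRange 24).filter _)
    intro h h' hne w hw hw'
    simp only [List.mem_map] at hw hw'
    obtain ⟨_, -, rfl⟩ := hw
    obtain ⟨_, -, e⟩ := hw'
    exact hne (Prod.ext_iff.1 e).2.symm
  rw [← List.sum_toFinset _ hnd]
  refine (Finset.sum_subtype _ (fun w => ?_) f).symm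
  rw [List.mem_toFinset]
  exact ⟨fun h => C.allW_lt hT hnH h, fun h => C.mem_allW hT hnH ⟨w, h⟩⟩

omit hT hnH in
/-- Regrouping a list by classes. -/
theorem sum_by_class (l : List Model.W) (v : Model.W → ℂ) (f : Fin (nc + 1) → ℂ) :
    (l.map fun w => v w * f (T.cls w)).sum =
      ∑ c, ((l.filter fun w => decide (T.cls w = c)).map v).sum * f c := by
  induction l with
  | nil => simp
  | cons w l ih =>
    rw [List.map_cons, List.sum_cons, ih]
    have hsplit : ∀ c, (((w :: l).filter fun w => decide (T.cls w = c)).map v).sum =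
        (if T.cls w = c then v w else 0) + ((l.filter fun w => decide (T.cls w = c)).map v).sum := fun c => by
      by_cases h : T.cls w = c <;> simp [h]
    simp only [hsplit, add_mul, Finset.sum_add_distrib, ite_mul, zero_mul]
    rw [Finset.sum_ite_eq, if_pos (Finset.mem_univ _)]

/-- A sum of a class quantity over the model. -/
theorem sum_Wn_cls (f : Fin (nc + 1) → ℂ) :
    ∑ w : C.Wn, f (T.cls w.1) = ∑ c, (T.size c : ℂ) * f c := by
  rw [C.sum_Wn hT hnH fun w => f (T.cls w)]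
  have := Cfg.sum_by_class (T := T) (Model.allW T.nH) (fun _ => 1) f
  simp only [one_mul] at this
  rw [this]
  refine Finset.sum_congr rfl fun c _ => ?_
  rw [← hT.size_ok c]
  simp

theorem lookup_mem {j : Fin nt} {h : Fin 24} (hh : h ∈ (T.term j).hs.map Prod.fst) :
    ∃ p ∈ (T.term j).hs, p.1 = h ∧ ((T.term j).hs.lookup h).getD 0 = p.2 := by
  obtain ⟨p, hp, rfl⟩ := List.mem_map.1 hh
  exact ⟨p, hp, rfl, hT.term_lookup j p hp⟩

/-- The monomial subgroup. -/
noncomputable def sub (hT : T.Ok) (hnH : T.nH = C.nH) (j : Fin nt) : Subgroup (Cy d) where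
  carrier := {g | ∃ i, ∃ w : C.Wn, w.1.2 ∈ (T.term j).hs.map Prod.fst ∧ C.E i w = g}
  one_mem' := ⟨0, C.one, (hT.term_one j).2, C.E_one⟩
  mul_mem' := by
    rintro _ _ ⟨i, a, ha, rfl⟩ ⟨k, b, hb, rfl⟩
    obtain ⟨l, hl⟩ := C.exists_mul i k a b
    obtain ⟨p, hp, hpa⟩ := List.mem_map.1 ha
    obtain ⟨q, hq, hqb⟩ := List.mem_map.1 hb
    refine ⟨l, C.mul a b, ?_, hl.symm⟩
    show hm a.1.2 b.1.2 ∈ _
    rw [← hpa, ← hqb]
    exact (hT.term_mul j p hp q hq).1
  inv_mem' := by
    rintro g ⟨i, w, hw, rfl⟩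
    have hpow : ∀ n, ∃ k, ∃ v : C.Wn, v.1.2 ∈ (T.term j).hs.map Prod.fst ∧ C.E k v = C.E i w ^ n := by
      intro n
      induction n with
      | zero => exact ⟨0, C.one, (hT.term_one j).2, by rw [pow_zero]; exact C.E_one⟩
      | succ m ih =>
        obtain ⟨k, v, hv, he⟩ := ih
        obtain ⟨l, hl⟩ := C.exists_mul k i v w
        obtain ⟨p, hp, hpv⟩ := List.mem_map.1 hv
        obtain ⟨q, hq, hqw⟩ := List.mem_map.1 hw
        refine ⟨l, C.mul v w, ?_, by rw [pow_succ, ← he, hl]⟩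
        show hm v.1.2 w.1.2 ∈ _
        rw [← hpv, ← hqw]
        exact (hT.term_mul j p hp q hq).1
    obtain ⟨k, v, hv, he⟩ := hpow (orderOf (C.E i w) - 1)
    refine ⟨k, v, hv, ?_⟩
    rw [he, eq_inv_iff_mul_eq_one, ← pow_succ, Nat.sub_add_cancel (orderOf_pos _), pow_orderOf_eq_one]

theorem ex_mul (j : Fin nt) {a b : C.Wn} (ha : a.1.2 ∈ (T.term j).hs.map Prod.fst)
    (hb : b.1.2 ∈ (T.term j).hs.map Prod.fst) :
    (T.term j).ex (mulW a.1 b.1) % 12 = ((T.term j).ex a.1 + (T.term j).ex b.1) % 12 := by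
  obtain ⟨p, hp, hpa, hla⟩ := C.lookup_mem hT hnH ha
  obtain ⟨q, hq, hqb, hlb⟩ := C.lookup_mem hT hnH hb
  have h1 := (hT.term_mul j p hp q hq).2
  rw [hpa, hqb] at h1
  have hd : Model.dot (T.term j).l (mulW a.1 b.1).1 =
      Model.dot (T.term j).l a.1.1 + Model.dot (T.term j).l b.1.1 := by
    show Model.dot (T.term j).l (a.1.1 + hf a.1.2 b.1.1) = _
    have hlin : ∀ l v w : Vec, Model.dot l (v + w) = Model.dot l v + Model.dot l w := fun l v w => by
      simp only [Model.dot, Prod.fst_add, Prod.snd_add]; ring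
    rw [hlin]
    congr 1
    have hfix := (hT.term_low j p hp).2
    rw [hpa] at hfix
    conv_lhs => rw [← hfix]
    rw [Model.hf_dot]
  have hval : ∀ x y : ZMod 3, 4 * (x + y).val % 12 = (4 * x.val + 4 * y.val) % 12 := by decide +kernel
  have h2 := hval (Model.dot (T.term j).l a.1.1) (Model.dot (T.term j).l b.1.1)
  simp only [Model.Term.ex]
  rw [hd, show (mulW a.1 b.1).2 = hm a.1.2 b.1.2 from rfl, hla, hlb]
  omega

/-- The linear character of the monomial subgroup. -/
noncomputable def lam (hT : T.Ok) (hnH : T.nH = C.nH) (j : Fin nt) : C.sub hT hnH j →* ℂˣ where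
  toFun x := zetaU ^ (T.term j).ex x.2.choose_spec.choose.1
  map_one' := by
    have h := (1 : C.sub hT hnH j).2.choose_spec.choose_spec
    have hh := (C.E_inj (h.2.trans (Subgroup.coe_one _) |>.trans C.E_one.symm)).1
    rw [hh, ← Model.zetaU_pow_mod]
    have h0 := (hT.term_one j).1
    have hd : Model.dot (T.term j).l (0 : Vec) = 0 := by simp [Model.dot]
    rw [show (T.term j).ex C.one.1 = 4 * (Model.dot (T.term j).l 0).val + ((T.term j).hs.lookup 0).getD 0 from rfl,
      hd, ZMod.val_zero, mul_zero, zero_add, h0, pow_zero]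
  map_mul' x y := by
    have h := (x * y).2.choose_spec.choose_spec
    have hx := x.2.choose_spec.choose_spec
    have hy := y.2.choose_spec.choose_spec
    obtain ⟨l, hl⟩ := C.exists_mul x.2.choose y.2.choose x.2.choose_spec.choose y.2.choose_spec.choose
    rw [hx.2, hy.2] at hl
    have hh := (C.E_inj (h.2.trans ((Subgroup.coe_mul _ x y).trans hl))).1
    rw [hh, ← pow_add, ← Model.zetaU_pow_mod, ← Model.zetaU_pow_mod ((T.term j).ex _ + _)]
    congr 1
    exact C.ex_mul hT hnH j hx.1 hy.1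

theorem elts_mem {j : Fin nt} {w : Model.W} :
    w ∈ (T.term j).elts ↔ w.2 ∈ (T.term j).hs.map Prod.fst := by
  simp only [Model.Term.elts, List.mem_flatMap, List.mem_map]
  constructor
  · rintro ⟨p, hp, v, -, rfl⟩; exact ⟨p, hp, rfl⟩
  · rintro ⟨p, hp, he⟩; exact ⟨p, hp, w.1, Model.mem_allV _, Prod.ext rfl he⟩

theorem elts_lt {j : Fin nt} {w : Model.W} (hw : w ∈ (T.term j).elts) : w.2.val < C.nH := by
  obtain ⟨p, hp, he⟩ := List.mem_map.1 ((C.elts_mem hT hnH).1 hw)
  rw [← he, ← hnH]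
  exact (hT.term_low j p hp).1

theorem elts_nodup (j : Fin nt) : (T.term j).elts.Nodup := by
  rw [Model.Term.elts, List.nodup_flatMap]
  refine ⟨fun p _ => Model.allV_nodup.map fun a b h => (Prod.ext_iff.1 h).1, ?_⟩
  have h := hT.term_nodup j
  rw [List.Nodup, List.pairwise_map] at h
  refine h.imp fun {p q} hpq => ?_
  intro w hw hw'
  obtain ⟨i, -, rfl⟩ := List.mem_map.1 hw
  obtain ⟨k, -, hk⟩ := List.mem_map.1 hw'
  exact hpq (Prod.ext_iff.1 hk).2.symm

/-- The weighted sum over a monomial subgroup is a multiple of its order. -/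
theorem exists_term (χ : Cfsg.IrrCharacter (Cy d)) (j : Fin nt) : ∃ n : ℕ,
    ∑ c, ev (T.sums j c) * conj (C.fsum χ (C.repW hT hnH c)) =
      ((81 * (T.term j).hs.length : ℕ) : ℂ) * n := by
  classical
  haveI : Fintype (C.sub hT hnH j) := Fintype.ofFinite _
  obtain ⟨n, hn⟩ := exists_classInner_nat
    (isCharacter_irr (Cfsg.Agent.Lib.Characters.Linear.linChar (C.lam hT hnH j)))
    (isCharacter_comp (C.sub hT hnH j).subtype (isCharacter_irr χ))
  let F : {w : Model.W // w ∈ (T.term j).elts.toFinset} × ZMod 3 → C.sub hT hnH j := fun p =>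
    ⟨C.E p.2 ⟨p.1.1, C.elts_lt hT hnH (List.mem_toFinset.1 p.1.2)⟩, p.2, _,
      (C.elts_mem hT hnH).1 (List.mem_toFinset.1 p.1.2), rfl⟩
  have hF : Function.Bijective F := by
    refine ⟨fun a b e => ?_, fun x => ?_⟩
    · obtain ⟨h1, h2⟩ := C.E_inj (congrArg Subtype.val e)
      exact Prod.ext (Subtype.ext (congrArg (fun w : C.Wn => w.1) h1)) h2
    · obtain ⟨i, w, hw, he⟩ := x.2
      exact ⟨(⟨w.1, List.mem_toFinset.2 ((C.elts_mem hT hnH).2 hw)⟩, i), Subtype.ext he⟩
  have hlen : (T.term j).elts.length = 27 * (T.term j).hs.length := by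
    simp [Model.Term.elts, List.length_flatMap, Model.allV_length, mul_comm]
  have hcard : Nat.card (C.sub hT hnH j) = 81 * (T.term j).hs.length := by
    rw [← Nat.card_congr (Equiv.ofBijective F hF), Nat.card_prod, Nat.card_eq_finsetCard,
      List.toFinset_card_of_nodup (C.elts_nodup hT hnH j), hlen, Nat.card_zmod]
    ring
  refine ⟨n, ?_⟩
  rw [← hn, Cfsg.classInner, ← hcard, ← mul_assoc, mul_inv_cancel₀ (Nat.cast_ne_zero.2 Nat.card_pos.ne'),
    one_mul]
  rw [← Equiv.sum_comp (Equiv.ofBijective F hF), Fintype.sum_prod_type]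
  -- regroup the right side by classes
  let g : Fin (nc + 1) → ℂ := fun c => conj (C.fsum χ (C.repW hT hnH c))
  have hl : ∑ c, ev (T.sums j c) * g c =
      ((T.term j).elts.map fun w => zeta ^ (T.term j).ex w * g (T.cls w)).sum := by
    rw [Cfg.sum_by_class (T := T) (T.term j).elts (fun w => zeta ^ (T.term j).ex w) g]
    refine Finset.sum_congr rfl fun c _ => ?_
    rw [← hT.sums_ok j c, Model.ev_zsum, List.map_map]
    congr 2
    refine List.map_congr_left fun w _ => ?_
    rw [Function.comp_apply, Model.ev_zpw, Model.zeta_pow_mod]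
  show ∑ c, ev (T.sums j c) * g c = _
  rw [hl, ← List.sum_toFinset _ (C.elts_nodup hT hnH j), ← Finset.sum_attach, Finset.attach_eq_univ]
  refine Finset.sum_congr rfl fun w _ => ?_
  have hlt := C.elts_lt hT hnH (List.mem_toFinset.1 w.2)
  show zeta ^ (T.term j).ex w.1 * conj (C.fsum χ (C.repW hT hnH (T.cls w.1))) = _
  rw [← C.fsum_cls hT hnH χ ⟨w.1, hlt⟩, fsum, map_sum, Finset.mul_sum]
  refine Finset.sum_congr rfl fun i _ => ?_
  have hs := (F (w, i)).2.choose_spec.choose_spec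
  simp only [Equiv.ofBijective_apply, Cfsg.Agent.Lib.Characters.Linear.linChar_apply, lam, MonoidHom.coe_mk,
    OneHom.coe_mk, Units.val_pow_eq_pow_val, Function.comp_apply, Subgroup.coe_subtype]
  rw [(C.E_inj hs.2).1]
  rfl

/-- The coefficient is an integer. -/
theorem exists_int (χ : Cfsg.IrrCharacter (Cy d)) (k : Fin nf) :
    ∃ R : ℤ, Exceptional.coef (C.phi hT hnH k) χ = R := by
  classical
  choose n hn using C.exists_term hT hnH χ
  refine ⟨∑ j, T.coef k j * n j, ?_⟩
  set g : Fin (nc + 1) → ℂ := fun c => conj (C.fsum χ (C.repW hT hnH c))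
  have hsum : ∑ x, (C.phi hT hnH k).val x * conj ((χ : Cy d → ℂ) x) =
      ∑ c, (T.size c : ℂ) * (ev (T.val k c) * g c) := by
    rw [C.sum_NX _ fun x hx => by rw [(C.phi hT hnH k).off x fun hS => hx hS.1, zero_mul],
      ← C.sum_Wn_cls hT hnH fun c => ev (T.val k c) * g c]
    refine Finset.sum_congr rfl fun w _ => ?_
    show _ = ev (T.val k (T.cls w.1)) * conj (C.fsum χ (C.repW hT hnH (T.cls w.1)))
    rw [← C.fsum_cls hT hnH χ w, fsum, map_sum, Finset.mul_sum]
    simp only [coe_phi, C.fval_E hT hnH]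
  have hval : ∀ c, (T.size c : ℂ) * (ev (T.val k c) * g c) =
      ∑ j, (T.coef k j : ℂ) * ((T.nH / (T.term j).hs.length : ℕ) : ℂ) * (ev (T.sums j c) * g c) := by
    intro c
    rw [← mul_assoc, ← Int.cast_natCast (T.size c), ← Model.ev_smul, ← hT.val_ok k c, Model.ev_zsum,
      List.map_map, ← Fin.sum_univ_def, Finset.sum_mul]
    refine Finset.sum_congr rfl fun j _ => ?_
    rw [Function.comp_apply, Model.ev_smul, Int.cast_mul, Int.cast_natCast]
    ring
  rw [Exceptional.coef, hsum, Finset.sum_congr rfl fun c _ => hval c, Finset.sum_comm]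
  simp only [← Finset.mul_sum, g, hn]
  have hpos : (Nat.card (NX d) : ℂ) ≠ 0 := Nat.cast_ne_zero.2 Nat.card_pos.ne'
  rw [inv_mul_eq_iff_eq_mul₀ hpos, C.card_NX, ← hnH]
  push_cast
  rw [Finset.mul_sum]
  refine Finset.sum_congr rfl fun j _ => ?_
  have hq : (((T.nH / (T.term j).hs.length : ℕ) : ℂ)) * ((T.term j).hs.length : ℂ) = (T.nH : ℂ) := by
    exact_mod_cast Nat.div_mul_cancel (hT.term_dvd j)
  linear_combination 81 * (T.coef k j : ℂ) * (n j : ℂ) * hq

/-- The integral coefficient. -/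
noncomputable def fint (hT : T.Ok) (hnH : T.nH = C.nH) (k : Fin nf) (χ : Cfsg.IrrCharacter (Cy d)) : ℤ :=
  (C.exists_int hT hnH χ k).choose

theorem coef_eq (k : Fin nf) (χ : Cfsg.IrrCharacter (Cy d)) :
    Exceptional.coef (C.phi hT hnH k) χ = (C.fint hT hnH k χ : ℂ) :=
  (C.exists_int hT hnH χ k).choose_spec

/-- The Gram matrix. -/
theorem gram [Fintype (Cfsg.IrrCharacter (Cy d))] (k l : Fin nf) :
    ∑ χ : Cfsg.IrrCharacter (Cy d), C.fint hT hnH k χ * C.fint hT hnH l χ = T.gram k l := by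
  have h := Exceptional.sum_coef_mul_conj (special d) (C.phi hT hnH k) (C.phi hT hnH l)
  simp only [C.coef_eq hT hnH, map_intCast] at h
  have hsum : ∑ x, (C.phi hT hnH k).val x * conj ((C.phi hT hnH l).val x) =
      3 * ∑ c, (T.size c : ℂ) * (ev (T.val k c) * conj (ev (T.val l c))) := by
    rw [C.sum_NX _ fun x hx => by rw [(C.phi hT hnH k).off x fun hS => hx hS.1, zero_mul],
      ← C.sum_Wn_cls hT hnH fun c => ev (T.val k c) * conj (ev (T.val l c)), Finset.mul_sum]
    refine Finset.sum_congr rfl fun w _ => ?_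
    simp only [coe_phi, C.fval_E hT hnH, Finset.sum_const, Finset.card_univ, ZMod.card, nsmul_eq_mul,
      Nat.cast_ofNat]
  have hg : ∑ c, (T.size c : ℂ) * (ev (T.val k c) * conj (ev (T.val l c))) =
      27 * (T.nH : ℂ) * (T.gram k l : ℂ) := by
    have h1 := congrArg ev (hT.gram_ok k l)
    rw [Model.ev_zsum, List.map_map, ← Fin.sum_univ_def, Model.ev_int] at h1
    push_cast at h1
    rw [← h1]
    refine Finset.sum_congr rfl fun c _ => ?_
    rw [Function.comp_apply, Model.ev_smul, Model.ev_mulZ, Model.ev_conjZ, Int.cast_natCast]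
  rw [hsum, hg, C.card_NX, ← hnH] at h
  have hn0 : (T.nH : ℂ) ≠ 0 := by rcases hT.nH_ok with e | e <;> rw [e] <;> norm_num
  push_cast at h
  field_simp at h
  have h2 : ((∑ χ : Cfsg.IrrCharacter (Cy d), C.fint hT hnH k χ * C.fint hT hnH l χ : ℤ) : ℂ) =
      (T.gram k l : ℂ) := by
    push_cast
    linear_combination h / 81
  exact_mod_cast h2

/-- Orthogonality to the values at the elements whose square is one. -/
theorem orth [Fintype (Cfsg.IrrCharacter (Cy d))] (k : Fin nf) {g : Cy d} (hg : g * g = 1) :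
    ∑ χ : Cfsg.IrrCharacter (Cy d), (C.fint hT hnH k χ : ℂ) * (χ : Cy d → ℂ) g = 0 := by
  simp only [← C.coef_eq hT hnH]
  refine Exceptional.sum_coef_apply _ fun b hb => ?_
  have h2 : (b * g * b⁻¹) * (b * g * b⁻¹) = 1 := by
    rw [show (b * g * b⁻¹) * (b * g * b⁻¹) = b * (g * g) * b⁻¹ by group, hg]
    group
  exact not_Sp_of_sq d (congrArg Subtype.val h2) hb

/-- The involution over an involution of the model. -/
noncomputable def lw (w : C.Wn) : Cy d := C.E 0 w ^ 3

omit hT hnH in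
theorem lw_spec {w : C.Wn} (h2 : powW w.1 2 = oneW) :
    ∃ i, lw C w = C.E i w := by
  obtain ⟨l, hlow, he⟩ := C.E_pow w 3 0
  refine ⟨l, he.trans ?_⟩
  congr 1
  refine Subtype.ext ?_
  show powW w.1 3 = w.1
  rw [powW, h2, (Model.mulW_one _).2]

omit hT hnH in
theorem lw_sq {w : C.Wn} (h2 : powW w.1 2 = oneW) : lw C w * lw C w = 1 := by
  rw [lw, ← pow_add, show 3 + 3 = 2 * 3 from rfl, pow_mul]
  obtain ⟨l, hlow, he⟩ := C.E_pow w 2 0
  rw [he, C.E_cube]
  have : (⟨powW w.1 2, hlow⟩ : C.Wn) = C.one := Subtype.ext h2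
  rw [this, C.E_one, one_pow]

theorem lw_conj {a w : C.Wn} (h : conjW a.1 w.1 = T.rep (T.cls w.1)) :
    C.E 0 a * lw C w * (C.E 0 a)⁻¹ = lw C (C.repW hT hnH (T.cls w.1)) := by
  obtain ⟨hlow, δ, hδ⟩ := C.E_conj a w
  rw [lw, lw, ← conj_pow, hδ 0, C.E_cube]
  congr 2
  exact Subtype.ext h

open scoped Classical in
/-- The lifts of the involutions of a class. -/
noncomputable def classInv (hT : T.Ok) (hnH : T.nH = C.nH) (c : Fin (nc + 1)) : Finset (Cy d) :=
  ((Finset.univ : Finset C.Wn).filter fun w => T.cls w.1 = c).image (lw C)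

/-- The conjugates in `N` of the involution over the representative of a class of involutions. -/
theorem conjIn_eq (c : Fin (nc + 1))
    (hinv : ∀ w ∈ Model.allW T.nH, T.cls w = c → powW w 2 = oneW ∧ w ≠ oneW)
    (hsep : ∀ w : C.Wn, powW w.1 2 = oneW → w.1 ≠ oneW → ∀ x : Cy d,
      x * lw C (C.repW hT hnH c) * x⁻¹ = lw C w → T.cls w.1 = c) :
    Exceptional.conjIn (NX d) (lw C (C.repW hT hnH c)) = C.classInv hT hnH c := by
  classical
  have hrep2 : powW (T.rep c) 2 = oneW ∧ T.rep c ≠ oneW :=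
    hinv _ (C.mem_allW hT hnH (C.repW hT hnH c)) (hT.cls_rep c).2
  ext p
  simp only [Exceptional.conjIn, classInv, Finset.mem_filter, Finset.mem_image, Finset.mem_univ, true_and]
  constructor
  · rintro ⟨⟨x, rfl⟩, hpN⟩
    set t := lw C (C.repW hT hnH c) with ht
    obtain ⟨i, w, hw⟩ := C.exists_E hpN
    have ht2 : t * t = 1 := C.lw_sq hrep2.1
    have hp2 : (x * t * x⁻¹) * (x * t * x⁻¹) = 1 := by
      rw [show (x * t * x⁻¹) * (x * t * x⁻¹) = x * (t * t) * x⁻¹ by group, ht2]; group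
    have hp3 : x * t * x⁻¹ = lw C w := by
      rw [lw, ← C.E_cube i w, hw, pow_succ, pow_two, hp2, one_mul]
    have hw2 : powW w.1 2 = oneW := by
      obtain ⟨l, hlow, he⟩ := C.E_pow w 2 i
      rw [hw, pow_two, hp2, ← C.E_one] at he
      exact (congrArg Subtype.val (C.E_inj he).1).symm
    have hw1 : w.1 ≠ oneW := fun h1 => by
      have e : w = C.one := Subtype.ext h1
      rw [e, lw, C.E_one, one_pow, conj_eq_one_iff] at hp3
      obtain ⟨i', hi'⟩ := C.lw_spec (w := C.repW hT hnH c) hrep2.1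
      rw [hp3, ← C.E_one] at ht
      exact hrep2.2 (congrArg Subtype.val (C.E_inj (ht.trans hi')).1).symm
    exact ⟨w, hsep w hw2 hw1 x hp3, hp3.symm⟩
  · rintro ⟨w, hwc, rfl⟩
    obtain ⟨a, ha, he⟩ := List.any_eq_true.1 (hT.wit w.1 (C.mem_allW hT hnH w))
    have hlow := C.allW_lt hT hnH ha
    have h := C.lw_conj hT hnH (a := ⟨a, hlow⟩) (w := w) (eq_of_beq he)
    rw [hwc] at h
    refine ⟨⟨(C.E 0 ⟨a, hlow⟩)⁻¹, ?_⟩, pow_mem (C.E_mem 0 w) 3⟩
    rw [← h]; group

/-- The sum of a class function over the products of two classes of involutions. -/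
theorem sum_classInv (k : Fin nf) (c c' : Fin (nc + 1))
    (hc : ∀ w ∈ Model.allW T.nH, T.cls w = c → powW w 2 = oneW ∧ w ≠ oneW)
    (hc' : ∀ w ∈ Model.allW T.nH, T.cls w = c' → powW w 2 = oneW ∧ w ≠ oneW) :
    ∑ p ∈ C.classInv hT hnH c, ∑ q ∈ C.classInv hT hnH c', (C.phi hT hnH k).val (p * q) =
      ev (Model.zsum (((Model.allW T.nH).filter fun w => decide (T.cls w = c)).flatMap fun p =>
        ((Model.allW T.nH).filter fun w => decide (T.cls w = c')).map fun q => T.val k (T.cls (mulW p q)))) := by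
  classical
  have hinj : ∀ e : Fin (nc + 1), (∀ w ∈ Model.allW T.nH, T.cls w = e → powW w 2 = oneW ∧ w ≠ oneW) →
      Set.InjOn (lw C) ((Finset.univ : Finset C.Wn).filter fun w => T.cls w.1 = e) := by
    intro e he a ha b hb hab
    simp only [Finset.coe_filter, Finset.mem_univ, true_and, Set.mem_setOf_eq] at ha hb
    obtain ⟨i, hi⟩ := C.lw_spec (he _ (C.mem_allW hT hnH a) ha).1
    obtain ⟨i', hi'⟩ := C.lw_spec (he _ (C.mem_allW hT hnH b) hb).1
    rw [hi, hi'] at hab
    exact (C.E_inj hab).1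
  rw [classInv, classInv, Finset.sum_image (hinj c hc)]
  have hrow : ∀ a ∈ (Finset.univ : Finset C.Wn).filter (fun w => T.cls w.1 = c),
      ∑ q ∈ ((Finset.univ : Finset C.Wn).filter fun w => T.cls w.1 = c').image (lw C),
        (C.phi hT hnH k).val (lw C a * q) =
      (((Model.allW T.nH).filter fun w => decide (T.cls w = c')).map fun q =>
        ev (T.val k (T.cls (mulW a.1 q)))).sum := by
    intro a ha
    rw [Finset.mem_filter] at ha
    rw [Finset.sum_image (hinj c' hc'), Finset.sum_filter]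
    obtain ⟨i, hi⟩ := C.lw_spec (hc _ (C.mem_allW hT hnH a) ha.2).1
    have hb : ∀ b : C.Wn, (if T.cls b.1 = c' then (C.phi hT hnH k).val (lw C a * lw C b) else 0) =
        (fun q : Model.W => if T.cls q = c' then ev (T.val k (T.cls (mulW a.1 q))) else 0) b.1 := by
      intro b
      by_cases hbc : T.cls b.1 = c'
      · obtain ⟨i', hi'⟩ := C.lw_spec (hc' _ (C.mem_allW hT hnH b) hbc).1
        obtain ⟨l, hl⟩ := C.exists_mul i i' a b
        simp only [if_pos hbc]
        rw [hi, hi', hl, coe_phi, C.fval_E hT hnH]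
        rfl
      · simp only [if_neg hbc]
    rw [Finset.sum_congr rfl fun b _ => hb b,
      C.sum_Wn hT hnH fun q => if T.cls q = c' then ev (T.val k (T.cls (mulW a.1 q))) else 0]
    generalize Model.allW T.nH = l
    induction l with
    | nil => simp
    | cons q l ih => by_cases h : T.cls q = c' <;> simp [h, ih]
  rw [Finset.sum_congr rfl hrow, Finset.sum_filter]
  rw [C.sum_Wn hT hnH fun p => if T.cls p = c then
    (((Model.allW T.nH).filter fun w => decide (T.cls w = c')).map fun q =>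
        ev (T.val k (T.cls (mulW p q)))).sum else 0]
  rw [Model.ev_zsum]
  generalize ((Model.allW T.nH).filter fun w => decide (T.cls w = c')) = l'
  generalize Model.allW T.nH = l
  induction l with
  | nil => simp
  | cons p l ih => by_cases h : T.cls p = c <;> simp [h, ih, List.map_map, Function.comp_def]

end Cfg

end Cfsg.Agent.Lib.McL3NonSing87
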