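import Cfsg.Agent.Lib.McL3Local35.Six
import Cfsg.Agent.Lib.McL3Local35.SLFive

/-!
# The subgroup `A₄` of `A₆` fixing a non-singular point, and two facts about `SL(2,5)`
-/

set_option autoImplicit false
set_option maxRecDepth 100000
set_option synthInstance.maxSize 4000
set_option synthInstance.maxHeartbeats 200000

namespace Cfsg.Agent.Lib.McL3NonSing87.SixExtra

open Cfsg.Agent.Lib.McL3Local35

/-- An element of order three permuting the involutions of the four-group `⟨tbar, wbar⟩`. -/
def rbar : Six.A6 := Six.mk ![3, 4, 0, 2, 5, 1] ![2, 5, 3, 0, 1, 4]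

/-- An element carrying the fixed Sylow subgroup to one containing `rbar`. -/
def g0 : Six.A6 := Six.mk ![0, 2, 3, 1, 4, 5] ![0, 3, 1, 2, 4, 5]

/-- The members of the four-group. -/
def fours : List Six.A6 := [1, Six.tbar, Six.wbar, Six.tbar * Six.wbar]

/-- The members of the alternating group of degree four. -/
def a4 : List Six.A6 := fours.flatMap fun v => [v, v * rbar, v * (rbar * rbar)]

theorem rbar_cube : rbar * rbar * rbar = 1 := by decide +kernel

theorem rbar_ne : rbar ≠ 1 := by decide +kernel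

theorem t_r : Six.tbar * rbar = rbar * (Six.tbar * Six.wbar) := by decide +kernel

theorem w_r : Six.wbar * rbar = rbar * Six.tbar := by decide +kernel

theorem tw_r : Six.tbar * Six.wbar * rbar = rbar * Six.wbar := by decide +kernel

theorem e_r : Six.ebar * rbar = Six.tbar * (rbar * rbar) * Six.ebar := by decide +kernel

theorem e_rr : Six.ebar * (rbar * rbar) = Six.wbar * rbar * Six.ebar := by decide +kernel

theorem rbar_g0 : Six.InP (g0⁻¹ * rbar * g0) := by decide +kernel

theorem e_g0 : Six.InN ((Six.tbar * Six.wbar * g0)⁻¹ * (Six.ebar * g0)) := by decide +kernel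

theorem t_g0 : ¬ Six.InN (g0⁻¹ * Six.tbar * g0) := by decide +kernel

theorem a4_closed : ∀ x ∈ a4, ∀ y ∈ a4, x * y ∈ a4 := by decide +kernel

theorem rbar_mem : rbar ∈ a4 := by decide +kernel

theorem tbar_mem : Six.tbar ∈ a4 := by decide +kernel

theorem wbar_mem : Six.wbar ∈ a4 := by decide +kernel

/-- A member of `A₆` lies in `A₄`, in the other coset of `S₄`, or gives an element of order five
with a member of `A₄`. -/
theorem a4_cases : ∀ x : Six.A6, x ∈ a4 ∨ x * Six.ebar ∈ a4 ∨
    a4.any (fun a => decide ((x * a) ^ 5 = 1 ∧ x * a ≠ 1)) = true := by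
  decide +kernel

theorem a4_involution : ∀ x ∈ a4, x * x = 1 → x ≠ 1 →
    x = Six.tbar ∨ x = Six.wbar ∨ x = Six.tbar * Six.wbar := by
  decide +kernel

theorem five_five : ∀ x : Six.A6, x ^ 5 = 1 → x ≠ 1 → x ^ 2 ≠ 1 := by decide +kernel

/-- Two subgroups of order three of `SL(2,5)` give the central involution. -/
theorem two_threes : ∀ x : SLFive.SL, x * x * x = 1 → x ≠ 1 → ∀ y : SLFive.SL, y * y * y = 1 → y ≠ 1 →
    y = x ∨ y = x⁻¹ ∨ (x * y) ^ 2 = -1 ∨ (x * y) ^ 3 = -1 ∨ (x * y) ^ 5 = -1 ∨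
      (x * y⁻¹) ^ 2 = -1 ∨ (x * y⁻¹) ^ 3 = -1 ∨ (x * y⁻¹) ^ 5 = -1 := by
  decide +kernel

end Cfsg.Agent.Lib.McL3NonSing87.SixExtra
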