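import Cfsg.Agent.Lib.McL3Local35.CentY
import Cfsg.Agent.Lib.McL3Local35.Quot
import Cfsg.Agent.Lib.McL3NonSing87.SixExtra

/-!
# Coordinates of `J` at the non-singular point `z z2`

`J = ⟨y⟩ × ⟨a⟩ × ⟨b⟩ × ⟨c⟩`, the four eigenspaces of the four-group `⟨t, s⟩`, the last three permuted
by an element `r` of order three modulo `J`.
-/

set_option autoImplicit false

namespace Cfsg.Agent.Lib.McL3NonSing87

open Subgroup
open Cfsg.Agent.Lib.McL3Local35

/-- Coordinates on the complement of `y`. -/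
abbrev V3 := ZMod 3 × ZMod 3 × ZMod 3

/-- A power with exponent in `ZMod 3`. -/
def pw {G : Type*} [Group G] (x : G) (i : ZMod 3) : G := x ^ i.val

section Pw

variable {G : Type*} [Group G] {x : G}

theorem pw_add (hx : x ^ 3 = 1) (i k : ZMod 3) : pw x (i + k) = pw x i * pw x k := by
  rw [pw, pw, pw, ← pow_add, ZMod.val_add]
  exact (pow_eq_pow_mod _ hx).symm

theorem pw_zero : pw x 0 = 1 := by rw [pw, ZMod.val_zero, pow_zero]

theorem pw_one : pw x 1 = x := by rw [pw, show (1 : ZMod 3).val = 1 from rfl, pow_one]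

theorem pw_neg (hx : x ^ 3 = 1) (i : ZMod 3) : pw x (-i) = (pw x i)⁻¹ := by
  rw [eq_inv_iff_mul_eq_one, ← pw_add hx, neg_add_cancel, pw_zero]

theorem pw_conj (g : G) (i : ZMod 3) : g * pw x i * g⁻¹ = pw (g * x * g⁻¹) i := by
  rw [pw, pw, conj_pow]

theorem pw_inv (hx : x ^ 3 = 1) (i : ZMod 3) : pw x⁻¹ i = pw x (-i) := by
  rw [pw_neg hx, pw, pw, inv_pow]

theorem pw_eq_one (hx : x ^ 3 = 1) (hx1 : x ≠ 1) {i : ZMod 3} (h : pw x i = 1) : i = 0 := by
  have hd := orderOf_dvd_of_pow_eq_one (show x ^ i.val = 1 from h)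
  rw [orderOf_eq_prime hx hx1] at hd
  have h0 : i.val = 0 := Nat.eq_zero_of_dvd_of_lt hd (ZMod.val_lt i)
  exact (ZMod.val_eq_zero i).1 h0

end Pw

variable {G : Type*} [Group G] [Finite G] (d : Std G)

/-- A representative in `M` of an element of `A₆`. -/
noncomputable def lift (a : Six.A6) : G := ((d.pi_surj a).choose : G)

theorem lift_mem (a : Six.A6) : lift d a ∈ d.M := (d.pi_surj a).choose.2

theorem img_lift (a : Six.A6) : d.img (lift d a) (lift_mem d a) = a := (d.pi_surj a).choose_spec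

theorem conj_eq {x x' : G} (hx : x ∈ d.M) (hx' : x' ∈ d.M) (h : d.img x hx = d.img x' hx') {j : G}
    (hj : j ∈ d.J) : x * j * x⁻¹ = x' * j * x'⁻¹ := by
  have hJ : x'⁻¹ * x ∈ d.J := by
    rw [← d.img_eq_one (mul_mem (inv_mem hx') hx), d.img_mul (inv_mem hx') hx, d.img_inv hx', h,
      inv_mul_cancel]
  calc x * j * x⁻¹ = x' * ((x'⁻¹ * x) * j * (x'⁻¹ * x)⁻¹) * x'⁻¹ := by group
    _ = x' * j * x'⁻¹ := by rw [d.J_comm _ hJ _ hj, mul_inv_cancel_right]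

/-- The action of `A₆` on `J`. -/
noncomputable def actJ (a : Six.A6) (j : G) : G := lift d a * j * (lift d a)⁻¹

theorem act_img {x : G} (hx : x ∈ d.M) {j : G} (hj : j ∈ d.J) :
    x * j * x⁻¹ = actJ d (d.img x hx) j :=
  conj_eq d hx (lift_mem d _) (img_lift d _).symm hj

theorem act_mem (a : Six.A6) {j : G} (hj : j ∈ d.J) : actJ d a j ∈ d.J :=
  d.M_norms _ (lift_mem d a) j hj

theorem act_mul (a b : Six.A6) {j : G} (hj : j ∈ d.J) : actJ d (a * b) j = actJ d a (actJ d b j) := by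
  have hm := mul_mem (lift_mem d a) (lift_mem d b)
  have h : d.img (lift d a * lift d b) hm = a * b := by
    rw [d.img_mul (lift_mem d a) (lift_mem d b), img_lift, img_lift]
  rw [← h, ← act_img d hm hj, actJ, actJ]
  group

theorem act_one {j : G} (hj : j ∈ d.J) : actJ d 1 j = j := by
  have h : d.img 1 (one_mem _) = 1 := (d.img_eq_one _).2 (one_mem _)
  rw [← h, ← act_img d (one_mem _) hj]
  group

theorem act_inv (a : Six.A6) (j : G) : actJ d a j⁻¹ = (actJ d a j)⁻¹ := by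
  rw [actJ, actJ]; group

theorem act_prod (a : Six.A6) (j k : G) : actJ d a (j * k) = actJ d a j * actJ d a k := by
  rw [actJ, actJ, actJ]; group

theorem act_pw (a : Six.A6) (j : G) (i : ZMod 3) : actJ d a (pw j i) = pw (actJ d a j) i := pw_conj _ i

theorem act_ne (a : Six.A6) {j : G} (hj : j ≠ 1) : actJ d a j ≠ 1 := fun h => hj (conj_eq_one_iff.1 h)

theorem act_t {j : G} (hj : j ∈ d.J) : actJ d Six.tbar j = d.t * j * d.t := by
  rw [← d.t_img, ← act_img d d.t_mem hj, d.t_inv]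

theorem act_s {j : G} (hj : j ∈ d.J) : actJ d Six.wbar j = d.s * j * d.s := by
  rw [← d.s_img, ← act_img d d.s_mem hj, d.s_inv]

theorem act_e {j : G} (hj : j ∈ d.J) : actJ d Six.ebar j = d.e * j * d.e⁻¹ := by
  rw [← d.e_img, ← act_img d d.e_mem hj]

theorem yp_three : d.yp ^ 3 = 1 := d.J_exp _ d.yp_J

theorem ym_three : d.ym ^ 3 = 1 := d.J_exp _ d.ym_J

theorem yp_ne : d.yp ≠ 1 := fun hy => d.z2_not_Z (by
  rw [Std.yp, mul_eq_one_iff_eq_inv'] at hy
  rw [hy]; exact inv_mem d.z_mem)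

theorem z_eq : d.z = (d.yp * d.ym)⁻¹ := by
  have h2 : d.yp * d.ym = d.z ^ 2 := by
    calc d.yp * d.ym = d.z * (d.z2 * d.z) * d.z2⁻¹ := by rw [Std.yp, Std.ym]; group
      _ = d.z ^ 2 := by rw [d.J_comm _ d.z2_mem_J _ d.z_mem_J, pow_two]; group
  rw [h2, ← inv_eq_sq d.z_three, inv_inv]

theorem z2_eq : d.z2 = (d.yp * d.ym⁻¹)⁻¹ := by
  have h2 : d.yp * d.ym⁻¹ = d.z2 ^ 2 := by
    calc d.yp * d.ym⁻¹ = d.z * (d.z2 * d.z2) * d.z⁻¹ := by rw [Std.yp, Std.ym]; group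
      _ = (d.z2 * d.z2) * d.z * d.z⁻¹ := by
          rw [d.J_comm _ d.z_mem_J _ (mul_mem d.z2_mem_J d.z2_mem_J)]
      _ = d.z2 ^ 2 := by rw [mul_inv_cancel_right, pow_two]
  rw [h2, ← inv_eq_sq d.z2_three, inv_inv]

theorem act_t_yp : actJ d Six.tbar d.yp = d.yp := by rw [act_t d d.yp_J, (d.mem_D.1 d.yp_D).2]

theorem act_t_ym : actJ d Six.tbar d.ym = d.ym := by
  rw [act_t d d.ym_J]
  exact (d.mem_D.1 (mul_mem d.z_D (inv_mem d.z2_D))).2

theorem act_s_yp : actJ d Six.wbar d.yp = d.yp := by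
  rw [act_s d d.yp_J]
  have := d.s_yp
  rwa [d.s_inv] at this

theorem act_s_ym : actJ d Six.wbar d.ym = d.ym⁻¹ := by rw [act_s d d.ym_J, d.s_ym]

theorem act_tw_yp : actJ d (Six.tbar * Six.wbar) d.yp = d.yp := by
  rw [act_mul d _ _ d.yp_J, act_s_yp, act_t_yp]

theorem act_tw_ym : actJ d (Six.tbar * Six.wbar) d.ym = d.ym⁻¹ := by
  rw [act_mul d _ _ d.ym_J, act_s_ym, act_inv, act_t_ym]

theorem act_e_yp : actJ d Six.ebar d.yp = d.yp⁻¹ := by rw [act_e d d.yp_J, d.e_yp]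

theorem act_e_ym : actJ d Six.ebar d.ym = d.ym⁻¹ := by
  rw [act_e d d.ym_J, Std.ym, mul_inv_rev, inv_inv]
  calc d.e * (d.z * d.z2⁻¹) * d.e⁻¹ = (d.e * d.z * d.e⁻¹) * (d.e * d.z2 * d.e⁻¹)⁻¹ := by group
    _ = d.z⁻¹ * d.z2 := by rw [d.e_inverts.1, d.e_inverts.2, inv_inv]
    _ = _ := d.J_comm _ (inv_mem d.z_mem_J) _ d.z2_mem_J

/-- The second axis. -/
noncomputable def fb : G := actJ d SixExtra.rbar d.ym

/-- The third axis. -/
noncomputable def fc : G := actJ d SixExtra.rbar (fb d)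

theorem fb_J : fb d ∈ d.J := act_mem d _ d.ym_J

theorem fc_J : fc d ∈ d.J := act_mem d _ (fb_J d)

theorem fb_three : fb d ^ 3 = 1 := d.J_exp _ (fb_J d)

theorem fc_three : fc d ^ 3 = 1 := d.J_exp _ (fc_J d)

theorem act_r_fc : actJ d SixExtra.rbar (fc d) = d.ym := by
  rw [fc, fb, ← act_mul d _ _ d.ym_J, ← act_mul d _ _ d.ym_J, ← mul_assoc, SixExtra.rbar_cube,
    act_one d d.ym_J]

theorem act_t_fb : actJ d Six.tbar (fb d) = (fb d)⁻¹ := by
  rw [fb, ← act_mul d _ _ d.ym_J, SixExtra.t_r, act_mul d _ _ d.ym_J, act_tw_ym, act_inv]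

theorem act_s_fb : actJ d Six.wbar (fb d) = fb d := by
  rw [fb, ← act_mul d _ _ d.ym_J, SixExtra.w_r, act_mul d _ _ d.ym_J, act_t_ym]

theorem act_tw_fb : actJ d (Six.tbar * Six.wbar) (fb d) = (fb d)⁻¹ := by
  rw [act_mul d _ _ (fb_J d), act_s_fb, act_t_fb]

theorem act_t_fc : actJ d Six.tbar (fc d) = (fc d)⁻¹ := by
  rw [fc, ← act_mul d _ _ (fb_J d), SixExtra.t_r, act_mul d _ _ (fb_J d), act_tw_fb, act_inv]

theorem act_s_fc : actJ d Six.wbar (fc d) = (fc d)⁻¹ := by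
  rw [fc, ← act_mul d _ _ (fb_J d), SixExtra.w_r, act_mul d _ _ (fb_J d), act_t_fb, act_inv]

theorem act_e_fb : actJ d Six.ebar (fb d) = fc d := by
  rw [fb, ← act_mul d _ _ d.ym_J, SixExtra.e_r, act_mul d _ _ d.ym_J, act_e_ym, act_inv,
    act_mul d _ _ d.ym_J, act_mul d _ _ d.ym_J]
  show (actJ d Six.tbar (fc d))⁻¹ = fc d
  rw [act_t_fc, inv_inv]

theorem act_e_fc : actJ d Six.ebar (fc d) = (fb d)⁻¹ := by
  rw [fc, fb, ← act_mul d _ _ d.ym_J, ← act_mul d _ _ d.ym_J, SixExtra.e_rr, act_mul d _ _ d.ym_J,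
    act_e_ym, act_inv, act_mul d _ _ d.ym_J]
  show (actJ d Six.wbar (fb d))⁻¹ = (fb d)⁻¹
  rw [act_s_fb]

theorem act_r_yp : actJ d SixExtra.rbar d.yp = d.yp := by
  set x := actJ d SixExtra.rbar d.yp with hx
  have hxJ : x ∈ d.J := act_mem d _ d.yp_J
  have ht : d.t * x * d.t = x := by
    rw [← act_t d hxJ, hx, ← act_mul d _ _ d.yp_J, SixExtra.t_r, act_mul d _ _ d.yp_J, act_tw_yp]
  have hs : d.s * x * d.s = x := by
    rw [← act_s d hxJ, hx, ← act_mul d _ _ d.yp_J, SixExtra.w_r, act_mul d _ _ d.yp_J, act_t_yp]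
  have hzz : Commute d.z d.z2 := d.J_comm _ d.z_mem_J _ d.z2_mem_J
  obtain ⟨i, k, hik⟩ : ∃ i k : ZMod 3, x = pw d.z i * pw d.z2 k := by
    refine d.D_induction (P := fun x => ∃ i k : ZMod 3, x = pw d.z i * pw d.z2 k) (d.mem_D.2 ⟨hxJ, ht⟩)
      ⟨1, 0, by rw [pw_one, pw_zero, mul_one]⟩ ⟨0, 1, by rw [pw_one, pw_zero, one_mul]⟩
      ⟨0, 0, by rw [pw_zero, pw_zero, mul_one]⟩ ?_
    rintro a b ⟨i, k, rfl⟩ ⟨i', k', rfl⟩
    refine ⟨i + i', k + k', ?_⟩
    have hc : pw d.z2 k * pw d.z i' = pw d.z i' * pw d.z2 k := (hzz.pow_pow i'.val k.val).symm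
    rw [pw_add d.z_three, pw_add d.z2_three, mul_assoc, mul_assoc, ← mul_assoc (pw d.z2 k), hc, mul_assoc]
  have hkk : i = k := by
    have h1 : d.s * x * d.s⁻¹ = pw d.z2 i * pw d.z k := by
      rw [hik]
      calc d.s * (pw d.z i * pw d.z2 k) * d.s⁻¹
          = (d.s * pw d.z i * d.s⁻¹) * (d.s * pw d.z2 k * d.s⁻¹) := by group
        _ = _ := by rw [pw_conj, pw_conj, d.s_inv, d.s_z, d.s_z2]
    have hc : pw d.z2 i * pw d.z k = pw d.z k * pw d.z2 i := (hzz.pow_pow k.val i.val).symm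
    rw [d.s_inv, hs, hik, hc] at h1
    have h2 : pw d.z (i - k) = pw d.z2 (i - k) := by
      rw [sub_eq_add_neg, pw_add d.z_three, pw_add d.z2_three, pw_neg d.z_three, pw_neg d.z2_three]
      calc pw d.z i * (pw d.z k)⁻¹ = (pw d.z i * pw d.z2 k) * (pw d.z2 k)⁻¹ * (pw d.z k)⁻¹ := by group
        _ = (pw d.z k * pw d.z2 i * (pw d.z2 k)⁻¹) * (pw d.z k)⁻¹ := by rw [h1]
        _ = pw d.z2 i * (pw d.z2 k)⁻¹ := by
          have hA : pw d.z2 i * (pw d.z2 k)⁻¹ ∈ d.J :=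
            mul_mem (pow_mem d.z2_mem_J _) (inv_mem (pow_mem d.z2_mem_J _))
          rw [mul_assoc (pw d.z k), d.J_comm (pw d.z k) (pow_mem d.z_mem_J _) _ hA, mul_inv_cancel_right]
    by_contra hne
    have h0 : i - k ≠ 0 := sub_ne_zero.2 hne
    have hmem : pw d.z2 (i - k) ∈ d.Z := h2 ▸ pow_mem d.z_mem _
    rcases (by decide : ∀ q : ZMod 3, q ≠ 0 → q = 1 ∨ q = -1) _ h0 with h | h <;> rw [h] at hmem
    · rw [pw_one] at hmem; exact d.z2_not_Z hmem
    · rw [pw_neg d.z2_three, pw_one] at hmem; exact d.z2_not_Z (inv_mem_iff.1 hmem)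
  subst hkk
  have hxy : x = pw d.yp i := by rw [hik, pw, pw, pw, ← hzz.mul_pow]; rfl
  have hiter : actJ d SixExtra.rbar (actJ d SixExtra.rbar (actJ d SixExtra.rbar d.yp)) = d.yp := by
    rw [← act_mul d _ _ d.yp_J, ← act_mul d _ _ d.yp_J, ← mul_assoc, SixExtra.rbar_cube, act_one d d.yp_J]
  rcases (by decide : ∀ q : ZMod 3, q = 0 ∨ q = 1 ∨ q = -1) i with h | h | h <;> rw [h] at hxy
  · exact absurd (hxy.trans pw_zero) (act_ne d _ (yp_ne d))
  · rw [hxy, pw_one]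
  · exfalso
    rw [pw_neg (yp_three d), pw_one] at hxy
    rw [← hx, hxy, act_inv, ← hx, hxy, inv_inv, ← hx, hxy] at hiter
    exact Std.three_inv_ne (yp_three d) (yp_ne d) hiter

/-- The element of `J` with given coordinates on the three axes. -/
noncomputable def jv (v : V3) : G := pw d.ym v.1 * pw (fb d) v.2.1 * pw (fc d) v.2.2

/-- The element of `J` with given coordinates. -/
noncomputable def jc (p : ZMod 3 × V3) : G := pw d.yp p.1 * jv d p.2

theorem jv_J (v : V3) : jv d v ∈ d.J :=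
  mul_mem (mul_mem (pow_mem d.ym_J _) (pow_mem (fb_J d) _)) (pow_mem (fc_J d) _)

theorem jc_J (p : ZMod 3 × V3) : jc d p ∈ d.J := mul_mem (pow_mem d.yp_J _) (jv_J d _)

theorem mul4 {a b c e : G} (hb : b ∈ d.J) (hc : c ∈ d.J) :
    a * b * (c * e) = a * c * (b * e) := by
  rw [mul_assoc, ← mul_assoc b, d.J_comm b hb c hc, mul_assoc c, ← mul_assoc]

theorem jv_add (v w : V3) : jv d (v + w) = jv d v * jv d w := by
  have hJ : ∀ {x : G}, x ∈ d.J → ∀ i : ZMod 3, pw x i ∈ d.J := fun hx i => pow_mem hx _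
  simp only [jv, Prod.fst_add, Prod.snd_add]
  rw [pw_add (ym_three d), pw_add (fb_three d), pw_add (fc_three d)]
  rw [mul4 d (hJ d.ym_J _) (hJ (fb_J d) _),
    mul4 d (mul_mem (hJ d.ym_J _) (hJ (fb_J d) _)) (hJ (fc_J d) _)]

theorem jv_zero : jv d 0 = 1 := by simp [jv, pw_zero]

theorem jc_add (p q : ZMod 3 × V3) : jc d (p + q) = jc d p * jc d q := by
  simp only [jc, Prod.fst_add, Prod.snd_add]
  have hq : pw d.yp q.1 ∈ d.J := pow_mem d.yp_J _
  rw [pw_add (yp_three d), jv_add, mul4 d hq (jv_J d _)]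

theorem jc_zero : jc d 0 = 1 := by simp [jc, jv, pw_zero]

theorem jc_neg (p : ZMod 3 × V3) : jc d (-p) = (jc d p)⁻¹ := by
  rw [eq_inv_iff_mul_eq_one, ← jc_add, neg_add_cancel, jc_zero]

theorem act_t_jc (p : ZMod 3 × V3) :
    actJ d Six.tbar (jc d p) = jc d (p.1, (p.2.1, -p.2.2.1, -p.2.2.2)) := by
  simp only [jc, jv, act_prod, act_pw, act_t_yp, act_t_ym, act_t_fb, act_t_fc, pw_inv (fb_three d),
    pw_inv (fc_three d)]

theorem act_s_jc (p : ZMod 3 × V3) :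
    actJ d Six.wbar (jc d p) = jc d (p.1, (-p.2.1, p.2.2.1, -p.2.2.2)) := by
  simp only [jc, jv, act_prod, act_pw, act_s_yp, act_s_ym, act_s_fb, act_s_fc, pw_inv (ym_three d),
    pw_inv (fc_three d)]

theorem act_r_jc (p : ZMod 3 × V3) :
    actJ d SixExtra.rbar (jc d p) = jc d (p.1, (p.2.2.2, p.2.1, p.2.2.1)) := by
  have h1 : pw (fb d) p.2.1 * pw (fc d) p.2.2.1 * pw d.ym p.2.2.2
      = pw d.ym p.2.2.2 * pw (fb d) p.2.1 * pw (fc d) p.2.2.1 := by
    rw [mul_assoc _ _ (pw (fc d) p.2.2.1), d.J_comm (pw d.ym p.2.2.2) (pow_mem d.ym_J _)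
      (pw (fb d) p.2.1 * pw (fc d) p.2.2.1) (mul_mem (pow_mem (fb_J d) _) (pow_mem (fc_J d) _))]
  simp only [jc, jv, act_prod, act_pw, act_r_yp, act_r_fc]
  show pw d.yp p.1 * (pw (fb d) p.2.1 * pw (fc d) p.2.2.1 * pw d.ym p.2.2.2) = _
  rw [h1]

theorem act_e_jc (p : ZMod 3 × V3) :
    actJ d Six.ebar (jc d p) = jc d (-p.1, (-p.2.1, -p.2.2.2, p.2.2.1)) := by
  simp only [jc, jv, act_prod, act_pw, act_e_yp, act_e_ym, act_e_fb, act_e_fc, pw_inv (yp_three d),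
    pw_inv (ym_three d), pw_inv (fb_three d)]
  have hc : pw (fc d) p.2.2.1 * pw (fb d) (-p.2.2.2) = pw (fb d) (-p.2.2.2) * pw (fc d) p.2.2.1 :=
    d.J_comm _ (pow_mem (fc_J d) _) _ (pow_mem (fb_J d) _)
  rw [mul_assoc (pw d.ym _), hc, ← mul_assoc (pw d.ym _)]

theorem jc_eq_one {p : ZMod 3 × V3} (h : jc d p = 1) : p = 0 := by
  obtain ⟨i, a, b, c⟩ := p
  have hone : ∀ q : Six.A6, actJ d q 1 = 1 := fun q => by simp [actJ]
  have ht := congrArg (actJ d Six.tbar) h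
  rw [act_t_jc, hone] at ht
  have h1 : jc d (i + i, (a + a, 0, 0)) = 1 := by
    rw [show ((i + i, (a + a, 0, 0)) : ZMod 3 × V3) = (i, (a, b, c)) + (i, (a, -b, -c)) by simp,
      jc_add, h, ht, one_mul]
  have hs := congrArg (actJ d Six.wbar) h1
  rw [act_s_jc, hone] at hs
  have h2 : jc d ((i + i) + (i + i), (0, 0, 0)) = 1 := by
    rw [show (((i + i) + (i + i), (0, 0, 0)) : ZMod 3 × V3) = (i + i, (a + a, 0, 0)) + (i + i, (-(a + a), 0, -0)) by
      simp, jc_add, h1, hs, one_mul]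
  have hi : i = 0 := by
    simp only [jc, jv, pw_zero, mul_one] at h2
    have := pw_eq_one (yp_three d) (yp_ne d) h2
    exact (by decide : ∀ q : ZMod 3, q + q + (q + q) = 0 → q = 0) i this
  subst hi
  have ha : a = 0 := by
    simp only [jc, jv, add_zero, pw_zero, mul_one, one_mul] at h1
    have := pw_eq_one (ym_three d) d.ym_ne h1
    exact (by decide : ∀ q : ZMod 3, q + q = 0 → q = 0) a this
  subst ha
  have hs' := congrArg (actJ d Six.wbar) h
  rw [act_s_jc, hone] at hs'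
  have h3 : jc d (0, (0, b + b, 0)) = 1 := by
    rw [show ((0, (0, b + b, 0)) : ZMod 3 × V3) = (0, (0, b, c)) + (0, (-0, b, -c)) by simp, jc_add, h, hs',
      one_mul]
  have hb : b = 0 := by
    simp only [jc, jv, pw_zero, mul_one, one_mul] at h3
    have := pw_eq_one (fb_three d) (act_ne d _ d.ym_ne) h3
    exact (by decide : ∀ q : ZMod 3, q + q = 0 → q = 0) b this
  subst hb
  have hc : c = 0 := by
    simp only [jc, jv, pw_zero, mul_one, one_mul] at h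
    exact pw_eq_one (fc_three d) (act_ne d _ (act_ne d _ d.ym_ne)) h
  subst hc
  rfl

theorem jc_inj {p q : ZMod 3 × V3} (h : jc d p = jc d q) : p = q := by
  refine sub_eq_zero.1 (jc_eq_one d ?_)
  rw [sub_eq_add_neg, jc_add, jc_neg, h, mul_inv_cancel]

theorem jc_surj {j : G} (hj : j ∈ d.J) : ∃ p, jc d p = j := by
  have hinj : Function.Injective (fun p => (⟨jc d p, jc_J d p⟩ : d.J)) := fun p q h =>
    jc_inj d (congrArg Subtype.val h)
  have hcard : Nat.card (ZMod 3 × V3) = Nat.card d.J := by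
    rw [d.J_card, Nat.card_eq_fintype_card]; simp
  obtain ⟨p, hp⟩ := ((Nat.bijective_iff_injective_and_card _).2 ⟨hinj, hcard⟩).2 ⟨j, hj⟩
  exact ⟨p, congrArg Subtype.val hp⟩

theorem jc_mem_Y (i : ZMod 3) : jc d (i, 0) = pw d.yp i := by rw [jc, jv_zero, mul_one]

theorem jc_fst (p : ZMod 3 × V3) : jc d p = pw d.yp p.1 * jc d (0, p.2) := by
  rw [jc, jc]; simp [pw_zero]

end Cfsg.Agent.Lib.McL3NonSing87
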