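import Cfsg.Agent.Lib.McL3NonSing87.Model

/-!
# Class functions on the model given by tables

A table lists the classes of the model, linear characters of monomial subgroups, integral combinations of
the characters induced from them and the values of these combinations, with the checks that make the
table valid.
-/

set_option autoImplicit false

namespace Cfsg.Agent.Lib.McL3NonSing87.Model

/-- Coordinates in `1, ζ, ζ², ζ³` for a twelfth root of unity `ζ`. -/
abbrev Z12 := ℤ × ℤ × ℤ × ℤ

/-- Multiplication by `ζ`. -/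
def shift (v : Z12) : Z12 := (-v.2.2.2, v.1, v.2.1 + v.2.2.2, v.2.2.1)

/-- Powers of `ζ`. -/
def zpw : ℕ → Z12
  | 0 => (1, 0, 0, 0)
  | n + 1 => shift (zpw n)

/-- Sum of a list. -/
def zsum : List Z12 → Z12
  | [] => (0, 0, 0, 0)
  | x :: xs => x + zsum xs

/-- An integer times a coordinate vector. -/
def zsmul' (m : ℤ) (v : Z12) : Z12 := (m * v.1, m * v.2.1, m * v.2.2.1, m * v.2.2.2)

/-- The product. -/
def mulZ (a b : Z12) : Z12 :=
  zsum [zsmul' a.1 b, zsmul' a.2.1 (shift b), zsmul' a.2.2.1 (shift (shift b)),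
    zsmul' a.2.2.2 (shift (shift (shift b)))]

/-- Complex conjugation. -/
def conjZ (a : Z12) : Z12 :=
  zsum [zsmul' a.1 (zpw 0), zsmul' a.2.1 (zpw 11), zsmul' a.2.2.1 (zpw 10), zsmul' a.2.2.2 (zpw 9)]

/-- All coordinate vectors. -/
def allV : List Vec :=
  ([0, 1, 2] : List (ZMod 3)).flatMap fun a => ([0, 1, 2] : List (ZMod 3)).flatMap fun b =>
    ([0, 1, 2] : List (ZMod 3)).map fun c => (a, b, c)

theorem mem_allV : ∀ v : Vec, v ∈ allV := by decide +kernel

theorem allV_nodup : allV.Nodup := by decide +kernel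

theorem allV_length : allV.length = 27 := by decide +kernel

/-- The elements whose monomial part has index below `n`. -/
def allW (n : ℕ) : List W :=
  ((List.finRange 24).filter fun h => decide (h.val < n)).flatMap fun h => allV.map fun v => (v, h)

/-- The index of a coordinate vector. -/
def vidx (v : Vec) : ℕ := 9 * v.1.val + 3 * v.2.1.val + v.2.2.val

/-- A linear character of a monomial subgroup: a linear form and exponents on the stabiliser. -/
structure Term where
  l : Vec
  hs : List (Fin 24 × ℕ)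

/-- The elements of the monomial subgroup. -/
def Term.elts (T : Term) : List W := T.hs.flatMap fun p => allV.map fun v => (v, p.1)

/-- The exponent of the linear character. -/
def Term.ex (T : Term) (w : W) : ℕ := 4 * (dot T.l w.1).val + (T.hs.lookup w.2).getD 0

/-- The table. -/
structure Tab (nc nt nf : ℕ) where
  nH : ℕ
  clsT : List (List (Fin (nc + 1)))
  rep : Fin (nc + 1) → W
  size : Fin (nc + 1) → ℕ
  term : Fin nt → Term
  sums : Fin nt → Fin (nc + 1) → Z12
  coef : Fin nf → Fin nt → ℤ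
  val : Fin nf → Fin (nc + 1) → Z12
  gram : Fin nf → Fin nf → ℤ

variable {nc nt nf : ℕ}

/-- The class of an element. -/
def Tab.cls (T : Tab nc nt nf) (w : W) : Fin (nc + 1) := (T.clsT.getD w.2.val []).getD (vidx w.1) 0

/-- The elements whose fourth or twelfth power is a translation other than the identity. -/
def spW (w : W) : Bool :=
  ((powW w 4).2 == 0 && (powW w 4).1 != 0) || ((powW w 12).2 == 0 && (powW w 12).1 != 0)

/-- The axes. -/
def axes : List Vec := [(1, 0, 0), (0, 1, 0), (0, 0, 1)]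

/-- The checks. -/
structure Tab.Ok (T : Tab nc nt nf) : Prop where
  nH_ok : T.nH = 12 ∨ T.nH = 24
  cls_rep : ∀ c, (T.rep c).2.val < T.nH ∧ T.cls (T.rep c) = c
  inv_h : ∀ h : Fin 24, h.val < T.nH → ∀ w : W, w.2.val < T.nH → T.cls (conjW (0, h) w) = T.cls w
  inv_v : ∀ v ∈ axes, ∀ w : W, w.2.val < T.nH → T.cls (conjW (v, 0) w) = T.cls w
  wit : ∀ w ∈ allW T.nH, (allW T.nH).any (fun a => conjW a w == T.rep (T.cls w)) = true
  size_ok : ∀ c, ((allW T.nH).filter fun w => decide (T.cls w = c)).length = T.size c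
  term_one : ∀ j, ((T.term j).hs.lookup (0 : Fin 24)).getD 0 % 12 = 0 ∧ (0 : Fin 24) ∈ (T.term j).hs.map Prod.fst
  term_low : ∀ j, ∀ p ∈ (T.term j).hs, p.1.val < T.nH ∧ hf p.1 (T.term j).l = (T.term j).l
  term_nodup : ∀ j, ((T.term j).hs.map Prod.fst).Nodup
  term_mul : ∀ j, ∀ p ∈ (T.term j).hs, ∀ q ∈ (T.term j).hs, hm p.1 q.1 ∈ (T.term j).hs.map Prod.fst ∧
    ((T.term j).hs.lookup (hm p.1 q.1)).getD 0 % 12 = (p.2 + q.2) % 12
  term_lookup : ∀ j, ∀ p ∈ (T.term j).hs, ((T.term j).hs.lookup p.1).getD 0 = p.2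
  term_dvd : ∀ j, (T.term j).hs.length ∣ T.nH
  sums_ok : ∀ j c, zsum (((T.term j).elts.filter fun w => decide (T.cls w = c)).map
    fun w => zpw ((T.term j).ex w % 12)) = T.sums j c
  val_ok : ∀ i c, zsum ((List.finRange nt).map fun j =>
    zsmul' (T.coef i j * ((T.nH / (T.term j).hs.length : ℕ) : ℤ)) (T.sums j c)) = zsmul' (T.size c) (T.val i c)
  off : ∀ w ∈ allW T.nH, spW w = false → ∀ i, T.val i (T.cls w) = (0, 0, 0, 0)
  gram_ok : ∀ i k, zsum ((List.finRange (nc + 1)).map fun c =>
    zsmul' (T.size c) (mulZ (T.val i c) (conjZ (T.val k c)))) = (27 * (T.nH : ℤ) * T.gram i k, 0, 0, 0)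

end Cfsg.Agent.Lib.McL3NonSing87.Model
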