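import Cfsg.Agent.Lib.A9Norm79.Enum
import Cfsg.Agent.Lib.McL3NonSing87.Tab
import Mathlib.Data.Complex.Basic

/-!
# Rows of a realised Gram matrix
-/

set_option autoImplicit false

namespace Cfsg.Agent.Lib.McL3NonSing87.Rows

open Cfsg.Agent.Lib.A9Norm79

variable {nf : ℕ}

/-- The steps of a Gram matrix with prescribed entries at the distinguished index. -/
def stepsAux (g : Fin nf → Fin nf → ℤ) (t : Fin nf → ℤ) : List (Fin nf) → List (Fin nf) → List Enum.Step
  | _, [] => []
  | pre, i :: l => ⟨g i i, t i, pre.map fun k => g i k⟩ :: stepsAux g t (pre ++ [i]) l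

/-- All states of a Gram matrix. -/
def states (g : Fin nf → Fin nf → ℤ) (t : Fin nf → ℤ) : List (List (List ℤ)) :=
  Enum.run (stepsAux g t [] (List.finRange nf)) [[[]]]

variable {ι : Type*} [Fintype ι]

theorem fits_aux (o : ι) (g : Fin nf → Fin nf → ℤ) (t : Fin nf → ℤ) (f : Fin nf → ι → ℤ)
    (hg : ∀ i k, ∑ χ, f i χ * f k χ = g i k) (ht : ∀ i, f i o = t i) :
    ∀ l pre, Enum.Fits o (pre.map f) (l.map f) (stepsAux g t pre l)
  | [], pre => trivial
  | i :: l, pre => by
    refine ⟨hg i i, ht i, ?_, ?_⟩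
    · rw [List.map_map]
      exact List.map_congr_left fun k _ => (hg i k).symm
    · have h := fits_aux o g t f hg ht l (pre ++ [i])
      rwa [List.map_append] at h

theorem mem_stepsAux (g : Fin nf → Fin nf → ℤ) (t : Fin nf → ℤ) :
    ∀ l pre, ∀ s ∈ stepsAux g t pre l, ∃ i, s.N = g i i
  | [], _, s, h => by simp [stepsAux] at h
  | i :: l, pre, s, h => by
    rcases List.mem_cons.1 h with rfl | h
    · exact ⟨i, rfl⟩
    · exact mem_stepsAux g t l _ s h

/-- A realised Gram matrix has the rows of one of the states. -/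
theorem exists_state (o : ι) (g : Fin nf → Fin nf → ℤ) (t : Fin nf → ℤ) (f : Fin nf → ι → ℤ)
    (hsmall : ∀ i, g i i ≤ 15) (hg : ∀ i k, ∑ χ, f i χ * f k χ = g i k) (ht : ∀ i, f i o = t i) :
    ∃ rows ∈ states g t, Enum.Real o ((List.finRange nf).map f) rows := by
  have h := Enum.run_complete o (stepsAux g t [] (List.finRange nf)) ((List.finRange nf).map f) [] [[[]]]
    (fun s hs => by obtain ⟨i, hi⟩ := mem_stepsAux g t _ _ s hs; rw [hi]; exact hsmall i)
    (fits_aux o g t f hg ht (List.finRange nf) []) ⟨[[]], List.mem_singleton.mpr rfl, Enum.real_nil o⟩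
  simpa [states] using h

/-- The characters behind the rows. -/
theorem exists_rows (o : ι) (f : Fin nf → ι → ℤ) {hd : List ℤ} {tl : List (List ℤ)}
    (h : Enum.Real o ((List.finRange nf).map f) (hd :: tl)) :
    ∃ x : Fin tl.length → ι × ℤ, Function.Injective (fun i => (x i).1) ∧ (∀ i, (x i).1 ≠ o) ∧
      (∀ i, (x i).2 = 1 ∨ (x i).2 = -1) ∧
      (∀ χ k, f k χ ≠ 0 → χ = o ∨ ∃ i, (x i).1 = χ) ∧
      (∀ i k, (x i).2 * f k (x i).1 = (tl.get i).getD (k : Fin nf).val 0) ∧
      ∀ k (F : ι → ℂ), ∑ χ, (f k χ : ℂ) * F χ =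
        (f k o : ℂ) * F o + ∑ i, (((tl.get i).getD k.val 0 : ℤ) : ℂ) * (((x i).2 : ℂ) * F (x i).1) := by
  classical
  obtain ⟨p, hnd, hs, hoff, he⟩ := h
  rw [List.cons.injEq] at he
  obtain ⟨-, rfl⟩ := he
  have hlen : (p.map (Enum.row ((List.finRange nf).map f))).length = p.length := List.length_map _
  set x : Fin (p.map (Enum.row ((List.finRange nf).map f))).length → ι × ℤ :=
    fun i => p.get (Fin.cast hlen i) with hx
  rw [List.nodup_cons] at hnd
  have hinj : Function.Injective (fun i => (x i).1) := by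
    intro i j hij
    have := List.Nodup.getElem_inj_iff hnd.2 (i := i.val) (j := j.val)
      (hi := by simpa using i.isLt) (hj := by simpa using j.isLt)
    refine Fin.ext (this.1 ?_)
    simpa [hx] using hij
  have hcov : ∀ χ k, f k χ ≠ 0 → χ = o ∨ ∃ i, (x i).1 = χ := by
    intro χ k hne
    by_cases hχ : χ = o
    · exact Or.inl hχ
    · refine Or.inr ?_
      by_contra hno
      refine hne (hoff χ hχ (fun hm => hno ?_) (f k) (List.mem_map.2 ⟨k, List.mem_finRange k, rfl⟩))
      obtain ⟨y, hy, rfl⟩ := List.mem_map.1 hm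
      obtain ⟨n, hn, rfl⟩ := List.getElem_of_mem hy
      exact ⟨⟨n, hlen.symm ▸ hn⟩, rfl⟩
  have hent : ∀ i k, (x i).2 * f k (x i).1 =
      ((p.map (Enum.row ((List.finRange nf).map f))).get i).getD (k : Fin nf).val 0 := by
    intro i k
    simp [hx, Enum.row, List.getD_eq_getElem?_getD]
  refine ⟨x, hinj, fun i hi => hnd.1 (List.mem_map.2 ⟨x i, List.get_mem _ _, hi⟩),
    fun i => hs _ (List.get_mem _ _), hcov, hent, fun k F => ?_⟩
  have hsub : ∑ χ, (f k χ : ℂ) * F χ =
      ∑ χ ∈ insert o (Finset.univ.image fun i => (x i).1), (f k χ : ℂ) * F χ := by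
    refine (Finset.sum_subset (Finset.subset_univ _) fun χ _ hχ => ?_).symm
    by_contra hne
    rcases hcov χ k (fun h0 => hne (by rw [h0]; simp)) with rfl | ⟨i, rfl⟩
    · exact hχ (Finset.mem_insert_self _ _)
    · exact hχ (Finset.mem_insert_of_mem (Finset.mem_image_of_mem _ (Finset.mem_univ i)))
  rw [hsub, Finset.sum_insert (fun hm => by
    obtain ⟨i, -, hi⟩ := Finset.mem_image.1 hm
    exact hnd.1 (List.mem_map.2 ⟨x i, List.get_mem _ _, hi⟩)), Finset.sum_image hinj.injOn]
  congr 1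
  refine Finset.sum_congr rfl fun i _ => ?_
  rw [← hent i k]
  rcases hs (x i) (List.get_mem _ _) with e | e <;> rw [e] <;> push_cast <;> ring

end Cfsg.Agent.Lib.McL3NonSing87.Rows
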