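import Cfsg.Agent.Lib.McL3NonSing87.Coef
import Cfsg.Agent.Lib.McL3NonSing87.Rows

/-!
# The equations between degrees and values at involutions
-/

set_option autoImplicit false
set_option linter.style.haveILetI false
set_option linter.unusedSectionVars false

namespace Cfsg.Agent.Lib.McL3NonSing87

open Subgroup
open Cfsg.Agent.Lib.McL3Local35
open Cfsg.Agent.Lib.Characters.Basic
open Model (Vec W oneW powW conjW mulW ev)
open scoped ComplexConjugate

namespace Cfg

variable {G : Type*} [Group G] [Finite G] {d : Std G} (C : Cfg d)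
variable {nc nt nf : ℕ} {T : Model.Tab nc nt nf} (hT : T.Ok) (hnH : T.nH = C.nH)
include hT hnH

/-- The coefficients at the trivial character. -/
theorem fint_one (k : Fin nf) {n : ℤ}
    (hn : Model.zsum ((List.finRange (nc + 1)).map fun c => Model.zsmul' (T.size c) (T.val k c)) =
      (27 * (T.nH : ℤ) * n, 0, 0, 0)) : C.fint hT hnH k (oneChar (Cy d)) = n := by
  have h := C.coef_eq hT hnH k (oneChar (Cy d))
  rw [Exceptional.coef] at h
  simp only [oneChar_apply, map_one, mul_one] at h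
  have hsum : ∑ x, (C.phi hT hnH k).val x = 3 * ∑ c, (T.size c : ℂ) * ev (T.val k c) := by
    rw [C.sum_NX _ fun x hx => (C.phi hT hnH k).off x fun hS => hx hS.1,
      ← C.sum_Wn_cls hT hnH fun c => ev (T.val k c), Finset.mul_sum]
    refine Finset.sum_congr rfl fun w _ => ?_
    simp only [coe_phi, C.fval_E hT hnH, Finset.sum_const, Finset.card_univ, ZMod.card, nsmul_eq_mul,
      Nat.cast_ofNat]
  have hg : ∑ c, (T.size c : ℂ) * ev (T.val k c) = 27 * (T.nH : ℂ) * (n : ℂ) := by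
    have h1 := congrArg ev hn
    rw [Model.ev_zsum, List.map_map, ← Fin.sum_univ_def, Model.ev_int] at h1
    push_cast at h1
    rw [← h1]
    refine Finset.sum_congr rfl fun c _ => ?_
    rw [Function.comp_apply, Model.ev_smul, Int.cast_natCast]
  rw [hsum, hg, C.card_NX, ← hnH] at h
  have hn0 : (T.nH : ℂ) ≠ 0 := by rcases hT.nH_ok with e | e <;> rw [e] <;> norm_num
  push_cast at h
  field_simp at h
  have h2 : ((C.fint hT hnH k (oneChar (Cy d)) : ℤ) : ℂ) = (n : ℂ) := by linear_combination -h / 81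
  exact_mod_cast h2

/-- The structure constants. -/
theorem quad [Fintype (Cfsg.IrrCharacter (Cy d))] (k : Fin nf) (c c' : Fin (nc + 1))
    (hc : ∀ w ∈ Model.allW T.nH, T.cls w = c → powW w 2 = oneW ∧ w ≠ oneW)
    (hc' : ∀ w ∈ Model.allW T.nH, T.cls w = c' → powW w 2 = oneW ∧ w ≠ oneW)
    (hsep : ∀ w : C.Wn, powW w.1 2 = oneW → w.1 ≠ oneW → ∀ x : Cy d,
      x * lw C (C.repW hT hnH c) * x⁻¹ = lw C w → T.cls w.1 = c)
    (hsep' : ∀ w : C.Wn, powW w.1 2 = oneW → w.1 ≠ oneW → ∀ x : Cy d,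
      x * lw C (C.repW hT hnH c') * x⁻¹ = lw C w → T.cls w.1 = c') {q : ℤ}
    (hq : Model.zsum (((Model.allW T.nH).filter fun w => decide (T.cls w = c)).flatMap fun p =>
      ((Model.allW T.nH).filter fun w => decide (T.cls w = c')).map fun q => T.val k (T.cls (mulW p q))) =
      (q, 0, 0, 0)) :
    ∑ χ : Cfsg.IrrCharacter (Cy d), (C.fint hT hnH k χ : ℂ) *
        ((χ : Cy d → ℂ) (lw C (C.repW hT hnH c)) * (χ : Cy d → ℂ) (lw C (C.repW hT hnH c')) /
          (χ : Cy d → ℂ) 1) =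
      (Nat.card (centralizer ({lw C (C.repW hT hnH c)} : Set (Cy d))) : ℂ) *
        (Nat.card (centralizer ({lw C (C.repW hT hnH c')} : Set (Cy d))) : ℂ) /
        ((Nat.card (NX d) : ℂ) * (Nat.card (Cy d) : ℂ)) * q := by
  classical
  have hr : ∀ e : Fin (nc + 1), (∀ w ∈ Model.allW T.nH, T.cls w = e → powW w 2 = oneW ∧ w ≠ oneW) →
      lw C (C.repW hT hnH e) * lw C (C.repW hT hnH e) = 1 := fun e he =>
    C.lw_sq (he _ (C.mem_allW hT hnH (C.repW hT hnH e)) (hT.cls_rep e).2).1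
  have h := Exceptional.sum_coef_invol (special d) (C.phi hT hnH k) (hr c hc) (hr c' hc')
  simp only [C.coef_eq hT hnH] at h
  rw [h, C.conjIn_eq hT hnH c hc hsep, C.conjIn_eq hT hnH c' hc' hsep', C.sum_classInv hT hnH k c c' hc hc',
    hq, Model.ev_int]

/-- The coefficients at the complex conjugate character. -/
theorem fint_conj {k k' : Fin nf} (hv : ∀ c, Model.conjZ (T.val k c) = T.val k' c)
    {χ χ' : Cfsg.IrrCharacter (Cy d)} (hχ : ∀ g, (χ' : Cy d → ℂ) g = conj ((χ : Cy d → ℂ) g)) :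
    C.fint hT hnH k' χ' = C.fint hT hnH k χ := by
  have hval : ∀ g, (C.phi hT hnH k').val g = conj ((C.phi hT hnH k).val g) := fun g => by
    rw [coe_phi, coe_phi]
    by_cases hg : g ∈ NX d
    · simp only [fval, dif_pos hg]
      rw [← hv, Model.ev_conjZ]
    · simp only [fval, dif_neg hg, map_zero]
  have h : Exceptional.coef (C.phi hT hnH k') χ' = conj (Exceptional.coef (C.phi hT hnH k) χ) := by
    simp only [Exceptional.coef, map_mul, map_inv₀, map_natCast, map_sum, hval, hχ]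
  rw [C.coef_eq hT hnH, C.coef_eq hT hnH, map_intCast] at h
  exact_mod_cast h

omit hT hnH in
/-- The signed degrees and signed values behind a matrix of rows. -/
def RowsData (hT : T.Ok) (hnH : T.nH = C.nH) [Fintype (Cfsg.IrrCharacter (Cy d))] (t : Fin nf → ℤ) (m : ℕ)
    (R : Fin m → Fin nf → ℤ) : Prop :=
  ∃ (x : Fin m → Cfsg.IrrCharacter (Cy d) × ℤ) (D : Fin m → ℤ),
    (∀ i, D i ≠ 0) ∧
    (∀ i, (D i : ℂ) = (x i).2 * ((x i).1 : Cy d → ℂ) 1) ∧ (∀ i, (x i).2 = 1 ∨ (x i).2 = -1) ∧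
    (∀ i, (x i).1 ≠ oneChar (Cy d)) ∧
    Function.Injective (fun i => (x i).1) ∧
    (∀ χ k, C.fint hT hnH k χ ≠ 0 → χ = oneChar (Cy d) ∨ ∃ i, (x i).1 = χ) ∧
    (∀ i k, (x i).2 * C.fint hT hnH k (x i).1 = R i k) ∧
    (∀ k : Fin nf, t k + ∑ i, R i k * D i = 0) ∧
    (∀ (k : Fin nf) (g : Cy d), g * g = 1 →
      (t k : ℂ) + ∑ i, (R i k : ℂ) * ((x i).2 * ((x i).1 : Cy d → ℂ) g) = 0) ∧
    ∀ (k : Fin nf) (g h : Cy d),
      ∑ χ : Cfsg.IrrCharacter (Cy d), (C.fint hT hnH k χ : ℂ) *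
        ((χ : Cy d → ℂ) g * (χ : Cy d → ℂ) h / (χ : Cy d → ℂ) 1) =
      (t k : ℂ) + ∑ i, (R i k : ℂ) *
        (((x i).2 * ((x i).1 : Cy d → ℂ) g) * ((x i).2 * ((x i).1 : Cy d → ℂ) h) / (D i : ℂ))

/-- The rows form one of the states. -/
theorem rows_data [Fintype (Cfsg.IrrCharacter (Cy d))] (t : Fin nf → ℤ) (hsmall : ∀ i, T.gram i i ≤ 15)
    (ht : ∀ k, Model.zsum ((List.finRange (nc + 1)).map fun c => Model.zsmul' (T.size c) (T.val k c)) =
      (27 * (T.nH : ℤ) * t k, 0, 0, 0)) :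
    ∃ (hd : List ℤ) (tl : List (List ℤ)), hd :: tl ∈ Rows.states T.gram t ∧
      C.RowsData hT hnH t tl.length (fun i k => (tl.get i).getD k.val 0) := by
  classical
  set o : Cfsg.IrrCharacter (Cy d) := oneChar (Cy d) with ho
  have hone : ∀ k, C.fint hT hnH k o = t k := fun k => C.fint_one hT hnH k (ht k)
  obtain ⟨rows, hrows, hreal⟩ := Rows.exists_state o T.gram t (fun k => C.fint hT hnH k) hsmall
    (C.gram hT hnH) hone
  obtain ⟨hd, tl, rfl⟩ : ∃ hd tl, rows = hd :: tl := by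
    obtain ⟨p, -, -, -, he⟩ := hreal
    exact ⟨_, _, he⟩
  obtain ⟨x, hinj, hne, hs, hcov, hent, hsum⟩ := Rows.exists_rows o _ hreal
  choose deg hdeg using fun χ : Cfsg.IrrCharacter (Cy d) => exists_degree_pos χ
  refine ⟨hd, tl, hrows, x, fun i => (x i).2 * (deg (x i).1 : ℤ), fun i => ?_, fun i => ?_, hs, hne, hinj,
    hcov, hent, fun k => ?_, fun k g hg => ?_, fun k g h => ?_⟩
  · refine mul_ne_zero ?_ (by exact_mod_cast (hdeg (x i).1).1.ne')
    rcases hs i with e | e <;> rw [e] <;> decide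
  · push_cast
    rw [(hdeg (x i).1).2]
  · have h0 := C.orth hT hnH k (g := (1 : Cy d)) (one_mul 1)
    rw [hsum k, hone] at h0
    simp only [ho, oneChar_apply, mul_one] at h0
    apply Int.cast_injective (α := ℂ)
    push_cast
    rw [← h0]
    simp only [(hdeg _).2]
  · have h0 := C.orth hT hnH k hg
    rw [hsum k, hone] at h0
    simpa [ho, oneChar_apply] using h0
  · rw [hsum k, hone]
    simp only [ho, oneChar_apply, mul_one, div_one]
    congr 1
    refine Finset.sum_congr rfl fun i _ => ?_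
    push_cast
    rw [← (hdeg (x i).1).2]
    congr 1
    rcases hs i with e | e <;> rw [e] <;> push_cast <;> ring

/-- A character with a coefficient has a nonzero sum over some coset of `⟨y⟩`. -/
theorem exists_fsum_ne {k : Fin nf} {χ : Cfsg.IrrCharacter (Cy d)} (h : C.fint hT hnH k χ ≠ 0) :
    ∃ w : C.Wn, C.fsum χ w ≠ 0 := by
  classical
  by_contra hno
  push Not at hno
  refine h ?_
  have hc := C.coef_eq hT hnH k χ
  rw [Exceptional.coef, C.sum_NX _ fun x hx => by
    rw [(C.phi hT hnH k).off x fun hS => hx hS.1, zero_mul]] at hc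
  have h0 : ∀ w : C.Wn, ∑ i : ZMod 3, (C.phi hT hnH k).val (C.E i w) *
      conj ((χ : Cy d → ℂ) (C.E i w)) = 0 := fun w => by
    simp only [coe_phi, C.fval_E hT hnH]
    rw [← Finset.mul_sum, ← map_sum, show ∑ i : ZMod 3, (χ : Cy d → ℂ) (C.E i w) = C.fsum χ w from rfl,
      hno w, map_zero, mul_zero]
  simp only [h0, Finset.sum_const_zero, mul_zero] at hc
  exact_mod_cast hc.symm

end Cfg

end Cfsg.Agent.Lib.McL3NonSing87
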