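import Mathlib

/-!
# The model of `N/⟨y⟩`: monomial maps of three axes acting on `(ZMod 3)³`
-/

set_option autoImplicit false
set_option maxRecDepth 100000

namespace Cfsg.Agent.Lib.McL3NonSing87.Model

/-- Coordinates. -/
abbrev Vec := ZMod 3 × ZMod 3 × ZMod 3

/-- The first involution of the four-group. -/
def ft (v : Vec) : Vec := (v.1, -v.2.1, -v.2.2)

/-- The second involution of the four-group. -/
def fs (v : Vec) : Vec := (-v.1, v.2.1, -v.2.2)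

/-- The cyclic permutation of the axes. -/
def fr (v : Vec) : Vec := (v.2.2, v.1, v.2.1)

/-- The element of order four fixing the first axis. -/
def fu (v : Vec) : Vec := (v.1, -v.2.2, v.2.1)

/-- The member of the four-group with given index. -/
def four : ℕ → Vec → Vec
  | 0, v => v
  | 1, v => ft v
  | 2, v => fs v
  | _, v => ft (fs v)

/-- The monomial map with given index: a member of the four-group, a power of `fr`, a power of `fu`. -/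
def hf (h : Fin 24) (v : Vec) : Vec :=
  four (h.val % 4) (fr^[h.val / 4 % 3] (fu^[h.val / 12] v))

/-- Products. -/
def hTable : List (List (Fin 24)) := [
  [0, 1, 2, 3, 4, 5, 6, 7, 8, 9, 10, 11, 12, 13, 14, 15, 16, 17, 18, 19, 20, 21, 22, 23],
  [1, 0, 3, 2, 5, 4, 7, 6, 9, 8, 11, 10, 13, 12, 15, 14, 17, 16, 19, 18, 21, 20, 23, 22],
  [2, 3, 0, 1, 6, 7, 4, 5, 10, 11, 8, 9, 14, 15, 12, 13, 18, 19, 16, 17, 22, 23, 20, 21],
  [3, 2, 1, 0, 7, 6, 5, 4, 11, 10, 9, 8, 15, 14, 13, 12, 19, 18, 17, 16, 23, 22, 21, 20],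
  [4, 6, 7, 5, 8, 10, 11, 9, 0, 2, 3, 1, 16, 18, 19, 17, 20, 22, 23, 21, 12, 14, 15, 13],
  [5, 7, 6, 4, 9, 11, 10, 8, 1, 3, 2, 0, 17, 19, 18, 16, 21, 23, 22, 20, 13, 15, 14, 12],
  [6, 4, 5, 7, 10, 8, 9, 11, 2, 0, 1, 3, 18, 16, 17, 19, 22, 20, 21, 23, 14, 12, 13, 15],
  [7, 5, 4, 6, 11, 9, 8, 10, 3, 1, 0, 2, 19, 17, 16, 18, 23, 21, 20, 22, 15, 13, 12, 14],
  [8, 11, 9, 10, 0, 3, 1, 2, 4, 7, 5, 6, 20, 23, 21, 22, 12, 15, 13, 14, 16, 19, 17, 18],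
  [9, 10, 8, 11, 1, 2, 0, 3, 5, 6, 4, 7, 21, 22, 20, 23, 13, 14, 12, 15, 17, 18, 16, 19],
  [10, 9, 11, 8, 2, 1, 3, 0, 6, 5, 7, 4, 22, 21, 23, 20, 14, 13, 15, 12, 18, 17, 19, 16],
  [11, 8, 10, 9, 3, 0, 2, 1, 7, 4, 6, 5, 23, 20, 22, 21, 15, 12, 14, 13, 19, 16, 18, 17],
  [12, 13, 15, 14, 23, 22, 20, 21, 17, 16, 18, 19, 1, 0, 2, 3, 8, 9, 11, 10, 7, 6, 4, 5],
  [13, 12, 14, 15, 22, 23, 21, 20, 16, 17, 19, 18, 0, 1, 3, 2, 9, 8, 10, 11, 6, 7, 5, 4],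
  [14, 15, 13, 12, 21, 20, 22, 23, 19, 18, 16, 17, 3, 2, 0, 1, 10, 11, 9, 8, 5, 4, 6, 7],
  [15, 14, 12, 13, 20, 21, 23, 22, 18, 19, 17, 16, 2, 3, 1, 0, 11, 10, 8, 9, 4, 5, 7, 6],
  [16, 18, 17, 19, 13, 15, 12, 14, 22, 20, 23, 21, 6, 4, 7, 5, 0, 2, 1, 3, 9, 11, 8, 10],
  [17, 19, 16, 18, 12, 14, 13, 15, 23, 21, 22, 20, 7, 5, 6, 4, 1, 3, 0, 2, 8, 10, 9, 11],
  [18, 16, 19, 17, 15, 13, 14, 12, 20, 22, 21, 23, 4, 6, 5, 7, 2, 0, 3, 1, 11, 9, 10, 8],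
  [19, 17, 18, 16, 14, 12, 15, 13, 21, 23, 20, 22, 5, 7, 4, 6, 3, 1, 2, 0, 10, 8, 11, 9],
  [20, 23, 22, 21, 18, 17, 16, 19, 15, 12, 13, 14, 11, 8, 9, 10, 4, 7, 6, 5, 2, 1, 0, 3],
  [21, 22, 23, 20, 19, 16, 17, 18, 14, 13, 12, 15, 10, 9, 8, 11, 5, 6, 7, 4, 3, 0, 1, 2],
  [22, 21, 20, 23, 16, 19, 18, 17, 13, 14, 15, 12, 9, 10, 11, 8, 6, 5, 4, 7, 0, 3, 2, 1],
  [23, 20, 21, 22, 17, 18, 19, 16, 12, 15, 14, 13, 8, 11, 10, 9, 7, 4, 5, 6, 1, 2, 3, 0]]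

/-- The product of two monomial maps. -/
def hm (h k : Fin 24) : Fin 24 := (hTable.getD h.val []).getD k.val 0

/-- The inverse of a monomial map. -/
def hi (h : Fin 24) : Fin 24 := [0, 1, 2, 3, 8, 11, 9, 10, 4, 6, 7, 5, 13, 12, 14, 15, 16, 18, 17, 19, 22, 21, 20, 23].getD h.val 0

/-- Elements of the model. -/
abbrev W := Vec × Fin 24

/-- Product in the model. -/
def mulW (a b : W) : W := (a.1 + hf a.2 b.1, hm a.2 b.2)

/-- The identity of the model. -/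
def oneW : W := (0, 0)

/-- Inverse in the model. -/
def invW (a : W) : W := (-(hf (hi a.2) a.1), hi a.2)

/-- Powers in the model. -/
def powW (a : W) : ℕ → W
  | 0 => oneW
  | n + 1 => mulW (powW a n) a

/-- Conjugation in the model. -/
def conjW (a b : W) : W := mulW (mulW a b) (invW a)

/-- The scalar product. -/
def dot (v w : Vec) : ZMod 3 := v.1 * w.1 + v.2.1 * w.2.1 + v.2.2 * w.2.2

theorem hf_mul : ∀ h k : Fin 24, ∀ v : Vec, hf (hm h k) v = hf h (hf k v) := by decide +kernel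

theorem hf_inj : ∀ h k : Fin 24, (∀ v : Vec, hf h v = hf k v) → h = k := by decide +kernel

theorem hf_add : ∀ h : Fin 24, ∀ v w : Vec, hf h (v + w) = hf h v + hf h w := by decide +kernel

theorem hf_dot : ∀ h : Fin 24, ∀ v w : Vec, dot (hf h v) (hf h w) = dot v w := by decide +kernel

theorem hf_one : ∀ v : Vec, hf 0 v = v := by decide +kernel

theorem hf_zero : ∀ h : Fin 24, hf h 0 = 0 := by decide +kernel

theorem hf_hi : ∀ h : Fin 24, ∀ v : Vec, hf (hi h) (hf h v) = v ∧ hf h (hf (hi h) v) = v := by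
  decide +kernel

theorem hm_low : ∀ h k : Fin 24, h.val < 12 → k.val < 12 → (hm h k).val < 12 := by decide +kernel

theorem hi_low : ∀ h : Fin 24, h.val < 12 → (hi h).val < 12 := by decide +kernel

theorem hf_neg (h : Fin 24) (v : Vec) : hf h (-v) = -hf h v := by
  refine eq_neg_of_add_eq_zero_left ?_
  rw [← hf_add, neg_add_cancel, hf_zero]

theorem hm_assoc (a b c : Fin 24) : hm (hm a b) c = hm a (hm b c) :=
  hf_inj _ _ fun v => by simp only [hf_mul]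

theorem hm_one (a : Fin 24) : hm 0 a = a ∧ hm a 0 = a :=
  ⟨hf_inj _ _ fun v => by rw [hf_mul, hf_one], hf_inj _ _ fun v => by rw [hf_mul, hf_one]⟩

theorem hm_hi (a : Fin 24) : hm (hi a) a = 0 ∧ hm a (hi a) = 0 :=
  ⟨hf_inj _ _ fun v => by rw [hf_mul, hf_one, (hf_hi a v).1],
    hf_inj _ _ fun v => by rw [hf_mul, hf_one, (hf_hi a v).2]⟩

theorem mulW_assoc (a b c : W) : mulW (mulW a b) c = mulW a (mulW b c) :=
  Prod.ext (by simp only [mulW]; rw [hf_add, hf_mul, add_assoc]) (hm_assoc _ _ _)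

theorem mulW_one (a : W) : mulW a oneW = a ∧ mulW oneW a = a := by
  constructor
  · refine Prod.ext ?_ (hm_one _).2
    show a.1 + hf a.2 0 = a.1
    rw [hf_zero, add_zero]
  · refine Prod.ext ?_ (hm_one _).1
    show (0 : Vec) + hf 0 a.1 = a.1
    rw [hf_one, zero_add]

theorem invW_mul (a : W) : mulW (invW a) a = oneW ∧ mulW a (invW a) = oneW := by
  constructor
  · refine Prod.ext ?_ (hm_hi _).1
    show -(hf (hi a.2) a.1) + hf (hi a.2) a.1 = 0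
    rw [neg_add_cancel]
  · refine Prod.ext ?_ (hm_hi _).2
    show a.1 + hf a.2 (-(hf (hi a.2) a.1)) = 0
    rw [hf_neg, (hf_hi a.2 a.1).2, add_neg_cancel]

end Cfsg.Agent.Lib.McL3NonSing87.Model
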