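import Cfsg.Agent.Lib.McL3NonSing87.Coord
import Cfsg.Agent.Lib.McL3NonSing87.Model
import Cfsg.Agent.Lib.McL3Local35.CompX

/-!
# The normaliser of `J` in `C(y)` and its action on the three axes
-/

set_option autoImplicit false

namespace Cfsg.Agent.Lib.McL3NonSing87

open Subgroup
open Cfsg.Agent.Lib.McL3Local35
open Model (Vec hf hm hi)

variable {G : Type*} [Group G] [Finite G] (d : Std G)

/-- `N(J) ∩ C(y)`. -/
def NN : Subgroup G where
  carrier := {g | g * d.yp = d.yp * g ∧ Norms g d.J}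
  one_mem' := ⟨by simp, Norms.of_mem (one_mem _)⟩
  mul_mem' := fun {a b} ha hb => ⟨(Commute.mul_left ha.1 hb.1).eq, ha.2.mul hb.2⟩
  inv_mem' := fun {a} ha => ⟨((show Commute a d.yp from ha.1).inv_left).eq, ha.2.inv⟩

theorem mem_NN {g : G} : g ∈ NN d ↔ g * d.yp = d.yp * g ∧ Norms g d.J := Iff.rfl

theorem J_le_NN : d.J ≤ NN d := fun j hj => ⟨d.J_comm j hj _ d.yp_J, Norms.of_mem hj⟩

/-- A point of `A₆` fixing `y` lies in `A₄`. -/
theorem fix_yp {x : Six.A6} (h : actJ d x d.yp = d.yp) : x ∈ SixExtra.a4 := by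
  have hfix4 : ∀ a ∈ SixExtra.a4, actJ d a d.yp = d.yp := by
    intro a ha
    simp only [SixExtra.a4, SixExtra.fours, List.mem_flatMap, List.mem_cons, List.not_mem_nil, or_false] at ha
    obtain ⟨v, hv, hav⟩ := ha
    have hv' : actJ d v d.yp = d.yp := by
      rcases hv with rfl | rfl | rfl | rfl
      exacts [act_one d d.yp_J, act_t_yp d, act_s_yp d, act_tw_yp d]
    rcases hav with rfl | rfl | rfl
    · exact hv'
    · rw [act_mul d _ _ d.yp_J, act_r_yp, hv']
    · rw [act_mul d _ _ d.yp_J, act_mul d _ _ d.yp_J, act_r_yp, act_r_yp, hv']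
  rcases SixExtra.a4_cases x with h1 | h1 | h1
  · exact h1
  · exfalso
    have h2 := hfix4 _ h1
    rw [act_mul d _ _ d.yp_J, act_e_yp, act_inv, h] at h2
    exact Std.three_inv_ne (yp_three d) (yp_ne d) h2
  · exfalso
    rw [List.any_eq_true] at h1
    obtain ⟨a, ha, hd⟩ := h1
    obtain ⟨h5, h51⟩ := of_decide_eq_true hd
    set m := lift d (x * a) with hm
    have hmM : m ∈ d.M := lift_mem d _
    have hmy : m * d.yp * m⁻¹ = d.yp := by
      show actJ d (x * a) d.yp = d.yp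
      rw [act_mul d _ _ d.yp_J, hfix4 a ha, h]
    have hm5 : m ^ 5 ∈ d.J := by
      rw [← d.img_eq_one (pow_mem hmM 5), d.img_pow hmM, img_lift, h5]
    have hf5 : (m ^ 81) ^ 5 = 1 := by
      rw [← pow_mul, show 81 * 5 = 5 * (3 * 27) from rfl, pow_mul, pow_mul, d.J_exp _ hm5, one_pow]
    have himg : d.img (m ^ 81) (pow_mem hmM _) = x * a := by
      rw [d.img_pow hmM, img_lift, show 81 = 5 * 16 + 1 from rfl, pow_succ, pow_mul, h5, one_pow, one_mul]
    have hfy : (m ^ 81) * d.yp * (m ^ 81)⁻¹ = d.yp := by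
      have hc : Commute m d.yp := mul_inv_eq_iff_eq_mul.1 hmy
      rw [(hc.pow_left 81).eq, mul_inv_cancel_right]
    have hall := five_small hf5 (H := d.J) (F := zpowers d.yp) (a := 1) (b := 4)
      (by rw [d.J_card]; norm_num)
      (by rw [Nat.card_zpowers, orderOf_eq_prime (yp_three d) (yp_ne d)]; norm_num)
      (zpowers_le.2 d.yp_J) (by norm_num) (d.M_norms _ (pow_mem hmM _)) (fun j hj => by
        obtain ⟨n, rfl⟩ := hj
        rw [← conj_zpow, hfy])
    have hfJ : m ^ 81 ∈ d.J := d.toHyp.cent_J fun j hj => mul_inv_eq_iff_eq_mul.1 (hall j hj)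
    exact h51 (himg.symm.trans ((d.img_eq_one _).2 hfJ))

theorem exists_r : ∃ r : G, r ∈ d.M ∧ (∀ j ∈ d.J, r * j * r⁻¹ = actJ d SixExtra.rbar j) ∧
    r * d.t * r⁻¹ = d.s ∧ r * d.s * r⁻¹ = d.t * d.s := by
  set r0 := lift d SixExtra.rbar with hr0
  have hr0M : r0 ∈ d.M := lift_mem d _
  have e1 : SixExtra.rbar * Six.tbar * SixExtra.rbar⁻¹ = Six.wbar := by decide +kernel
  have e2 : SixExtra.rbar * Six.wbar * SixExtra.rbar⁻¹ = Six.tbar * Six.wbar := by decide +kernel
  have e3 : Six.tbar * Six.wbar * (Six.tbar * Six.wbar) = 1 := by decide +kernel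
  have hsq : ∀ x g : G, x * x = 1 → g * x * g⁻¹ * (g * x * g⁻¹) = 1 := fun x g hx => by
    rw [show g * x * g⁻¹ * (g * x * g⁻¹) = g * (x * x) * g⁻¹ by group, hx]; group
  -- the image of `t`
  set a := r0 * d.t * r0⁻¹ with ha
  have haM : a ∈ d.M := mul_mem (mul_mem hr0M d.t_mem) (inv_mem hr0M)
  have ha2 : a * a = 1 := hsq _ _ d.t_sq
  have hai : a⁻¹ = a := inv_eq_of_mul_eq_one_right ha2
  have hq : d.s * a ∈ d.J := by
    rw [← d.img_eq_one (mul_mem d.s_mem haM), d.img_mul d.s_mem haM, d.img_conj hr0M d.t_mem, img_lift,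
      d.t_img, d.s_img, e1, Six.wbar_sq]
  obtain ⟨m1, hm1, hm1e⟩ := exists_sqrt_conj (t := d.s) (q := d.s * a) (n := 1) d.s_sq
    (by rw [mul_inv_rev, hai, d.s_inv, ← mul_assoc, d.s_sq, one_mul]) (d.J_exp _ hq)
  rw [← mul_assoc d.s, d.s_sq, one_mul] at hm1e
  have hm1J : m1 ∈ d.J := zpowers_le.2 hq hm1
  set r' := m1 * r0 with hr'
  have hr'M : r' ∈ d.M := mul_mem (d.toHyp.J_le_M hm1J) hr0M
  have hr't : r' * d.t * r'⁻¹ = d.s := by rw [← hm1e, ha, hr']; group
  -- the image of `s`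
  set b := r' * d.s * r'⁻¹ with hb
  have hbM : b ∈ d.M := mul_mem (mul_mem hr'M d.s_mem) (inv_mem hr'M)
  have hb2 : b * b = 1 := hsq _ _ d.s_sq
  have hbi : b⁻¹ = b := inv_eq_of_mul_eq_one_right hb2
  obtain ⟨w, hw⟩ : ∃ w, w = d.t * d.s := ⟨_, rfl⟩
  have hwM : w ∈ d.M := hw ▸ mul_mem d.t_mem d.s_mem
  have hw2 : w * w = 1 := by
    rw [hw]
    calc d.t * d.s * (d.t * d.s) = d.t * (d.s * d.t) * d.s := by group
      _ = (d.t * d.t) * (d.s * d.s) := by rw [d.s_comm]; group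
      _ = 1 := by rw [d.t_sq, d.s_sq, one_mul]
  have hwi : w⁻¹ = w := inv_eq_of_mul_eq_one_right hw2
  have hq2 : w * b ∈ d.J := by
    rw [← d.img_eq_one (mul_mem hwM hbM), d.img_mul hwM hbM, d.img_conj hr'M d.s_mem,
      d.img_mul (d.toHyp.J_le_M hm1J) hr0M, (d.img_eq_one _).2 hm1J, one_mul, img_lift, d.s_img,
      show d.img w hwM = Six.tbar * Six.wbar by subst hw; rw [← d.t_img, ← d.s_img, ← d.img_mul d.t_mem d.s_mem],
      e2, e3]
  have hbs : Commute b d.s := by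
    show r' * d.s * r'⁻¹ * d.s = d.s * (r' * d.s * r'⁻¹)
    calc r' * d.s * r'⁻¹ * d.s = r' * d.s * r'⁻¹ * (r' * d.t * r'⁻¹) := by rw [hr't]
      _ = r' * (d.s * d.t) * r'⁻¹ := by group
      _ = r' * (d.t * d.s) * r'⁻¹ := by rw [d.s_comm]
      _ = (r' * d.t * r'⁻¹) * (r' * d.s * r'⁻¹) := by group
      _ = d.s * (r' * d.s * r'⁻¹) := by rw [hr't]
  have hws : Commute w d.s := hw ▸ (show Commute d.t d.s from d.s_comm.symm).mul_left (Commute.refl _)
  obtain ⟨m2, hm2, hm2e⟩ := exists_sqrt_conj (t := w) (q := w * b) (n := 1) hw2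
    (by rw [mul_inv_rev, hbi, hwi, ← mul_assoc w, hw2, one_mul]) (d.J_exp _ hq2)
  rw [← mul_assoc w, hw2, one_mul] at hm2e
  have hm2J : m2 ∈ d.J := zpowers_le.2 hq2 hm2
  have hm2s : Commute m2 d.s := by
    obtain ⟨n, rfl⟩ := hm2
    exact (hws.mul_left hbs).zpow_left n
  refine ⟨m2 * r', mul_mem (d.toHyp.J_le_M hm2J) hr'M, fun j hj => ?_, ?_, ?_⟩
  · have hrM := mul_mem (d.toHyp.J_le_M hm2J) hr'M
    rw [act_img d hrM hj]
    congr 1
    rw [d.img_mul (d.toHyp.J_le_M hm2J) hr'M, (d.img_eq_one _).2 hm2J, one_mul,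
      d.img_mul (d.toHyp.J_le_M hm1J) hr0M, (d.img_eq_one _).2 hm1J, one_mul, img_lift]
  · calc m2 * r' * d.t * (m2 * r')⁻¹ = m2 * (r' * d.t * r'⁻¹) * m2⁻¹ := by group
      _ = d.s := by rw [hr't, hm2s.eq, mul_inv_cancel_right]
  · calc m2 * r' * d.s * (m2 * r')⁻¹ = m2 * b * m2⁻¹ := by rw [hb]; group
      _ = d.t * d.s := hm2e.trans hw

/-- An element of order three modulo `J` permuting the four-group `⟨t, s⟩` and the axes. -/
noncomputable def rr : G := (exists_r d).choose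

theorem rr_mem : rr d ∈ d.M := (exists_r d).choose_spec.1

theorem rr_act {j : G} (hj : j ∈ d.J) : rr d * j * (rr d)⁻¹ = actJ d SixExtra.rbar j :=
  (exists_r d).choose_spec.2.1 j hj

theorem rr_t : rr d * d.t * (rr d)⁻¹ = d.s := (exists_r d).choose_spec.2.2.1

theorem rr_s : rr d * d.s * (rr d)⁻¹ = d.t * d.s := (exists_r d).choose_spec.2.2.2

/-- `g` acts on the coordinates of `J` through the monomial map of index `h`. -/
def Acts (g : G) (h : Fin 24) : Prop :=
  ∀ (i : ZMod 3) (v : Vec), g * jc d (i, v) * g⁻¹ = jc d (i, hf h v)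

theorem Acts.mul {g g' : G} {h h' : Fin 24} (hg : Acts d g h) (hg' : Acts d g' h') :
    Acts d (g * g') (hm h h') := fun i v => by
  rw [show g * g' * jc d (i, v) * (g * g')⁻¹ = g * (g' * jc d (i, v) * g'⁻¹) * g⁻¹ by group, hg' i v,
    hg i _, Model.hf_mul]

theorem Acts.one : Acts d 1 0 := fun i v => by rw [Model.hf_one]; group

theorem Acts.inv {g : G} {h : Fin 24} (hg : Acts d g h) : Acts d g⁻¹ (hi h) := fun i v => by
  have h1 := hg i (hf (hi h) v)
  rw [(Model.hf_hi h v).2] at h1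
  rw [← h1]; group

theorem Acts.unique {g : G} {h h' : Fin 24} (hg : Acts d g h) (hg' : Acts d g h') : h = h' :=
  Model.hf_inj _ _ fun v => (Prod.ext_iff.1 (jc_inj d ((hg 0 v).symm.trans (hg' 0 v)))).2

theorem Acts.of_J {j : G} (hj : j ∈ d.J) : Acts d j 0 := fun i v => by
  rw [Model.hf_one, d.J_comm j hj _ (jc_J d _), mul_inv_cancel_right]

theorem Acts.mem_J {g : G} (hg : Acts d g 0) : g ∈ d.J := d.toHyp.cent_J fun x hx => by
  obtain ⟨⟨i, v⟩, rfl⟩ := jc_surj d hx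
  exact mul_inv_eq_iff_eq_mul.1 ((hg i v).trans (by rw [Model.hf_one]))

theorem Acts.mem_NN {g : G} {h : Fin 24} (hg : Acts d g h) : g ∈ NN d := by
  refine ⟨mul_inv_eq_iff_eq_mul.1 ?_, fun x hx => ?_⟩
  · have h1 := hg 1 0
    rw [Model.hf_zero, jc_mem_Y, pw_one] at h1
    exact h1
  · obtain ⟨⟨i, v⟩, rfl⟩ := jc_surj d hx
    rw [hg i v]; exact jc_J d _

theorem acts_t : Acts d d.t 1 := fun i v => by
  rw [d.t_inv, ← act_t d (jc_J d _), act_t_jc]; rfl

theorem acts_s : Acts d d.s 2 := fun i v => by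
  rw [d.s_inv, ← act_s d (jc_J d _), act_s_jc]; rfl

theorem acts_r : Acts d (rr d) 4 := fun i v => by
  rw [rr_act d (jc_J d _), act_r_jc]; rfl

/-- `u` permutes the last two axes with a sign. -/
theorem acts_u {u : G} (hu : d.IsU u) : Acts d u 12 := by
  intro i v
  have hfix : ∀ x ∈ d.D, ∀ k : ZMod 3, u * pw x k * u⁻¹ = pw x k := fun x hx k => by
    rw [pw_conj, d.Kc_commD hu.mem hx, mul_inv_cancel_right]
  have hym : d.ym ∈ d.D := mul_mem d.z_D (inv_mem d.z2_D)
  have hEu : Std.InE d u := d.Kc_inE hu.mem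
  have hact : d.act u = d.act d.e := d.mat_inj hu.rho
  have hW : ∀ x ∈ d.W, u * x * u⁻¹ = d.e * x * d.e⁻¹ := fun x hx => by
    have := congrArg (fun f : d.W →* d.W => ((f ⟨x, hx⟩ : d.W) : G)) hact
    beta_reduce at this
    rwa [d.act_apply hEu.normW, d.act_apply d.inE_e.normW] at this
  have hb : fb d ∈ d.W := d.mem_W.2 ⟨fb_J d, by rw [← act_t d (fb_J d), act_t_fb]⟩
  have hc : fc d ∈ d.W := d.mem_W.2 ⟨fc_J d, by rw [← act_t d (fc_J d), act_t_fc]⟩
  have hub : u * fb d * u⁻¹ = fc d := by rw [hW _ hb, ← act_e d (fb_J d), act_e_fb]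
  have huc : u * fc d * u⁻¹ = (fb d)⁻¹ := by rw [hW _ hc, ← act_e d (fc_J d), act_e_fc]
  obtain ⟨a, b, c⟩ := v
  calc u * jc d (i, (a, b, c)) * u⁻¹
      = (u * pw d.yp i * u⁻¹) * ((u * pw d.ym a * u⁻¹) * (u * pw (fb d) b * u⁻¹) *
          (u * pw (fc d) c * u⁻¹)) := by simp only [jc, jv]; group
    _ = pw d.yp i * (pw d.ym a * pw (fc d) b * pw (fb d) (-c)) := by
        rw [hfix _ d.yp_D, hfix _ hym, pw_conj u b, pw_conj u c, hub, huc, pw_inv (fb_three d)]
    _ = jc d (i, hf 12 (a, b, c)) := by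
        show _ = pw d.yp i * (pw d.ym a * pw (fb d) (-c) * pw (fc d) b)
        rw [mul_assoc (pw d.ym a), d.J_comm (pw (fc d) b) (pow_mem (fc_J d) _) (pw (fb d) (-c))
          (pow_mem (fb_J d) _), ← mul_assoc (pw d.ym a)]

/-- Conjugation permutes the involutions `t`, `s`, `t s`. -/
def NF (g : G) : Prop :=
  ∀ x ∈ ({d.t, d.s, d.t * d.s} : Set G), g * x * g⁻¹ ∈ ({d.t, d.s, d.t * d.s} : Set G)

theorem NF.mul {g g' : G} (hg : NF d g) (hg' : NF d g') : NF d (g * g') := fun x hx => by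
  rw [show g * g' * x * (g * g')⁻¹ = g * (g' * x * g'⁻¹) * g⁻¹ by group]
  exact hg _ (hg' x hx)

theorem NF.pow {g : G} (hg : NF d g) : ∀ n : ℕ, NF d (g ^ n)
  | 0 => fun x hx => by simpa using hx
  | n + 1 => by rw [pow_succ]; exact (NF.pow hg n).mul d hg

theorem NF.inv {g : G} (hg : NF d g) : NF d g⁻¹ := by
  have h : g⁻¹ = g ^ (orderOf g - 1) := by
    rw [inv_eq_iff_mul_eq_one, ← pow_succ', Nat.sub_add_cancel (orderOf_pos g), pow_orderOf_eq_one]
  rw [h]; exact hg.pow d _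

theorem nf_t : NF d d.t := fun x hx => by
  have : d.t * x * d.t⁻¹ = x := by
    rw [mul_inv_eq_iff_eq_mul]
    rcases hx with rfl | rfl | rfl
    · rfl
    · exact d.s_comm.symm
    · rw [mul_assoc, d.s_comm]
  rwa [this]

theorem nf_s : NF d d.s := fun x hx => by
  have : d.s * x * d.s⁻¹ = x := by
    rw [mul_inv_eq_iff_eq_mul]
    rcases hx with rfl | rfl | rfl
    · exact d.s_comm
    · rfl
    · rw [← mul_assoc, d.s_comm]
  rwa [this]

theorem nf_r : NF d (rr d) := fun x hx => by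
  rcases hx with rfl | rfl | rfl
  · rw [rr_t]; exact Or.inr (Or.inl rfl)
  · rw [rr_s]; exact Or.inr (Or.inr rfl)
  · refine Or.inl ?_
    calc rr d * (d.t * d.s) * (rr d)⁻¹ = (rr d * d.t * (rr d)⁻¹) * (rr d * d.s * (rr d)⁻¹) := by group
      _ = d.t := by
        rw [rr_t, rr_s, d.s_comm.symm, ← mul_assoc, d.s_sq, one_mul]

theorem nf_u {u : G} (hu : d.IsU u) : NF d u := by
  have hut : u * d.t * u⁻¹ = d.t := by rw [(d.mem_Kc.1 hu.mem).1, mul_inv_cancel_right]
  have hus : u * d.s * u⁻¹ = d.t * d.s := by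
    have h1 := d.conj_u_inv hu (Or.inr (rfl : d.s = d.s))
    rw [d.s_inv] at h1
    calc u * d.s * u⁻¹ = u * (d.s * u⁻¹) * (d.s * d.s) := by rw [d.s_sq]; group
      _ = u * (d.s * u⁻¹ * d.s) * d.s := by group
      _ = u * u * d.s := by
          have h2 : d.s * u⁻¹ * d.s = u := by
            calc d.s * u⁻¹ * d.s = d.s * (d.s * u * d.s) * d.s := by rw [h1]
              _ = (d.s * d.s) * u * (d.s * d.s) := by group
              _ = u := by rw [d.s_sq, one_mul, mul_one]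
          rw [h2]
      _ = d.t * d.s := by rw [hu.sq]
  intro x hx
  rcases hx with rfl | rfl | rfl
  · rw [hut]; exact Or.inl rfl
  · rw [hus]; exact Or.inr (Or.inr rfl)
  · refine Or.inr (Or.inl ?_)
    calc u * (d.t * d.s) * u⁻¹ = (u * d.t * u⁻¹) * (u * d.s * u⁻¹) := by group
      _ = d.s := by rw [hut, hus, ← mul_assoc, d.t_sq, one_mul]

/-- An element of `J` permuting the three involutions is a power of `y`. -/
theorem nf_J {j : G} (hj : j ∈ d.J) (h : NF d j) : ∃ i : ZMod 3, j = jc d (i, 0) := by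
  obtain ⟨⟨i, v⟩, rfl⟩ := jc_surj d hj
  have himg : ∀ {x : G} (hx : x ∈ d.M), ∀ y, jc d (i, v) * x * (jc d (i, v))⁻¹ = y → ∀ hy : y ∈ d.M,
      d.img y hy = d.img x hx := by
    intro x hx y he hy
    subst he
    rw [d.img_conj (d.toHyp.J_le_M (jc_J d _)) hx, (d.img_eq_one _).2 (jc_J d _), inv_one, one_mul, mul_one]
  have hfix : ∀ x ∈ ({d.t, d.s} : Set G), jc d (i, v) * x * (jc d (i, v))⁻¹ = x := by
    have hne : Six.tbar ≠ Six.wbar ∧ Six.tbar * Six.wbar ≠ Six.tbar ∧ Six.tbar * Six.wbar ≠ Six.wbar := by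
      decide +kernel
    have hti : d.img (d.t * d.s) (mul_mem d.t_mem d.s_mem) = Six.tbar * Six.wbar := by
      rw [d.img_mul d.t_mem d.s_mem, d.t_img, d.s_img]
    intro x hx
    rcases hx with rfl | rfl
    · rcases h d.t (Or.inl rfl) with e | e | e
      · exact e
      · have := himg d.t_mem _ e d.s_mem
        rw [d.t_img, d.s_img] at this
        exact absurd this.symm hne.1
      · have := himg d.t_mem _ e (mul_mem d.t_mem d.s_mem)
        rw [d.t_img, hti] at this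
        exact absurd this hne.2.1
    · rcases h d.s (Or.inr (Or.inl rfl)) with e | e | e
      · have := himg d.s_mem _ e d.t_mem
        rw [d.t_img, d.s_img] at this
        exact absurd this hne.1
      · exact e
      · have := himg d.s_mem _ e (mul_mem d.t_mem d.s_mem)
        rw [d.s_img, hti] at this
        exact absurd this hne.2.2
  have key : ∀ {x : G} {k : Fin 24}, Acts d x k → x ∈ ({d.t, d.s} : Set G) → hf k v = v := by
    intro x k hk hx
    have h1 : x * jc d (i, v) * x⁻¹ = jc d (i, v) := by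
      rw [← mul_inv_eq_iff_eq_mul.1 (hfix x hx), mul_inv_cancel_right]
    rw [hk i v] at h1
    exact (Prod.ext_iff.1 (jc_inj d h1)).2
  refine ⟨i, ?_⟩
  rw [(by decide +kernel : ∀ w : Vec, hf 1 w = w → hf 2 w = w → w = 0) v (key (acts_t d) (Or.inl rfl))
    (key (acts_s d) (Or.inr rfl))]

/-- Representatives of the monomial maps in `N(J) ∩ C(y)`. -/
noncomputable def LL (u : G) (h : Fin 24) : G :=
  (match h.val % 4 with
    | 0 => 1
    | 1 => d.t
    | 2 => d.s
    | _ => d.t * d.s) * rr d ^ (h.val / 4 % 3) * u ^ (h.val / 12)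

theorem acts_pow {g : G} {h : Fin 24} (hg : Acts d g h) :
    ∀ n : ℕ, ∀ i : ZMod 3, ∀ v : Vec, g ^ n * jc d (i, v) * (g ^ n)⁻¹ = jc d (i, (hf h)^[n] v)
  | 0, i, v => by simp
  | n + 1, i, v => by
    rw [show g ^ (n + 1) * jc d (i, v) * (g ^ (n + 1))⁻¹ = g ^ n * (g * jc d (i, v) * g⁻¹) * (g ^ n)⁻¹ by
      rw [pow_succ]; group, hg i v, acts_pow hg n, Function.iterate_succ_apply]

/-- The indices in use: the first twelve always, the last twelve when `u` is as in the second case. -/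
def InH (u : G) (h : Fin 24) : Prop := h.val < 12 ∨ d.IsU u

theorem acts_LL {u : G} {h : Fin 24} (hh : InH d u h) : Acts d (LL d u h) h := by
  intro i v
  have hu : u ^ (h.val / 12) * jc d (i, v) * (u ^ (h.val / 12))⁻¹ = jc d (i, Model.fu^[h.val / 12] v) := by
    rcases Nat.lt_or_ge h.val 12 with h12 | h12
    · rw [show h.val / 12 = 0 by omega]; simp
    · rcases hh with hh | hh
      · omega
      · rw [acts_pow d (acts_u d hh)]; rfl
  have hr : ∀ w, rr d ^ (h.val / 4 % 3) * jc d (i, w) * (rr d ^ (h.val / 4 % 3))⁻¹ =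
      jc d (i, Model.fr^[h.val / 4 % 3] w) := fun w => by rw [acts_pow d (acts_r d)]; rfl
  rw [LL]
  generalize hF : (match h.val % 4 with
    | 0 => (1 : G)
    | 1 => d.t
    | 2 => d.s
    | _ => d.t * d.s) = F
  have hFa : ∀ w, F * jc d (i, w) * F⁻¹ = jc d (i, Model.four (h.val % 4) w) := by
    intro w
    have h4 : h.val % 4 < 4 := Nat.mod_lt _ (by norm_num)
    subst hF
    interval_cases h.val % 4
    · simp [Model.four]
    · exact (acts_t d i w).trans rfl
    · exact (acts_s d i w).trans rfl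
    · exact (((acts_t d).mul d (acts_s d)) i w).trans (by rw [Model.hf_mul]; rfl)
  calc F * rr d ^ (h.val / 4 % 3) * u ^ (h.val / 12) * jc d (i, v) *
        (F * rr d ^ (h.val / 4 % 3) * u ^ (h.val / 12))⁻¹
      = F * (rr d ^ (h.val / 4 % 3) * (u ^ (h.val / 12) * jc d (i, v) * (u ^ (h.val / 12))⁻¹) *
          (rr d ^ (h.val / 4 % 3))⁻¹) * F⁻¹ := by group
    _ = jc d (i, hf h v) := by rw [hu, hr, hFa]; rfl

theorem nf_LL {u : G} {h : Fin 24} (hh : InH d u h) : NF d (LL d u h) := by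
  have hu : NF d (u ^ (h.val / 12)) := by
    rcases Nat.lt_or_ge h.val 12 with h12 | h12
    · rw [show h.val / 12 = 0 by omega]; exact fun x hx => by simpa using hx
    · rcases hh with hh | hh
      · omega
      · exact (nf_u d hh).pow d _
  rw [LL]
  refine ((?_ : NF d _).mul d ((nf_r d).pow d _)).mul d hu
  have h4 : h.val % 4 < 4 := Nat.mod_lt _ (by norm_num)
  interval_cases h.val % 4
  exacts [fun x hx => by simpa using hx, nf_t d, nf_s d, (nf_t d).mul d (nf_s d)]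

theorem LL_mem {u : G} {h : Fin 24} (hh : InH d u h) : LL d u h ∈ NN d := (acts_LL d hh).mem_NN d

theorem acts_rpow : ∀ k : ℕ,
    Acts d (rr d ^ k) ((fun x => hm x 4)^[k] 0) ∧ ((fun x => hm x 4)^[k] (0 : Fin 24)).val < 12
  | 0 => ⟨by rw [pow_zero]; exact Acts.one d, by norm_num⟩
  | k + 1 => by
    rw [pow_succ, Function.iterate_succ_apply']
    exact ⟨(acts_rpow k).1.mul d (acts_r d), Model.hm_low _ _ (acts_rpow k).2 (by norm_num)⟩

/-- Every element of `N(J) ∩ C(y)` acts through one of the monomial maps. -/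
theorem exists_acts {u : G} (hcase : d.CaseA ∨ d.IsU u) {g : G} (hg : g ∈ NN d) :
    ∃ h : Fin 24, InH d u h ∧ Acts d g h := by
  obtain ⟨hgy, hgJ⟩ := hg
  have hgM : g * d.t * g⁻¹ ∈ d.M := d.M_normal g hgJ d.t d.t_mem
  set a := d.img _ hgM with ha
  have hgyc : g * d.yp * g⁻¹ = d.yp := by rw [hgy, mul_inv_cancel_right]
  have htyc : d.t * d.yp * d.t⁻¹ = d.yp := by rw [d.t_inv]; exact (d.mem_D.1 d.yp_D).2
  have haA : a ∈ SixExtra.a4 := fix_yp d (by
    rw [ha, ← act_img d hgM d.yp_J]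
    calc g * d.t * g⁻¹ * d.yp * (g * d.t * g⁻¹)⁻¹
        = g * (d.t * (g⁻¹ * d.yp * g) * d.t⁻¹) * g⁻¹ := by group
      _ = g * (d.t * d.yp * d.t⁻¹) * g⁻¹ := by
          rw [show g⁻¹ * d.yp * g = d.yp by rw [mul_assoc, ← hgy, inv_mul_cancel_left]]
      _ = d.yp := by rw [htyc, hgyc])
  have ha2 : a * a = 1 := by
    rw [ha, ← d.img_mul hgM hgM]
    refine (d.img_eq_one _).2 ?_
    rw [show g * d.t * g⁻¹ * (g * d.t * g⁻¹) = g * (d.t * d.t) * g⁻¹ by group, d.t_sq]
    simp [one_mem]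
  have ha1 : a ≠ 1 := fun h1 => d.t_ne (by
    have hj := (d.img_eq_one hgM).1 h1
    have hj' := hgJ.inv _ hj
    rw [show g⁻¹ * (g * d.t * g⁻¹) * g⁻¹⁻¹ = d.t by group] at hj'
    exact absurd ((d.img_eq_one d.t_mem).2 hj') (by rw [d.t_img]; exact Six.tbar_ne))
  -- a power of `r` brings the image back to `t`
  obtain ⟨k, hk⟩ : ∃ k : ℕ, SixExtra.rbar ^ k * a * (SixExtra.rbar ^ k)⁻¹ = Six.tbar := by
    rcases SixExtra.a4_involution a haA ha2 ha1 with e | e | e <;> rw [e]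
    · exact ⟨0, by decide +kernel⟩
    · exact ⟨2, by decide +kernel⟩
    · exact ⟨1, by decide +kernel⟩
  set r := rr d ^ k with hr
  obtain ⟨hrA, hlow⟩ := acts_rpow d k
  rw [← hr] at hrA
  have hrM : r ∈ d.M := pow_mem (rr_mem d) k
  have himgr : d.img r hrM = SixExtra.rbar ^ k := by
    rw [d.img_pow (rr_mem d)]
    congr 1
    refine (Subtype.ext ?_ : _)
    have h0 : rr d * (lift d SixExtra.rbar)⁻¹ ∈ d.J := d.toHyp.cent_J fun x hx => by
      have h1 := rr_act d (act_mem d SixExtra.rbar⁻¹ hx)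
      rw [← act_mul d _ _ hx, mul_inv_cancel, act_one d hx] at h1
      have h2 : (lift d SixExtra.rbar)⁻¹ * x * lift d SixExtra.rbar = actJ d SixExtra.rbar⁻¹ x := by
        have h3 : actJ d SixExtra.rbar (actJ d SixExtra.rbar⁻¹ x) = x := by
          rw [← act_mul d _ _ hx, mul_inv_cancel, act_one d hx]
        nth_rw 1 [← h3]
        rw [actJ]; group
      refine mul_inv_eq_iff_eq_mul.1 ?_
      calc rr d * (lift d SixExtra.rbar)⁻¹ * x * (rr d * (lift d SixExtra.rbar)⁻¹)⁻¹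
          = rr d * ((lift d SixExtra.rbar)⁻¹ * x * lift d SixExtra.rbar) * (rr d)⁻¹ := by group
        _ = x := by rw [h2, h1]
    have h4 := (d.img_eq_one (mul_mem (rr_mem d) (inv_mem (lift_mem d _)))).2 h0
    rw [d.img_mul (rr_mem d) (inv_mem (lift_mem d _)), d.img_inv (lift_mem d _), img_lift, mul_inv_eq_one] at h4
    exact congrArg Subtype.val h4
  -- and an element of `J` makes it centralise `t`
  set b := r * (g * d.t * g⁻¹) * r⁻¹ with hb
  have hbM : b ∈ d.M := mul_mem (mul_mem hrM hgM) (inv_mem hrM)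
  have hb2 : b * b = 1 := by
    rw [hb, show r * (g * d.t * g⁻¹) * r⁻¹ * (r * (g * d.t * g⁻¹) * r⁻¹) =
      r * (g * (d.t * d.t) * g⁻¹) * r⁻¹ by group, d.t_sq]
    group
  have hbi : b⁻¹ = b := inv_eq_of_mul_eq_one_right hb2
  have hqJ : d.t * b ∈ d.J := by
    rw [← d.img_eq_one (mul_mem d.t_mem hbM), d.img_mul d.t_mem hbM, d.img_conj hrM hgM, himgr, ← ha,
      hk, d.t_img, Six.tbar_sq]
  obtain ⟨m, hm', hme⟩ := exists_sqrt_conj (t := d.t) (q := d.t * b) (n := 1) d.t_sq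
    (by rw [mul_inv_rev, hbi, d.t_inv, ← mul_assoc, d.t_sq, one_mul]) (d.J_exp _ hqJ)
  rw [← mul_assoc d.t, d.t_sq, one_mul] at hme
  have hmJ : m ∈ d.J := zpowers_le.2 hqJ hm'
  have hmrN : m * r ∈ NN d := mul_mem (J_le_NN d hmJ) (hrA.mem_NN d)
  set g' := m * r * g with hg'
  have hg'N : g' ∈ NN d := mul_mem hmrN ⟨hgy, hgJ⟩
  have hg't : g' * d.t = d.t * g' := by
    refine mul_inv_eq_iff_eq_mul.1 ?_
    calc g' * d.t * g'⁻¹ = m * b * m⁻¹ := by rw [hg', hb]; group
      _ = d.t := hme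
  have hst := d.stab_yp (d.inE_of_norms_J hg'N.2 hg't) (by rw [hg'N.1, mul_inv_cancel_right])
  have hD0 : ∀ x ∈ d.D, Acts d x 0 := fun x hx => Acts.of_J d (d.D_le_J hx)
  have hKc : ∀ x ∈ d.Kc, ∃ h : Fin 24, InH d u h ∧ Acts d x h := by
    intro x hx
    rcases hcase with hA | hu
    · rcases hA x hx with hD | hD
      · exact ⟨0, Or.inl (by norm_num), hD0 x hD⟩
      · refine ⟨hm 0 1, Or.inl (by decide), ?_⟩
        have := (hD0 _ hD).mul d (acts_t d)
        rwa [mul_assoc, d.t_sq, mul_one] at this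
    · have hui : Acts d u⁻¹ (hi 12) := (acts_u d hu).inv d
      rcases hu.gen x hx with hD | hD | hD | hD
      · exact ⟨0, Or.inr hu, hD0 x hD⟩
      · refine ⟨hm 0 1, Or.inr hu, ?_⟩
        have := (hD0 _ hD).mul d (acts_t d)
        rwa [mul_assoc, d.t_sq, mul_one] at this
      · refine ⟨hm 0 (hi 12), Or.inr hu, ?_⟩
        have := (hD0 _ hD).mul d hui
        rwa [mul_inv_cancel_right] at this
      · refine ⟨hm (hm 0 1) (hi 12), Or.inr hu, ?_⟩
        have := ((hD0 _ hD).mul d (acts_t d)).mul d hui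
        rwa [mul_assoc (x * u), d.t_sq, mul_one, mul_inv_cancel_right] at this
  have hInm : ∀ {p q : Fin 24}, InH d u p → InH d u q → InH d u (hm p q) := by
    intro p q hp hq
    rcases hp with hp | hp
    · rcases hq with hq | hq
      exacts [Or.inl (Model.hm_low p q hp hq), Or.inr hq]
    · exact Or.inr hp
  obtain ⟨h', hh', hA'⟩ : ∃ h : Fin 24, InH d u h ∧ Acts d g' h := by
    rcases hst with h0 | h0
    · exact hKc _ h0
    · obtain ⟨h, hh, hA⟩ := hKc _ h0
      refine ⟨hm 2 h, hInm (Or.inl (by norm_num)) hh, ?_⟩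
      have := (acts_s d).mul d hA
      rwa [← mul_assoc, d.s_sq, one_mul] at this
  refine ⟨_, hInm (Or.inl (Model.hi_low _ hlow)) (hInm (Or.inl (Model.hi_low 0 (by norm_num))) hh'), ?_⟩
  have := (hrA.inv d).mul d ((Acts.inv d (Acts.of_J d hmJ)).mul d hA')
  rwa [hg', show r⁻¹ * (m⁻¹ * (m * r * g)) = g by group] at this

/-- The coordinates of an element in the model. -/
theorem exists_cd {u : G} (hcase : d.CaseA ∨ d.IsU u) {g : G} (hg : g ∈ NN d) :
    ∃ w : Model.W, InH d u w.2 ∧ ∃ i : ZMod 3, g = jc d (i, w.1) * LL d u w.2 := by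
  obtain ⟨h, hh, hA⟩ := exists_acts d hcase hg
  have hJ : g * (LL d u h)⁻¹ ∈ d.J := by
    refine Acts.mem_J d ?_
    have := hA.mul d ((acts_LL d hh).inv d)
    rwa [(Model.hm_hi h).2] at this
  obtain ⟨⟨i, v⟩, hp⟩ := jc_surj d hJ
  exact ⟨(v, h), hh, i, by rw [hp, inv_mul_cancel_right]⟩

theorem cd_unique {u : G} {a b : Model.W} (ha : InH d u a.2) (hb : InH d u b.2) {i k : ZMod 3}
    (h : jc d (i, a.1) * LL d u a.2 = jc d (k, b.1) * LL d u b.2) : a = b ∧ i = k := by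
  have e : a.2 = b.2 := by
    have h1 := (Acts.of_J d (jc_J d (i, a.1))).mul d (acts_LL d ha)
    have h2 := (Acts.of_J d (jc_J d (k, b.1))).mul d (acts_LL d hb)
    rw [h] at h1
    have := h1.unique d h2
    rwa [(Model.hm_one _).1, (Model.hm_one _).1] at this
  rw [e, mul_left_inj] at h
  have h3 := jc_inj d h
  exact ⟨Prod.ext (Prod.ext_iff.1 h3).2 e, (Prod.ext_iff.1 h3).1⟩

/-- The product of two elements in coordinates. -/
theorem cd_mul {u : G} {a b : Model.W} (ha : InH d u a.2) (hb : InH d u b.2) (i k : ZMod 3) :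
    InH d u (Model.mulW a b).2 ∧ ∃ l : ZMod 3,
      jc d (i, a.1) * LL d u a.2 * (jc d (k, b.1) * LL d u b.2) =
        jc d (l, (Model.mulW a b).1) * LL d u (Model.mulW a b).2 := by
  have hh : InH d u (hm a.2 b.2) := by
    rcases ha with ha | ha
    · rcases hb with hb | hb
      exacts [Or.inl (Model.hm_low _ _ ha hb), Or.inr hb]
    · exact Or.inr ha
  refine ⟨hh, ?_⟩
  set c := LL d u a.2 * LL d u b.2 * (LL d u (hm a.2 b.2))⁻¹ with hc
  have hcJ : c ∈ d.J := by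
    refine Acts.mem_J d ?_
    have := ((acts_LL d ha).mul d (acts_LL d hb)).mul d ((acts_LL d hh).inv d)
    rwa [(Model.hm_hi _).2] at this
  obtain ⟨m, hm'⟩ := nf_J d hcJ (((nf_LL d ha).mul d (nf_LL d hb)).mul d ((nf_LL d hh).inv d))
  refine ⟨i + (k + m), ?_⟩
  have hact := acts_LL d ha k b.1
  calc jc d (i, a.1) * LL d u a.2 * (jc d (k, b.1) * LL d u b.2)
      = jc d (i, a.1) * (LL d u a.2 * jc d (k, b.1) * (LL d u a.2)⁻¹) * c * LL d u (hm a.2 b.2) := by
        rw [hc]; group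
    _ = jc d (i + (k + m), a.1 + hf a.2 b.1) * LL d u (hm a.2 b.2) := by
        rw [hact, hm', ← jc_add, ← jc_add]
        simp [add_assoc]

end Cfsg.Agent.Lib.McL3NonSing87
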