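import Cfsg.Agent.Lib.McL3NonSing87.Coord
import Cfsg.Agent.Lib.McL3Local35.CompB

/-!
# Elements of `J` whose centraliser in `C(y)` normalises `J`: weights one and three
-/

set_option autoImplicit false

namespace Cfsg.Agent.Lib.McL3NonSing87

open Subgroup
open Cfsg.Agent.Lib.McL3Local35

variable {G : Type*} [Group G] [Finite G] (d : Std G)

/-- The centraliser in `C(y)` of `v` normalises `J`. -/
def Good (v : G) : Prop := ∀ c : G, c * d.yp = d.yp * c → c * v = v * c → Norms c d.J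

theorem good_pw_mul {v : G} (h : Good d v) (i : ZMod 3) : Good d (pw d.yp i * v) := fun c hy hc =>
  h c hy (by
    have hi : Commute c (pw d.yp i) := (show Commute c d.yp from hy).pow_right _
    have h1 : Commute c ((pw d.yp i)⁻¹ * (pw d.yp i * v)) := hi.inv_right.mul_right hc
    rwa [inv_mul_cancel_left] at h1)

theorem good_inv {v : G} (h : Good d v) : Good d v⁻¹ := fun c hy hc => h c hy (by
  have h1 : Commute c v⁻¹⁻¹ := (show Commute c v⁻¹ from hc).inv_right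
  rwa [inv_inv] at h1)

theorem good_act {v : G} (h : Good d v) (a : Six.A6)
    (ha : actJ d a d.yp = d.yp ∨ actJ d a d.yp = d.yp⁻¹) : Good d (actJ d a v) := by
  intro c hy hc
  set g := lift d a with hg
  have hact : actJ d a v = g * v * g⁻¹ := rfl
  have hgJ : Norms g d.J := d.M_norms g (lift_mem d a)
  have hy' : g⁻¹ * c * g * d.yp = d.yp * (g⁻¹ * c * g) := by
    have h2 : c * (g * d.yp * g⁻¹) = (g * d.yp * g⁻¹) * c := by
      rcases ha with h | h <;> rw [show g * d.yp * g⁻¹ = actJ d a d.yp from rfl, h]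
      · exact hy
      · exact ((show Commute c d.yp from hy).inv_right).eq
    calc g⁻¹ * c * g * d.yp = g⁻¹ * (c * (g * d.yp * g⁻¹)) * g := by group
      _ = g⁻¹ * ((g * d.yp * g⁻¹) * c) * g := by rw [h2]
      _ = d.yp * (g⁻¹ * c * g) := by group
  have hv' : g⁻¹ * c * g * v = v * (g⁻¹ * c * g) := by
    calc g⁻¹ * c * g * v = g⁻¹ * (c * actJ d a v) * g := by rw [hact]; group
      _ = g⁻¹ * (actJ d a v * c) * g := by rw [hc]
      _ = v * (g⁻¹ * c * g) := by rw [hact]; group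
  have := (hgJ.mul (h _ hy' hv')).mul hgJ.inv
  rwa [show g * (g⁻¹ * c * g) * g⁻¹ = c by group] at this

theorem good_ym : Good d d.ym := by
  intro c hy hc
  have hyp : Commute c d.yp := hy
  have hym : Commute c d.ym := hc
  have h1 : Commute c d.z := z_eq d ▸ (hyp.mul_right hym).inv_right
  have h2 : Commute c d.z2 := z2_eq d ▸ (hyp.mul_right hym.inv_right).inv_right
  exact (d.cent_D_norms h1 h2).2

/-- `S` is generated by `Q` and any further element. -/
theorem S_norms_of_gen {c w : G} (hcQ : Norms c d.Q) (hwS : w ∈ d.S) (hwQ : w ∉ d.Q)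
    (hcw : c * w * c⁻¹ ∈ d.S) : Norms c d.S := by
  have hle : d.Q ⊔ zpowers w ≤ d.S := sup_le d.Q_le (zpowers_le.2 hwS)
  have heq : d.Q ⊔ zpowers w = d.S := by
    refine Subgroup.eq_of_le_of_card_ge hle ?_
    obtain ⟨k, -, hk⟩ := (Nat.dvd_prime_pow (p := 3) (m := 6) Nat.prime_three).1
      ((card_dvd_of_le hle).trans (d.S_card.dvd.trans (by norm_num)))
    have hlt : Nat.card d.Q < Nat.card (d.Q ⊔ zpowers w : Subgroup G) := by
      refine lt_of_le_of_ne (Subgroup.card_le_of_le le_sup_left) fun he => hwQ ?_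
      rw [Subgroup.eq_of_le_of_card_ge le_sup_left he.ge]
      exact mem_sup_right (mem_zpowers w)
    rw [d.Q_card, hk] at hlt
    have : 5 < k := (Nat.pow_lt_pow_iff_right (by norm_num : 1 < 3)).1 (by norm_num; exact hlt)
    rw [d.S_card, hk]
    calc 729 = 3 ^ 6 := by norm_num
      _ ≤ 3 ^ k := Nat.pow_le_pow_right (by norm_num) (by omega)
  have hmap : d.Q ⊔ zpowers w ≤ d.S.comap (MulAut.conj c).toMonoidHom :=
    sup_le (fun q hq => d.Q_le (hcQ q hq)) (zpowers_le.2 hcw)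
  exact fun x hx => hmap (heq.symm ▸ hx)

set_option maxHeartbeats 1000000 in
/-- Transport: centralising `z` and a further element of `J` forces normalising `J`. -/
theorem cent_z_norms {c w : G} (hz : c * d.z = d.z * c) (hw : w ∈ d.J) (hwZ : w ∉ d.Z)
    (hc : c * w = w * c) : Norms c d.J := by
  have hcZ : Norms c d.Z := Norms.of_cent fun x hx => d.cent_Z hz hx
  have hcQ := d.Q_norm c hcZ
  have hcw : c * w * c⁻¹ = w := by rw [hc, mul_inv_cancel_right]
  suffices hcS : Norms c d.S from d.toHyp.conj_eq_J fun x hx => hcS x (d.J_le hx)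
  by_cases hwQ : w ∈ d.Q
  swap
  · exact S_norms_of_gen d hcQ (d.J_le hw) hwQ (hcw.symm ▸ d.J_le hw)
  -- otherwise two Sylow subgroups of `L/Q` fixing `w` modulo `Z` would give an involution fixing it
  let N : Subgroup G :=
    { carrier := {g | g ∈ d.L ∧ g * w * g⁻¹ * w⁻¹ ∈ d.Z}
      one_mem' := ⟨one_mem _, by simp⟩
      mul_mem' := fun {a b} ha hb => ⟨mul_mem ha.1 hb.1, by
        rw [show a * b * w * (a * b)⁻¹ * w⁻¹ = a * (b * w * b⁻¹ * w⁻¹) * a⁻¹ * (a * w * a⁻¹ * w⁻¹) by group]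
        exact mul_mem (d.L_norms a ha.1 _ hb.2) ha.2⟩
      inv_mem' := fun {a} ha => ⟨inv_mem ha.1, by
        rw [show a⁻¹ * w * a⁻¹⁻¹ * w⁻¹ = a⁻¹ * (a * w * a⁻¹ * w⁻¹)⁻¹ * a⁻¹⁻¹ by group]
        exact d.L_norms a⁻¹ (inv_mem ha.1) _ (inv_mem ha.2)⟩ }
  have hSN : d.S ≤ N := by
    intro x hx
    obtain ⟨j, hj, q, hq, rfl⟩ := d.toHyp.S_eq hx
    refine mul_mem (⟨d.toHyp.S_le_L (d.J_le hj), ?_⟩ : j ∈ N) (⟨d.Q_le_L hq, d.Q_comm q hq w hwQ⟩ : q ∈ N)
    rw [d.J_comm j hj w hw]; simp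
  have hcSN : ∀ x ∈ d.S, c * x * c⁻¹ ∈ N := fun x hx => by
    refine ⟨d.L_normal c hcZ x (d.toHyp.S_le_L hx), ?_⟩
    have e : c * x * c⁻¹ * (c * w * c⁻¹) * (c * x * c⁻¹)⁻¹ * (c * w * c⁻¹)⁻¹ =
        c * (x * w * x⁻¹ * w⁻¹) * c⁻¹ := by group
    rw [hcw] at e
    rw [e]
    exact hcZ _ (hSN hx).2
  have hzL := d.toHyp.S_le_L (d.J_le d.z2_mem_J)
  have hy2L : c * d.z2 * c⁻¹ ∈ d.L := (hcSN _ (d.J_le d.z2_mem_J)).1
  have hz2N : d.z2 ∈ N := hSN (d.J_le d.z2_mem_J)
  have hy2N : c * d.z2 * c⁻¹ ∈ N := hcSN _ (d.J_le d.z2_mem_J)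
  have hx1 : d.toHyp.sl d.z2 hzL ≠ 1 := fun e => d.z2_not_Q ((d.toHyp.sl_eq_one hzL).1 e)
  have hy1 : d.toHyp.sl _ hy2L ≠ 1 := fun e => d.z2_not_Q (by
    have := d.Q_norm c⁻¹ hcZ.inv _ ((d.toHyp.sl_eq_one hy2L).1 e)
    rwa [show c⁻¹ * (c * d.z2 * c⁻¹) * c⁻¹⁻¹ = d.z2 by group] at this)
  have hcube : ∀ (g : G) (hg : g ∈ d.L), g ^ 3 = 1 →
      d.toHyp.sl g hg * d.toHyp.sl g hg * d.toHyp.sl g hg = 1 := by
    intro g hg h3
    show d.toSL ⟨g, hg⟩ * d.toSL ⟨g, hg⟩ * d.toSL ⟨g, hg⟩ = 1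
    rw [← map_mul, ← map_mul, ← map_one d.toSL]
    exact congrArg d.toSL (Subtype.ext (by show g * g * g = 1; rw [← pow_three', h3]))
  have hy23 : (c * d.z2 * c⁻¹) ^ 3 = 1 := by rw [conj_pow, d.z2_three]; simp
  -- no element of `N` maps to the central involution
  have hno : ∀ (g : G) (hg : g ∈ d.L), g ∈ N → d.toHyp.sl g hg ≠ -1 := by
    intro g hg hgN hsl
    have hsl3 : d.toHyp.sl (g ^ 3) (pow_mem hg 3) = -1 := by
      show d.toSL (⟨g, hg⟩ ^ 3) = -1
      rw [map_pow, show d.toSL ⟨g, hg⟩ = -1 from hsl]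
      simp [pow_succ]
    have hg2 : g ^ 2 ∈ d.Q := by
      rw [← d.toHyp.sl_eq_one (pow_mem hg 2)]
      show d.toSL (⟨g, hg⟩ ^ 2) = 1
      rw [map_pow, show d.toSL ⟨g, hg⟩ = -1 from hsl]
      simp
    set u := g ^ 3
    have hu2 : u * u = 1 := by
      rw [← pow_add, show 3 + 3 = 2 * 3 from rfl, pow_mul, d.Q_exp _ hg2]
    have hu1 : u ≠ 1 := fun e => SLFive.neg_one_ne (by
      rw [← hsl3, d.toHyp.sl_eq_one]; show u ∈ d.Q; rw [e]; exact one_mem _)
    have hinv := d.toHyp.invol_inverts (pow_mem hg 3) hu2 hu1 hwQ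
    have hfix := (pow_mem hgN 3 : u ∈ N).2
    rw [inv_eq_of_mul_eq_one_right hu2] at hfix
    -- `w²` lies in `Z`
    have h := mul_mem hinv (inv_mem hfix)
    rw [show w * (u * w * u) * (u * w * u * w⁻¹)⁻¹ = w * w * (u * w * u) * (u * w * u)⁻¹ by
      have hcc : w * (u * w * u) = (u * w * u) * w := by
        have hq : u * w * u ∈ d.Q := by
          have := d.Q_norm u (d.L_norms u (pow_mem hg 3)) w hwQ
          rwa [inv_eq_of_mul_eq_one_right hu2] at this
        have hzc := d.Z_central _ hfix w (d.Q_le hwQ)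
        calc w * (u * w * u) = w * (u * w * u * w⁻¹) * w := by group
          _ = (u * w * u * w⁻¹) * w * w := by rw [hzc]
          _ = (u * w * u) * w := by group
      calc w * (u * w * u) * (u * w * u * w⁻¹)⁻¹ = w * (u * w * u) * w * (u * w * u)⁻¹ := by group
        _ = w * ((u * w * u) * w) * (u * w * u)⁻¹ := by group
        _ = w * (w * (u * w * u)) * (u * w * u)⁻¹ := by rw [hcc]
        _ = _ := by group, mul_inv_cancel_right] at h
    refine hwZ ?_
    have e4 : w = (w * w) * (w * w) := by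
      have h3 : w * w * w = 1 := by rw [← pow_three', d.Q_exp w hwQ]
      calc w = (w * w * w) * w := by rw [h3, one_mul]
        _ = _ := by group
    rw [e4]; exact mul_mem h h
  have hmul : ∀ (g k : G) (hg : g ∈ d.L) (hk : k ∈ d.L),
      d.toHyp.sl (g * k) (mul_mem hg hk) = d.toHyp.sl g hg * d.toHyp.sl k hk :=
    fun g k hg hk => d.toSL.map_mul ⟨g, hg⟩ ⟨k, hk⟩
  have hpow : ∀ (g : G) (hg : g ∈ d.L) (n : ℕ),
      d.toHyp.sl (g ^ n) (pow_mem hg n) = d.toHyp.sl g hg ^ n := fun g hg n => d.toSL.map_pow ⟨g, hg⟩ n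
  have hinvsl : ∀ (g : G) (hg : g ∈ d.L), d.toHyp.sl g⁻¹ (inv_mem hg) = (d.toHyp.sl g hg)⁻¹ :=
    fun g hg => d.toSL.map_inv ⟨g, hg⟩
  rcases SixExtra.two_threes _ (hcube _ hzL d.z2_three) hx1 _ (hcube _ hy2L hy23) hy1 with
    h | h | h | h | h | h | h | h
  rotate_left 2
  all_goals first
    | exact absurd ((hpow _ (mul_mem hzL hy2L) _).trans ((congrArg (· ^ _) (hmul _ _ hzL hy2L)).trans h))
        (hno _ _ (pow_mem (mul_mem hz2N hy2N) _))
    | exact absurd ((hpow _ (mul_mem hzL (inv_mem hy2L)) _).trans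
        ((congrArg (· ^ _) ((hmul _ _ hzL (inv_mem hy2L)).trans (by rw [hinvsl _ hy2L]))).trans h))
        (hno _ _ (pow_mem (mul_mem hz2N (inv_mem hy2N)) _))
    | skip
  all_goals
    have hz2' : c * d.z2 * c⁻¹ ∈ d.S := by
      have hcases : ∀ g : G, g ∈ d.S → ∀ hg : g ∈ d.L, d.toHyp.sl _ hy2L = d.toHyp.sl g hg →
          c * d.z2 * c⁻¹ ∈ d.S := by
        intro g hgS hg he
        have hq : g⁻¹ * (c * d.z2 * c⁻¹) ∈ d.Q := by
          rw [← d.toHyp.sl_eq_one (mul_mem (inv_mem hg) hy2L), hmul _ _ (inv_mem hg) hy2L, hinvsl _ hg,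
            he, inv_mul_cancel]
        have := mul_mem hgS (d.Q_le hq)
        rwa [mul_inv_cancel_left] at this
      first
        | exact hcases d.z2 (d.J_le d.z2_mem_J) hzL h
        | exact hcases d.z2⁻¹ (inv_mem (d.J_le d.z2_mem_J)) (inv_mem hzL) (h.trans (hinvsl _ hzL).symm)
    exact S_norms_of_gen d hcQ (d.J_le d.z2_mem_J) d.z2_not_Q hz2'

/-- The weight of a coordinate vector. -/
def wt (v : V3) : ℕ := (if v.1 = 0 then 0 else 1) + (if v.2.1 = 0 then 0 else 1) + (if v.2.2 = 0 then 0 else 1)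

theorem good_one : ∀ v : V3, wt v = 1 → ∀ i : ZMod 3, Good d (jc d (i, v)) := by
  intro v hv i
  rw [jc_fst]
  refine good_pw_mul d ?_ i
  have hr := Or.inl (act_r_yp d) (b := actJ d SixExtra.rbar d.yp = d.yp⁻¹)
  have ha : Good d (jc d (0, (1, 0, 0))) := by
    have : jc d (0, (1, 0, 0)) = d.ym := by simp [jc, jv, pw_zero, pw_one]
    rw [this]; exact good_ym d
  have hb : Good d (jc d (0, (0, 1, 0))) := by
    have := good_act d ha SixExtra.rbar hr
    rwa [act_r_jc] at this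
  have hc : Good d (jc d (0, (0, 0, 1))) := by
    have := good_act d hb SixExtra.rbar hr
    rwa [act_r_jc] at this
  have key : ∀ v : V3, wt v = 1 → v = (1, 0, 0) ∨ v = (0, 1, 0) ∨ v = (0, 0, 1) ∨
      v = -(1, 0, 0) ∨ v = -(0, 1, 0) ∨ v = -(0, 0, 1) := by decide
  have hneg : ∀ w : V3, Good d (jc d (0, w)) → Good d (jc d (0, -w)) := fun w hw => by
    rw [show ((0, -w) : ZMod 3 × V3) = -(0, w) by simp, jc_neg]
    exact good_inv d hw
  rcases key v hv with rfl | rfl | rfl | rfl | rfl | rfl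
  exacts [ha, hb, hc, hneg _ ha, hneg _ hb, hneg _ hc]

/-- A point of weight three is a conjugate of `z`. -/
theorem good_abc : Good d (jc d (0, (1, 1, 1))) := by
  set v := actJ d SixExtra.g0 d.z with hv
  have hvJ : v ∈ d.J := act_mem d _ d.z_mem_J
  have hfixP : ∀ a : Six.A6, Six.InP a → actJ d a d.z = d.z := by
    intro a ha
    obtain ⟨⟨m, hm⟩, hma⟩ := d.pi_surj a
    have hS : m ∈ d.S := (d.pi_S ⟨m, hm⟩).1 (hma.symm ▸ ha)
    rw [show a = d.img m hm from hma.symm, ← act_img d hm d.z_mem_J,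
      d.Z_central d.z d.z_mem m hS, mul_inv_cancel_right]
  have hpmN : ∀ a : Six.A6, Six.InN a → actJ d a d.z = d.z ∨ actJ d a d.z = d.z⁻¹ := by
    intro a ha
    have hn : Norms (lift d a) d.S := (d.norms_S_iff (lift_mem d a)).2 ((img_lift d a).symm ▸ ha)
    exact d.Z_cases (d.norms_Z_of_S hn) d.z_mem d.z_ne
  have hr : actJ d SixExtra.rbar v = v := by
    rw [hv, ← act_mul d _ _ d.z_mem_J, show SixExtra.rbar * SixExtra.g0 = SixExtra.g0 * (SixExtra.g0⁻¹ * SixExtra.rbar * SixExtra.g0) by group,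
      act_mul d _ _ d.z_mem_J, hfixP _ SixExtra.rbar_g0]
  obtain ⟨p, hp⟩ := jc_surj d hvJ
  rw [← hp, act_r_jc] at hr
  have hp' := jc_inj d hr
  obtain ⟨i, a, b, c⟩ := p
  simp only [Prod.mk.injEq, true_and] at hp'
  obtain ⟨rfl, rfl, -⟩ := hp'
  have hne : c ≠ 0 := by
    intro h0
    subst h0
    -- then `t` would fix the point
    refine SixExtra.t_g0 ?_
    have hfix : actJ d (SixExtra.g0⁻¹ * Six.tbar * SixExtra.g0) d.z = d.z := by
      rw [act_mul d _ _ d.z_mem_J, ← hv, act_mul d _ _ hvJ]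
      conv_lhs => rw [← hp, act_t_jc]
      simp only [neg_zero]
      rw [hp, hv, ← act_mul d _ _ d.z_mem_J, inv_mul_cancel, act_one d d.z_mem_J]
    rw [← img_lift d (SixExtra.g0⁻¹ * Six.tbar * SixExtra.g0), ← d.norms_S_iff (lift_mem d _)]
    refine (d.norms_Z_iff (d.M_norms _ (lift_mem d _))).1 fun x hx => ?_
    rw [← d.zpowers_z] at hx ⊢
    obtain ⟨n, rfl⟩ := hx
    rw [← conj_zpow]
    exact ⟨n, congrArg (· ^ n) hfix.symm⟩
  have hi : i = 0 := by
    have h1 : actJ d Six.ebar v = actJ d (Six.tbar * Six.wbar) v ∨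
        actJ d Six.ebar v = (actJ d (Six.tbar * Six.wbar) v)⁻¹ := by
      have he : Six.ebar * SixExtra.g0 = Six.tbar * Six.wbar * SixExtra.g0 * ((Six.tbar * Six.wbar * SixExtra.g0)⁻¹ * (Six.ebar * SixExtra.g0)) := by
        group
      rw [hv, ← act_mul d _ _ d.z_mem_J, he, act_mul d _ _ d.z_mem_J, ← act_mul d _ _ d.z_mem_J]
      rcases hpmN _ SixExtra.e_g0 with h | h
      · left; rw [act_mul d _ _ d.z_mem_J, h]; exact act_mul d _ _ d.z_mem_J
      · right; rw [act_mul d _ _ d.z_mem_J, h, act_inv]; exact congrArg (·⁻¹) (act_mul d _ _ d.z_mem_J)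
    rw [← hp, act_e_jc, act_mul d _ _ (jc_J d _), act_s_jc, act_t_jc, ← jc_neg] at h1
    rcases h1 with h1 | h1
    · exact (by decide : ∀ i c : ZMod 3, ((-i, (-c, -c, c)) : ZMod 3 × V3) = (i, (-c, -c, - -c)) → i = 0) i c
        (jc_inj d h1)
    · exact absurd ((by decide : ∀ i c : ZMod 3,
        ((-i, (-c, -c, c)) : ZMod 3 × V3) = -(i, (-c, -c, - -c)) → c = 0) i c (jc_inj d h1)) hne
  subst hi
  have hgood : Good d v := by
    intro x hy hx
    obtain ⟨g, hg⟩ : ∃ g, lift d SixExtra.g0 = g := ⟨_, rfl⟩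
    have hact : v = g * d.z * g⁻¹ := by rw [hv, actJ, hg]
    have hgJ : Norms g d.J := d.M_norms g (hg ▸ lift_mem d _)
    have hw : g⁻¹ * d.yp * g ∈ d.J := by simpa using hgJ.inv _ d.yp_J
    have hwZ : g⁻¹ * d.yp * g ∉ d.Z := by
      intro hmem
      rw [← d.zpowers_z] at hmem
      rcases pow_three_cases d.z_three hmem with h | h | h
      · exact yp_ne d (by simpa [mul_assoc, inv_mul_eq_iff_eq_mul] using h)
      · have h2 : d.yp = v := by rw [hact, ← h]; group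
        rw [← hp, ← show jc d (1, 0) = d.yp by rw [jc_mem_Y, pw_one]] at h2
        exact hne (Prod.ext_iff.1 (Prod.ext_iff.1 (jc_inj d h2)).2).1.symm
      · have h2 : d.yp = v⁻¹ := by
          calc d.yp = g * (g⁻¹ * d.yp * g) * g⁻¹ := by group
            _ = g * d.z⁻¹ * g⁻¹ := by rw [h]
            _ = v⁻¹ := by rw [hact]; group
        rw [← hp, ← show jc d (1, 0) = d.yp by rw [jc_mem_Y, pw_one], ← jc_neg] at h2
        have h3 := (Prod.ext_iff.1 (Prod.ext_iff.1 (jc_inj d h2)).2).1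
        exact hne (neg_eq_zero.1 h3.symm)
    have h' := cent_z_norms d (c := g⁻¹ * x * g) ?_ hw hwZ ?_
    · have := (hgJ.mul h').mul hgJ.inv
      rwa [show g * (g⁻¹ * x * g) * g⁻¹ = x by group] at this
    · calc g⁻¹ * x * g * d.z = g⁻¹ * (x * v) * g := by rw [hact]; group
        _ = g⁻¹ * (v * x) * g := by rw [hx]
        _ = d.z * (g⁻¹ * x * g) := by rw [hact]; group
    · calc g⁻¹ * x * g * (g⁻¹ * d.yp * g) = g⁻¹ * (x * d.yp) * g := by group
        _ = g⁻¹ * (d.yp * x) * g := by rw [hy]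
        _ = g⁻¹ * d.yp * g * (g⁻¹ * x * g) := by group
  rw [← hp] at hgood
  rcases (by decide : ∀ q : ZMod 3, q ≠ 0 → q = 1 ∨ q = -1) c hne with rfl | rfl
  · exact hgood
  · rw [← inv_inv (jc d (0, (1, 1, 1))), ← jc_neg]
    refine good_inv d ?_
    rwa [show (-(0, (1, 1, 1)) : ZMod 3 × V3) = (0, (-1, -1, -1)) by simp]

theorem good_three : ∀ v : V3, wt v = 3 → ∀ i : ZMod 3, Good d (jc d (i, v)) := by
  intro v hv i
  rw [jc_fst]
  refine good_pw_mul d ?_ i
  have h0 := good_abc d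
  have ht := good_act d h0 _ (Or.inl (act_t_yp d))
  have hs := good_act d h0 _ (Or.inl (act_s_yp d))
  have hts := good_act d hs _ (Or.inl (act_t_yp d))
  rw [act_t_jc] at ht
  rw [act_s_jc] at hs hts
  rw [act_t_jc] at hts
  have hneg : ∀ w : V3, Good d (jc d (0, w)) → Good d (jc d (0, -w)) := fun w hw => by
    rw [show ((0, -w) : ZMod 3 × V3) = -(0, w) by simp, jc_neg]
    exact good_inv d hw
  have key : ∀ v : V3, wt v = 3 → v = (1, 1, 1) ∨ v = (1, -1, -1) ∨ v = (-1, 1, -1) ∨ v = (-1, -1, - -1) ∨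
      v = -(1, 1, 1) ∨ v = -(1, -1, -1) ∨ v = -(-1, 1, -1) ∨ v = -(-1, -1, - -1) := by decide
  rcases key v hv with rfl | rfl | rfl | rfl | rfl | rfl | rfl | rfl
  exacts [h0, ht, hs, hts, hneg _ h0, hneg _ ht, hneg _ hs, hneg _ hts]

end Cfsg.Agent.Lib.McL3NonSing87
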