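import Cfsg.Agent.Lib.McL3NonSing87.Frame
import Cfsg.Agent.Lib.McL3NonSing87.Good
import Cfsg.Agent.Lib.PLocal.CoprimeGen
import Cfsg.Agent.Lib.SmithTyrer56.Main

/-!
# Centralisers and fusion of the elements of `J` in `C(y)`

No subgroup of `C(y)` of order prime to three is normalised by `J`; the centraliser in `C(y)` of an
element of `J` outside `⟨y⟩` normalises `J`; the elements of `N(J) ∩ C(y)` with a power of that kind
are fused only inside the normaliser.
-/

set_option autoImplicit false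
set_option linter.style.haveILetI false
set_option synthInstance.maxSize 4000
set_option synthInstance.maxHeartbeats 200000

namespace Cfsg.Agent.Lib.McL3NonSing87

open Subgroup
open Cfsg.Agent.Lib.McL3Local35
open Model (Vec hf hm hi)

variable {G : Type*} [Group G] [Finite G] (d : Std G)

theorem pair_good : ∀ v w : Vec, v ≠ 0 → w ≠ 0 → v ≠ w → v ≠ -w →
    wt v = 1 ∨ wt v = 3 ∨ wt w = 1 ∨ wt w = 3 ∨ wt (v + w) = 1 ∨ wt (v + w) = 3 ∨
      wt (v - w) = 1 ∨ wt (v - w) = 3 := by
  decide +kernel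

theorem stab_w : ∀ h : Fin 24, hf h (0, 1, 1) = (0, 1, 1) → h = 0 ∨ h = 15 := by decide +kernel

theorem refl_add : ∀ i a b c : ZMod 3,
    ((i + i, (0, b + c, b + c)) : ZMod 3 × Vec) = (i, (a, b, c)) + (i, hf 15 (a, b, c)) := by
  decide +kernel

theorem refl_axis : ∀ k e : ZMod 3,
    ((k, (0, e, e)) : ZMod 3 × Vec) ≠ -(0, hf 15 (1, 0, 0)) + (0, (1, 0, 0)) := by
  decide +kernel

theorem not_cyclic_aux : ∀ a b c k e k' e' : ZMod 3,
    1 = k * a → 0 = k * b + e → 0 = k * c + e → 0 = k' * a → 1 = k' * b + e' → 0 = k' * c + e' → False := by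
  decide +kernel

theorem three_zmod : ∀ q : ZMod 3, q = 0 ∨ q = 1 ∨ q = -1 := by decide +kernel

theorem refl_fix : ∀ b : ZMod 3, hf 15 (0, b, b) = (0, b, b) := by decide +kernel

theorem axis_ne : (0 : ZMod 3) ≠ 1 := by decide +kernel

theorem axis_not_two : ∀ h : Fin 24, ∀ b : ZMod 3, hf h (0, b, b) = (1, 0, 0) → b = 0 := by decide +kernel

theorem four_t : ∀ h : Fin 24, hm h 1 = hm 1 h → hm (hm (hm h h) h) h = 0 := by decide +kernel

theorem pow_twelve_model : ∀ h : Fin 24, (fun x => hm x h)^[12] 0 = 0 := by decide +kernel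

/-- If a conjugate of `J` normalises `J`, the conjugating element normalises `J`. -/
theorem norms_of_conj {x : G} (h : ∀ j ∈ d.J, Norms (x * j * x⁻¹) d.J) : Norms x d.J := by
  haveI : Fact (Nat.Prime 3) := ⟨Nat.prime_three⟩
  have hJp : IsPGroup 3 d.J := d.toHyp.isPGroup_S.to_le d.J_le
  set U := d.J.map (MulAut.conj x).toMonoidHom with hU
  have hUn : U ≤ normalizer (d.J : Set G) := by
    rintro _ ⟨j, hj, rfl⟩
    exact (h j hj).mem_normalizer
  have hp : IsPGroup 3 (U ⊔ d.J : Subgroup G) :=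
    IsPGroup.to_sup_of_normal_right' (hJp.map _) hJp hUn
  obtain ⟨g, hg⟩ := d.S_sylow _ hp
  have hgJ := d.toHyp.conj_eq_J fun j hj => hg j (mem_sup_right hj)
  have hgx := d.toHyp.conj_eq_J (g := g * x) fun j hj => by
    have h1 := hg (x * j * x⁻¹) (mem_sup_left ⟨j, hj, rfl⟩)
    rwa [show g * x * j * (g * x)⁻¹ = g * (x * j * x⁻¹) * g⁻¹ by group]
  have h2 := hgJ.inv.mul hgx
  rwa [inv_mul_cancel_left] at h2

/-- Two elements of `J`, one of them with centraliser in `N(J)`, are fused in `C(y)` only by elements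
normalising `J`. -/
theorem norms_of_fused {x j : G} (hxy : x * d.yp = d.yp * x) (hj : Good d j)
    (hj' : x * j * x⁻¹ ∈ d.J) : Norms x d.J := by
  have h : Norms x⁻¹ d.J := norms_of_conj d fun a ha => by
    have hca := d.J_comm a ha _ hj'
    refine hj _ ?_ ?_
    · have hc1 : Commute x⁻¹ d.yp := (show Commute x d.yp from hxy).inv_left
      have hc2 : Commute a d.yp := d.J_comm a ha _ d.yp_J
      exact ((hc1.mul_left hc2).mul_left hc1.inv_left).eq
    · calc x⁻¹ * a * x⁻¹⁻¹ * j = x⁻¹ * (a * (x * j * x⁻¹)) * x := by group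
        _ = x⁻¹ * ((x * j * x⁻¹) * a) * x := by rw [hca]
        _ = j * (x⁻¹ * a * x⁻¹⁻¹) := by group
  simpa using h.inv

theorem good_wt : ∀ v : Vec, (wt v = 1 ∨ wt v = 3) → ∀ i : ZMod 3, Good d (jc d (i, v)) := by
  intro v hv i
  rcases hv with h | h
  exacts [good_one d v h i, good_three d v h i]

/-- A subgroup of `C(y)` of order prime to three normalised by `J` is trivial. -/
theorem signalizer {U : Subgroup G} (hy : ∀ u ∈ U, u * d.yp = d.yp * u)
    (h3 : ¬ 3 ∣ Nat.card U) (hJ : ∀ j ∈ d.J, Norms j U) : U = ⊥ := by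
  haveI : Fact (Nat.Prime 3) := ⟨Nat.prime_three⟩
  have hcop : (Nat.card U).Coprime 3 := ((Nat.prime_three.coprime_iff_not_dvd).2 h3).symm
  have hUJ : ∀ x ∈ U, x ∈ d.J → x = 1 := fun x hxU hxJ => by
    rw [← orderOf_eq_one_iff]
    refine Nat.eq_one_of_dvd_coprimes hcop (Subgroup.orderOf_dvd_natCard U hxU) ?_
    exact orderOf_dvd_of_pow_eq_one (d.J_exp x hxJ)
  have hnorm : ∀ u ∈ U, Norms u d.J → u = 1 := by
    intro u hu hn
    refine hUJ u hu (d.toHyp.cent_J fun j hj => ?_)
    have h1 : u * j * u⁻¹ * j⁻¹ ∈ d.J := mul_mem (hn j hj) (inv_mem hj)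
    have h2 : u * j * u⁻¹ * j⁻¹ ∈ U := by
      rw [show u * j * u⁻¹ * j⁻¹ = u * (j * u⁻¹ * j⁻¹) by group]
      exact mul_mem hu (hJ j hj _ (inv_mem hu))
    exact mul_inv_eq_iff_eq_mul.1 (mul_inv_eq_one.1 (hUJ _ h2 h1))
  let A : Subgroup G :=
    { carrier := {g | ∃ v : Vec, jc d (0, v) = g}
      one_mem' := ⟨0, by rw [show ((0, 0) : ZMod 3 × Vec) = 0 from rfl, jc_zero]⟩
      mul_mem' := by
        rintro _ _ ⟨v, rfl⟩ ⟨w, rfl⟩
        exact ⟨v + w, by rw [← jc_add]; simp⟩
      inv_mem' := by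
        rintro _ ⟨v, rfl⟩
        exact ⟨-v, by rw [← jc_neg]; simp⟩ }
  have hAJ : ∀ a ∈ A, a ∈ d.J := by rintro _ ⟨v, rfl⟩; exact jc_J d _
  have hA : Cfsg.IsElementaryAbelian 3 A :=
    ⟨⟨⟨fun a b => Subtype.ext (d.J_comm _ (hAJ a a.2) _ (hAJ b b.2))⟩⟩, fun a ha => d.J_exp _ (hAJ a ha)⟩
  have hAcard : Nat.card A = 27 := by
    let f : Vec → A := fun v => ⟨jc d (0, v), v, rfl⟩
    have hf : Function.Bijective f := ⟨fun v w h => (Prod.ext_iff.1 (jc_inj d (congrArg Subtype.val h))).2,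
      fun a => by obtain ⟨v, hv⟩ := a.2; exact ⟨v, Subtype.ext hv⟩⟩
    rw [← Nat.card_congr (Equiv.ofBijective f hf), Nat.card_eq_fintype_card]
    simp
  have hAU : A ≤ normalizer (U : Set G) := fun a ha => (hJ a (hAJ a ha)).mem_normalizer
  rw [eq_bot_iff]
  refine le_trans (PLocal.le_iSup_fixOn_hyperplane hA hAU hcop) (iSup_le fun ⟨B, hBA, hBi⟩ => ?_)
  intro x hx
  rw [PLocal.mem_fixOn] at hx
  obtain ⟨hxU, hxB⟩ := hx
  rw [Subgroup.mem_bot]
  refine hnorm x hxU ?_
  -- `B` contains an element of weight one or three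
  have h9 : 9 ≤ Nat.card B := by
    have h1 := Hyp.card_mul_relIndex hBA
    rw [hAcard] at h1
    by_contra hlt
    push Not at hlt
    have := Nat.mul_le_mul (Nat.le_sub_one_of_lt hlt) hBi
    omega
  obtain ⟨v, hv, hgood⟩ : ∃ v : Vec, jc d (0, v) ∈ B ∧ (wt v = 1 ∨ wt v = 3) := by
    by_contra hno
    push Not at hno
    have hadd : ∀ v w : Vec, jc d (0, v) ∈ B → jc d (0, w) ∈ B →
        jc d (0, v + w) ∈ B ∧ jc d (0, v - w) ∈ B := fun v w hv hw => by
      refine ⟨?_, ?_⟩
      · rw [show ((0, v + w) : ZMod 3 × Vec) = (0, v) + (0, w) by simp, jc_add]; exact mul_mem hv hw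
      · rw [show ((0, v - w) : ZMod 3 × Vec) = (0, v) + -(0, w) by simp [sub_eq_add_neg], jc_add, jc_neg]
        exact mul_mem hv (inv_mem hw)
    have hsmall : Nat.card B ≤ 3 := by
      by_cases hB : ∀ b ∈ B, b = 1
      · rw [(B.eq_bot_iff_forall).2 hB]; simp
      push Not at hB
      classical
      obtain ⟨b, hb, hb1⟩ := hB
      obtain ⟨v, rfl⟩ := hBA hb
      have hv0 : v ≠ 0 := fun e => hb1 (by rw [e, show ((0, 0) : ZMod 3 × Vec) = 0 from rfl, jc_zero])
      have hall : ∀ x : B, (x : G) ∈ ({1, jc d (0, v), jc d (0, -v)} : Finset G) := by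
        intro x
        obtain ⟨w, hw⟩ := hBA x.2
        have hwB : jc d (0, w) ∈ B := hw ▸ x.2
        simp only [Finset.mem_insert, Finset.mem_singleton, ← hw]
        by_cases hw0 : w = 0
        · left; rw [hw0, show ((0, 0) : ZMod 3 × Vec) = 0 from rfl, jc_zero]
        by_cases e1 : v = w
        · exact Or.inr (Or.inl (by rw [e1]))
        by_cases e2 : v = -w
        · exact Or.inr (Or.inr (by rw [e2, neg_neg]))
        exfalso
        obtain ⟨hp, hm'⟩ := hadd v w hb hwB
        rcases pair_good v w hv0 hw0 e1 e2 with h | h | h | h | h | h | h | h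
        exacts [(hno v hb).1 h, (hno v hb).2 h, (hno w hwB).1 h, (hno w hwB).2 h, (hno _ hp).1 h,
          (hno _ hp).2 h, (hno _ hm').1 h, (hno _ hm').2 h]
      have := Nat.card_le_card_of_injective
        (fun x : B => (⟨(x : G), hall x⟩ : ({1, jc d (0, v), jc d (0, -v)} : Finset G)))
        (fun a b h => Subtype.ext (congrArg Subtype.val h :))
      exact this.trans (le_trans (le_of_eq (Nat.card_eq_finsetCard _)) Finset.card_le_three)
    omega
  exact good_wt d v hgood 0 x (hy x hxU) (hxB _ hv).symm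

/-- Conjugation by `N(J) ∩ C(y)` preserves good elements. -/
theorem good_conj {g v : G} (hg : g ∈ NN d) (h : Good d v) : Good d (g * v * g⁻¹) := by
  intro c hy hc
  have hgy : Commute g d.yp := hg.1
  have h1 := h (g⁻¹ * c * g) ((hgy.inv_left.mul_left (show Commute c d.yp from hy)).mul_left hgy).eq (by
    calc g⁻¹ * c * g * v = g⁻¹ * (c * (g * v * g⁻¹)) * g := by group
      _ = g⁻¹ * ((g * v * g⁻¹) * c) * g := by rw [hc]
      _ = v * (g⁻¹ * c * g) := by group)
  have := (hg.2.mul h1).mul hg.2.inv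
  rwa [show g * (g⁻¹ * c * g) * g⁻¹ = c by group] at this

/-- The elements `y^i w^b` for `w` of weight two. -/
def Zw : Subgroup G where
  carrier := {g | ∃ i b : ZMod 3, jc d (i, (0, b, b)) = g}
  one_mem' := ⟨0, 0, by rw [show ((0, (0, 0, 0)) : ZMod 3 × Vec) = 0 from rfl, jc_zero]⟩
  mul_mem' := by
    rintro _ _ ⟨i, b, rfl⟩ ⟨k, c, rfl⟩
    exact ⟨i + k, b + c, by rw [← jc_add]; simp⟩
  inv_mem' := by
    rintro _ ⟨i, b, rfl⟩
    exact ⟨-i, -b, by rw [← jc_neg]; simp⟩

theorem Zw_card : Nat.card (Zw d) = 9 := by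
  let f : ZMod 3 × ZMod 3 → Zw d := fun p => ⟨jc d (p.1, (0, p.2, p.2)), p.1, p.2, rfl⟩
  have hf : Function.Bijective f := ⟨fun p q h => by
    have := jc_inj d (congrArg Subtype.val h)
    simp only [Prod.mk.injEq] at this
    exact Prod.ext this.1 this.2.2.1,
    fun a => by obtain ⟨i, b, h⟩ := a.2; exact ⟨(i, b), Subtype.ext h⟩⟩
  rw [← Nat.card_congr (Equiv.ofBijective f hf), Nat.card_eq_fintype_card]
  simp

theorem Zw_le_J : Zw d ≤ d.J := by rintro _ ⟨i, b, rfl⟩; exact jc_J d _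

theorem Zw_comm {g : G} (hy : g * d.yp = d.yp * g)
    (hw : g * jc d (0, (0, 1, 1)) = jc d (0, (0, 1, 1)) * g) : ∀ z ∈ Zw d, g * z = z * g := by
  rintro _ ⟨i, b, rfl⟩
  rw [jc_fst]
  refine ((show Commute g d.yp from hy).pow_right i.val).mul_right ?_
  rcases three_zmod b with rfl | rfl | rfl
  · rw [show ((0, (0, 0, 0)) : ZMod 3 × Vec) = 0 from rfl, jc_zero]; exact Commute.one_right g
  · exact hw
  · rw [show ((0, (0, -1, -1)) : ZMod 3 × Vec) = -(0, (0, 1, 1)) by simp, jc_neg]
    exact (show Commute g _ from hw).inv_right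

/-- An element of three-power order with some small power in `J` lies in `J`. -/
theorem mem_J_of_pow {g : G} {m : ℕ} (hg : ∃ k : ℕ, orderOf g = 3 ^ k) (hm : m.Coprime 3)
    (hgm : g ^ m ∈ d.J) : g ∈ d.J := by
  obtain ⟨k, hk⟩ := hg
  have hco : (orderOf g).Coprime m := by rw [hk]; exact (hm.pow_right k).symm
  obtain ⟨a, ha⟩ := exists_pow_eq_self_of_coprime hco.symm
  rw [← ha]
  exact pow_mem hgm a

/-- The centraliser in `C(y)` of a particular point of weight two normalises `J`. -/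
theorem good_two_aux : Good d (jc d (0, (0, 1, 1))) := by
  haveI : Fact (Nat.Prime 3) := ⟨Nat.prime_three⟩
  obtain ⟨u, hcase⟩ : ∃ u : G, d.CaseA ∨ d.IsU u := by
    rcases d.cases with h | ⟨u, h⟩
    exacts [⟨1, Or.inl h⟩, ⟨u, Or.inr h⟩]
  set w := jc d (0, (0, 1, 1)) with hw
  let Y : Subgroup G := centralizer ({d.yp, w} : Set G)
  have memY : ∀ {g : G}, g ∈ Y ↔ g * d.yp = d.yp * g ∧ g * w = w * g := fun {g} => by
    show g ∈ centralizer _ ↔ _
    rw [Subgroup.mem_centralizer_iff]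
    constructor
    · exact fun h => ⟨(h _ (Or.inl rfl)).symm, (h _ (Or.inr rfl)).symm⟩
    · rintro ⟨h1, h2⟩ x (rfl | rfl)
      exacts [h1.symm, h2.symm]
  have hJY : d.J ≤ Y := fun j hj => memY.2 ⟨d.J_comm j hj _ d.yp_J, d.J_comm j hj _ (jc_J d _)⟩
  have hstab : ∀ g ∈ Y, Norms g d.J → g ∈ d.J ∨ Acts d g 15 := by
    intro g hg hn
    obtain ⟨h, -, hA⟩ := exists_acts d hcase ⟨(memY.1 hg).1, hn⟩
    have hv : hf h (0, 1, 1) = (0, 1, 1) := by
      have h1 := hA 0 (0, 1, 1)
      rw [← hw, (memY.1 hg).2, mul_inv_cancel_right] at h1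
      exact (Prod.ext_iff.1 (jc_inj d (hw ▸ h1))).2.symm
    rcases stab_w h hv with rfl | rfl
    exacts [Or.inl (hA.mem_J d), Or.inr hA]
  set J' := d.J.subgroupOf Y with hJ'
  have hJp : IsPGroup 3 J' := (d.toHyp.isPGroup_S.to_le d.J_le).comap_subtype
  obtain ⟨P, hP⟩ := hJp.exists_le_sylow
  have hPJ : (P : Subgroup Y) = J' := by
    refine le_antisymm ?_ hP
    by_contra hne
    have hlt : J'.subgroupOf P < ⊤ := lt_of_le_of_ne le_top fun h => hne (subgroupOf_eq_top.1 h)
    haveI : Group.IsNilpotent (P : Subgroup Y) := P.isPGroup'.isNilpotent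
    obtain ⟨⟨g, hgP⟩, hgn, hgJ⟩ := SetLike.exists_of_lt
      (Group.normalizerCondition_of_isNilpotent (G := (P : Subgroup Y)) _ hlt)
    have hn : Norms (g : G) d.J := fun j hj => by
      have h1 := (Subgroup.mem_normalizer_iff.1 hgn ⟨⟨j, hJY hj⟩, hP hj⟩).1 (show (⟨j, hJY hj⟩ : Y) ∈ J' from hj)
      exact h1
    have h3 : ∃ k : ℕ, orderOf (g : G) = 3 ^ k := by
      obtain ⟨k, hk⟩ := P.isPGroup' ⟨g, hgP⟩
      have hk' : (g : G) ^ 3 ^ k = 1 := by
        simpa using congrArg (fun x : (P : Subgroup Y) => ((x : Y) : G)) hk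
      obtain ⟨i, -, hi⟩ := (Nat.dvd_prime_pow Nat.prime_three).1 (orderOf_dvd_of_pow_eq_one hk')
      exact ⟨i, hi⟩
    refine hgJ ?_
    show (g : G) ∈ d.J
    rcases hstab g g.2 hn with h | h
    · exact h
    · refine mem_J_of_pow d h3 (m := 2) (by norm_num) ?_
      rw [pow_two]
      exact Acts.mem_J d (by simpa [show hm 15 15 = 0 by decide +kernel] using h.mul d h)
  have hfin : ∀ g ∈ Y, Norms g d.J := by
    by_cases hr : ∃ n ∈ Y, Acts d n 15
    swap
    · -- the normaliser centralises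
      have hq : normalizer ((P : Subgroup Y) : Set Y) ≤ centralizer ((P : Subgroup Y) : Set Y) := by
        intro g hg
        rw [hPJ] at hg ⊢
        have hn : Norms (g : G) d.J := fun j hj =>
          (Subgroup.mem_normalizer_iff.1 hg ⟨j, hJY hj⟩).1 (show (⟨j, hJY hj⟩ : Y) ∈ J' from hj)
        refine Subgroup.mem_centralizer_iff.2 fun x hx => Subtype.ext ?_
        rcases hstab g g.2 hn with h | h
        · exact d.J_comm _ hx _ h
        · exact absurd ⟨_, g.2, h⟩ hr
      obtain ⟨hmem, hcard⟩ := SmithTyrer56.core_of_norm_central P hq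
      set K := Cfsg.pPrimeCore 3 Y
      have hU : K.map Y.subtype = ⊥ := by
        refine signalizer d ?_ ?_ ?_
        · rintro _ ⟨k, -, rfl⟩; exact (memY.1 k.2).1
        · rw [Subgroup.card_map_of_injective Y.subtype_injective]
          intro h
          obtain ⟨x, hx⟩ := exists_prime_orderOf_dvd_card' 3 h
          exact (hmem x).1 x.2 (by rw [Subgroup.orderOf_coe, hx])
        · rintro j hj _ ⟨k, hk, rfl⟩
          refine ⟨⟨j, hJY hj⟩ * k * ⟨j, hJY hj⟩⁻¹, ?_, rfl⟩
          rw [SetLike.mem_coe, hmem, show orderOf (⟨j, hJY hj⟩ * k * ⟨j, hJY hj⟩⁻¹) = orderOf k from (MulAut.conj (⟨j, hJY hj⟩ : Y)).orderOf_eq k]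
          exact (hmem k).1 hk
      rw [Subgroup.map_eq_bot_iff_of_injective _ Y.subtype_injective] at hU
      rw [hU, Subgroup.card_bot, one_mul] at hcard
      have htop := Subgroup.eq_top_of_card_eq _ hcard
      intro g hg
      exact Norms.of_mem (show g ∈ d.J from by
        have h1 : (⟨g, hg⟩ : Y) ∈ (P : Subgroup Y) := htop ▸ Subgroup.mem_top _
        rwa [hPJ] at h1)
    · obtain ⟨n, hnY, hn⟩ := hr
      set Zc := (Zw d).subgroupOf Y with hZc
      have hZY : Zw d ≤ Y := (Zw_le_J d).trans hJY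
      have hcen : ∀ z ∈ Zc, ∀ g : Y, g * z = z * g := fun z hz g =>
        Subtype.ext (Zw_comm d (memY.1 g.2).1 (memY.1 g.2).2 _ hz)
      haveI : Zc.Normal := ⟨fun z hz g => by rw [hcen z hz g, mul_inv_cancel_right]; exact hz⟩
      have hπ := QuotientGroup.mk'_surjective Zc
      set π := QuotientGroup.mk' Zc with hπdef
      set Pb := P.mapSurjective hπ with hPb
      have hPbmem : ∀ g : Y, π g ∈ (Pb : Subgroup (Y ⧸ Zc)) ↔ (g : G) ∈ d.J := by
        intro g
        rw [hPb, Sylow.coe_mapSurjective, hPJ]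
        constructor
        · rintro ⟨x, hx, he⟩
          have h1 : x⁻¹ * g ∈ Zc := QuotientGroup.eq.1 he
          have h2 := mul_mem (show (x : G) ∈ d.J from hx) (Zw_le_J d h1)
          simpa using h2
        · exact fun h => ⟨g, h, rfl⟩
      have hpm : ∀ g : Y, Norms (g : G) d.J →
          (∀ j : Y, (j : G) ∈ d.J → π g * π j * (π g)⁻¹ = π j) ∨
            ∀ j : Y, (j : G) ∈ d.J → π g * π j * (π g)⁻¹ = (π j)⁻¹ := by
        intro g hg
        rcases hstab g g.2 hg with h | h
        · left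
          intro j hj
          rw [← map_mul, ← map_inv, ← map_mul]
          congr 1
          exact Subtype.ext (by
            show (g : G) * j * (g : G)⁻¹ = j
            rw [d.J_comm _ h _ hj, mul_inv_cancel_right])
        · right
          intro j hj
          rw [← map_mul, ← map_inv, ← map_mul, ← map_inv, hπdef, QuotientGroup.mk'_apply,
            QuotientGroup.mk'_apply, QuotientGroup.eq]
          obtain ⟨⟨i, a, b, c⟩, hp⟩ := jc_surj d hj
          show ((g : G) * j * (g : G)⁻¹)⁻¹ * (j : G)⁻¹ ∈ Zw d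
          rw [← mul_inv_rev, inv_mem_iff, ← hp, h i (a, b, c), ← jc_add]
          refine ⟨i + i, b + c, ?_⟩
          congr 1
          exact refl_add i a b c
      have hset : SmithTyrer56.Setting Pb := by
        refine ⟨by norm_num, ?_, ?_, ?_, ?_, ?_⟩
        · intro x hx y hy
          obtain ⟨x, rfl⟩ := hπ x
          obtain ⟨y, rfl⟩ := hπ y
          rw [← map_mul, ← map_mul]
          exact congrArg π (Subtype.ext (d.J_comm _ ((hPbmem x).1 hx) _ ((hPbmem y).1 hy)))
        · intro hcyc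
          obtain ⟨⟨x, hx⟩, hgen⟩ := hcyc.exists_generator
          obtain ⟨x, rfl⟩ := hπ x
          obtain ⟨⟨i, a, b, c⟩, hp⟩ := jc_surj d ((hPbmem x).1 hx)
          have hpick : ∀ p : Vec, ∃ k : ℤ, π x ^ k = π ⟨jc d (0, p), hJY (jc_J d _)⟩ := fun p => by
            obtain ⟨k, hk⟩ := hgen ⟨π ⟨jc d (0, p), hJY (jc_J d _)⟩, (hPbmem _).2 (jc_J d _)⟩
            exact ⟨k, congrArg Subtype.val hk⟩
          -- the images of `(1,0,0)` and `(0,1,0)` would be powers of one element of order three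
          have hx3 : π x ^ 3 = 1 := by
            rw [← map_pow, show x ^ 3 = 1 from Subtype.ext (by simpa using d.J_exp _ ((hPbmem x).1 hx)), map_one]
          have hval : ∀ p : Vec, ∃ k : ZMod 3, ∃ j e : ZMod 3,
              ((0, p) : ZMod 3 × Vec) = (j, (k * a, k * b + e, k * c + e)) := by
            intro p
            obtain ⟨k, hk⟩ := hpick p
            refine ⟨(k : ZMod 3), ?_⟩
            rcases (by omega : k % 3 = 0 ∨ k % 3 = 1 ∨ k % 3 = 2) with hk' | hk' | hk'
            all_goals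
              rw [← Int.ediv_mul_add_emod k 3, zpow_add, mul_comm (k / 3), zpow_mul, zpow_ofNat, hx3, one_zpow,
                one_mul, hk'] at hk
              have hcast : ((k : ℤ) : ZMod 3) = ((k % 3 : ℤ) : ZMod 3) := (ZMod.intCast_mod k 3).symm
              rw [hk'] at hcast
            · rw [zpow_zero, ← map_one π, hπdef, QuotientGroup.mk'_apply, QuotientGroup.mk'_apply,
                QuotientGroup.eq] at hk
              obtain ⟨j, e, he⟩ := hk
              have he' : jc d (j, (0, e, e)) = jc d (0, p) := by simpa using he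
              exact ⟨j, e, by rw [← jc_inj d he', hcast]; simp⟩
            · rw [zpow_one, hπdef, QuotientGroup.mk'_apply, QuotientGroup.mk'_apply, QuotientGroup.eq] at hk
              obtain ⟨j, e, he⟩ := hk
              have he' : jc d (i, (a, b, c)) * jc d (j, (0, e, e)) = jc d (0, p) := by
                rw [he, hp]; simp
              rw [← jc_add] at he'
              exact ⟨i + j, e, by rw [← jc_inj d he', hcast]; simp⟩
            · rw [show (2 : ℤ) = ((2 : ℕ) : ℤ) from rfl, zpow_natCast, ← map_pow, hπdef,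
                QuotientGroup.mk'_apply, QuotientGroup.mk'_apply, QuotientGroup.eq] at hk
              obtain ⟨j, e, he⟩ := hk
              have he' : jc d (i, (a, b, c)) * jc d (i, (a, b, c)) * jc d (j, (0, e, e)) = jc d (0, p) := by
                rw [he, hp]; simp [pow_two]; group
              rw [← jc_add, ← jc_add] at he'
              refine ⟨i + i + j, e, ?_⟩
              rw [← jc_inj d he', hcast]
              simp [two_mul]
          obtain ⟨k, j, e, h1⟩ := hval (1, 0, 0)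
          obtain ⟨k', j', e', h2⟩ := hval (0, 1, 0)
          simp only [Prod.mk.injEq] at h1 h2
          exact not_cyclic_aux a b c k e k' e' h1.2.1 h1.2.2.1 h1.2.2.2 h2.2.1 h2.2.2.1 h2.2.2.2
        · -- the core
          set C := Cfsg.pPrimeCore 3 (Y ⧸ Zc)
          haveI : C.Normal := Cfsg.pPrimeCore_normal 3 _
          set K := C.comap π with hK
          haveI : K.Normal := inferInstance
          have hCcop : ¬ 3 ∣ Nat.card C := Cores.not_dvd_card_pPrimeCore 3
          have hZK : Zc ≤ K := fun z hz => by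
            show π z ∈ C
            rw [hπdef, QuotientGroup.mk'_apply, (QuotientGroup.eq_one_iff z).2 hz]
            exact one_mem _
          have hKcard : Nat.card K = Nat.card C * 9 := by
            have hsurj : Function.Surjective ((π.comp K.subtype).codRestrict C fun k => k.2) := fun c => by
              obtain ⟨g, hg⟩ := hπ c.1
              exact ⟨⟨g, show π g ∈ C from hg.symm ▸ c.2⟩, Subtype.ext hg⟩
            have h1 := ((π.comp K.subtype).codRestrict C fun k => k.2).ker.card_mul_index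
            rw [Subgroup.index_ker, MonoidHom.range_eq_top.2 hsurj, Subgroup.card_top] at h1
            have hk : ((π.comp K.subtype).codRestrict C fun k => k.2).ker = Zc.subgroupOf K := by
              ext x
              rw [MonoidHom.mem_ker]
              exact ⟨fun h => (QuotientGroup.eq_one_iff (x : Y)).1 (congrArg Subtype.val h),
                fun h => Subtype.ext ((QuotientGroup.eq_one_iff (x : Y)).2 h)⟩
            rw [hk, Nat.card_congr (Subgroup.subgroupOfEquivOfLe hZK).toEquiv,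
              Nat.card_congr (Subgroup.subgroupOfEquivOfLe hZY).toEquiv, Zw_card] at h1
            rw [← h1, mul_comm]
          have hQp : IsPGroup 3 (Zc.subgroupOf K) := by
            refine IsPGroup.of_card (n := 2) ?_
            rw [Nat.card_congr (Subgroup.subgroupOfEquivOfLe hZK).toEquiv,
              Nat.card_congr (Subgroup.subgroupOfEquivOfLe hZY).toEquiv, Zw_card]
            norm_num
          obtain ⟨Q, hQ⟩ := hQp.exists_le_sylow
          have hQZ : (Q : Subgroup K) = Zc.subgroupOf K := by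
            refine (Subgroup.eq_of_le_of_card_ge hQ ?_).symm
            rw [Q.card_eq_multiplicity, Nat.card_congr (Subgroup.subgroupOfEquivOfLe hZK).toEquiv,
              Nat.card_congr (Subgroup.subgroupOfEquivOfLe hZY).toEquiv, Zw_card, hKcard,
              Nat.factorization_mul (Nat.card_pos.ne') (by norm_num), Finsupp.add_apply,
              Nat.factorization_eq_zero_of_not_dvd hCcop, show (9 : ℕ) = 3 ^ 2 from rfl,
              Nat.Prime.factorization_pow Nat.prime_three, Finsupp.single_eq_same]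
          have hq : normalizer ((Q : Subgroup K) : Set K) ≤ centralizer ((Q : Subgroup K) : Set K) := by
            intro g _
            rw [hQZ]
            refine Subgroup.mem_centralizer_iff.2 fun x hx => Subtype.ext ?_
            exact (hcen x.1 hx g.1).symm
          obtain ⟨hmem, hcard⟩ := SmithTyrer56.core_of_norm_central Q hq
          have hU : (Cfsg.pPrimeCore 3 K).map (Y.subtype.comp K.subtype) = ⊥ := by
            have hinj : Function.Injective (Y.subtype.comp K.subtype) :=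
              fun a b h => K.subtype_injective (Y.subtype_injective h)
            refine signalizer d ?_ ?_ ?_
            · rintro _ ⟨k, -, rfl⟩; exact (memY.1 k.1.2).1
            · rw [Subgroup.card_map_of_injective hinj]
              intro h
              obtain ⟨x, hx⟩ := exists_prime_orderOf_dvd_card' 3 h
              exact (hmem x).1 x.2 (by rw [Subgroup.orderOf_coe, hx])
            · rintro j hj _ ⟨k, hk, rfl⟩
              refine ⟨⟨⟨j, hJY hj⟩ * k.1 * ⟨j, hJY hj⟩⁻¹, ‹K.Normal›.conj_mem _ k.2 _⟩, ?_, rfl⟩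
              rw [SetLike.mem_coe, hmem, ← Subgroup.orderOf_coe, show orderOf (⟨j, hJY hj⟩ * k.1 * ⟨j, hJY hj⟩⁻¹) = orderOf k.1 from (MulAut.conj (⟨j, hJY hj⟩ : Y)).orderOf_eq k.1, Subgroup.orderOf_coe]
              exact (hmem k).1 hk
          rw [Subgroup.map_eq_bot_iff_of_injective _ (show Function.Injective (Y.subtype.comp K.subtype) from
            fun a b h => K.subtype_injective (Y.subtype_injective h))] at hU
          rw [hU, Subgroup.card_bot, one_mul, hQZ, Nat.card_congr (Subgroup.subgroupOfEquivOfLe hZK).toEquiv,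
            Nat.card_congr (Subgroup.subgroupOfEquivOfLe hZY).toEquiv, Zw_card, hKcard] at hcard
          exact Subgroup.card_eq_one.1 (by omega)
        · refine ⟨π ⟨n, hnY⟩, fun x hx => ?_⟩
          obtain ⟨x, rfl⟩ := hπ x
          have hnN : Norms n d.J := (hn.mem_NN d).2
          rcases hpm ⟨n, hnY⟩ hnN with h | h
          · -- `n` does not centralise the quotient
            exfalso
            have h1 := h ⟨jc d (0, (1, 0, 0)), hJY (jc_J d _)⟩ (jc_J d _)
            rw [← map_mul, ← map_inv, ← map_mul, hπdef, QuotientGroup.mk'_apply, QuotientGroup.mk'_apply,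
              QuotientGroup.eq] at h1
            obtain ⟨k, e, he⟩ := h1
            have he' : jc d (k, (0, e, e)) = (n * jc d (0, (1, 0, 0)) * n⁻¹)⁻¹ * jc d (0, (1, 0, 0)) := by
              rw [he]; simp
            rw [hn, ← jc_neg, ← jc_add] at he'
            exact refl_axis k e (jc_inj d he')
          · exact h x ((hPbmem x).1 hx)
        · intro g hg
          obtain ⟨g, rfl⟩ := hπ g
          have hgn : Norms (g : G) d.J := fun j hj => by
            have h1 := (Subgroup.mem_normalizer_iff.1 hg (π ⟨j, hJY hj⟩)).1 ((hPbmem _).2 hj)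
            rw [← map_mul, ← map_inv, ← map_mul] at h1
            exact (hPbmem _).1 h1
          rcases hpm g hgn with h | h
          · left; intro x hx; obtain ⟨x, rfl⟩ := hπ x; exact h x ((hPbmem x).1 hx)
          · right; intro x hx; obtain ⟨x, rfl⟩ := hπ x; exact h x ((hPbmem x).1 hx)
      have hnor : (Pb : Subgroup (Y ⧸ Zc)).Normal := hset.sylow_normal
      intro g hg j hj
      have h1 := hnor.conj_mem _ ((hPbmem ⟨j, hJY hj⟩).2 hj) (π ⟨g, hg⟩)
      rw [← map_mul, ← map_inv, ← map_mul] at h1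
      exact (hPbmem _).1 h1
  exact fun c hy hc => hfin c (memY.2 ⟨hy, hc⟩)

/-- The centraliser in `C(y)` of an element of `J` outside `⟨y⟩` normalises `J`. -/
theorem good_all {v : Vec} (hv : v ≠ 0) (i : ZMod 3) : Good d (jc d (i, v)) := by
  rcases (by decide +kernel : ∀ v : Vec, v ≠ 0 → (wt v = 1 ∨ wt v = 3) ∨
    ∃ h : Fin 24, h.val < 12 ∧ hf h (0, 1, 1) = v) v hv with h | ⟨h, hlow, he⟩
  · exact good_wt d v h i
  · have hL : InH d (1 : G) h := Or.inl hlow
    have h1 := good_conj d (LL_mem d hL) (good_pw_mul d (good_two_aux d) i)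
    rwa [← jc_fst d (i, (0, 1, 1)), acts_LL d hL, he] at h1

/-- `⟨y⟩`. -/
noncomputable def Yc : Subgroup G := zpowers d.yp

theorem mem_Yc_iff {i : ZMod 3} {v : Vec} : jc d (i, v) ∈ Yc d ↔ v = 0 := by
  constructor
  · intro h
    rcases pow_three_cases (yp_three d) h with h | h | h
    · exact (Prod.ext_iff.1 (jc_eq_one d h)).2
    · rw [← pw_one (x := d.yp), ← jc_mem_Y] at h
      exact (Prod.ext_iff.1 (jc_inj d h)).2
    · rw [← pw_one (x := d.yp), ← jc_mem_Y, ← jc_neg] at h
      exact (Prod.ext_iff.1 (jc_inj d h)).2.trans neg_zero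
  · rintro rfl
    rw [jc_mem_Y]
    exact pow_mem (mem_zpowers _) _

theorem good_of_not_Yc {j : G} (hj : j ∈ d.J) (hjY : j ∉ Yc d) : Good d j := by
  obtain ⟨⟨i, v⟩, rfl⟩ := jc_surj d hj
  exact good_all d (fun h => hjY ((mem_Yc_iff d).2 h)) i

theorem pow_twelve {g : G} (hg : g ∈ NN d) : g ^ 12 ∈ d.J := by
  obtain ⟨u, hcase⟩ : ∃ u : G, d.CaseA ∨ d.IsU u := by
    rcases d.cases with h | ⟨u, h⟩
    exacts [⟨1, Or.inl h⟩, ⟨u, Or.inr h⟩]
  obtain ⟨h, -, hA⟩ := exists_acts d hcase hg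
  have hp : ∀ n : ℕ, Acts d (g ^ n) ((fun x => hm x h)^[n] 0) := fun n => by
    induction n with
    | zero => rw [pow_zero]; exact Acts.one d
    | succ k ih => rw [pow_succ, Function.iterate_succ_apply']; exact ih.mul d hA
  have := hp 12
  rw [pow_twelve_model] at this
  exact this.mem_J d

/-- The special set: some power lies in `J` outside `⟨y⟩`. -/
def Sp : Set G :=
  {g | g ∈ NN d ∧ (g ^ 12 ∉ Yc d ∨ (g ^ 4 ∈ d.J ∧ g ^ 4 ∉ Yc d))}

theorem Sp_witness {g : G} (hg : g ∈ Sp d) : ∃ n : ℕ, g ^ n ∈ d.J ∧ g ^ n ∉ Yc d := by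
  rcases hg.2 with h | h
  exacts [⟨12, pow_twelve d hg.1, h⟩, ⟨4, h⟩]

theorem Sp_cent {g c : G} (hg : g ∈ Sp d) (hy : c * d.yp = d.yp * c) (hc : c * g = g * c) : c ∈ NN d := by
  obtain ⟨n, hn, hnY⟩ := Sp_witness d hg
  exact ⟨hy, good_of_not_Yc d hn hnY c hy ((show Commute c g from hc).pow_right n).eq⟩

theorem Sp_fused {g x : G} (hxy : x * d.yp = d.yp * x) (hg : g ∈ Sp d) (hg' : x * g * x⁻¹ ∈ Sp d) :
    x ∈ NN d := by
  have hfix : ∀ z ∈ Yc d, x * z * x⁻¹ = z := by
    rintro _ ⟨k, rfl⟩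
    show x * d.yp ^ k * x⁻¹ = d.yp ^ k
    rw [((show Commute x d.yp from hxy).zpow_right k).eq, mul_inv_cancel_right]
  refine ⟨hxy, ?_⟩
  by_cases h12 : g ^ 12 ∈ Yc d
  · obtain ⟨-, h4⟩ := hg
    rcases h4 with h4 | ⟨h4J, h4Y⟩
    · exact absurd h12 h4
    rcases hg'.2 with h' | ⟨h'J, -⟩
    · refine absurd ?_ h'
      rw [conj_pow, hfix _ h12]; exact h12
    · rw [conj_pow] at h'J
      exact norms_of_fused d hxy (good_of_not_Yc d h4J h4Y) h'J
  · have h' := pow_twelve d hg'.1
    rw [conj_pow] at h'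
    exact norms_of_fused d hxy (good_of_not_Yc d (pow_twelve d hg.1) h12) h'

theorem Sp_inv {g : G} (hg : g ∈ Sp d) : g⁻¹ ∈ Sp d := by
  refine ⟨inv_mem hg.1, ?_⟩
  rw [inv_pow, inv_pow, inv_mem_iff, inv_mem_iff, inv_mem_iff]
  exact hg.2

theorem Sp_conj {g x : G} (hx : x ∈ NN d) (hg : g ∈ Sp d) : x * g * x⁻¹ ∈ Sp d := by
  have hfix : ∀ z ∈ Yc d, x * z * x⁻¹ = z := by
    rintro _ ⟨k, rfl⟩
    show x * d.yp ^ k * x⁻¹ = d.yp ^ k
    rw [((show Commute x d.yp from hx.1).zpow_right k).eq, mul_inv_cancel_right]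
  have hY : ∀ a : G, x * a * x⁻¹ ∈ Yc d → a ∈ Yc d := fun a ha => by
    have h1 := hfix _ ha
    have h2 : x * a * x⁻¹ = a := by simpa using h1
    rwa [h2] at ha
  refine ⟨mul_mem (mul_mem hx hg.1) (inv_mem hx), ?_⟩
  rw [conj_pow, conj_pow]
  rcases hg.2 with h | ⟨h1, h2⟩
  · exact Or.inl fun h' => h (hY _ h')
  · exact Or.inr ⟨hx.2 _ h1, fun h' => h2 (hY _ h')⟩

/-- A conjugate of an involution of `N(J)` is not special. -/
theorem not_Sp_of_sq {g : G} (hg : g * g = 1) : g ∉ Sp d := fun h => by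
  obtain ⟨n, -, hn⟩ := Sp_witness d h
  refine hn ?_
  rcases Nat.even_or_odd n with ⟨k, rfl⟩ | ⟨k, rfl⟩
  · rw [← two_mul, pow_mul, pow_two, hg, one_pow]; exact one_mem _
  · exfalso
    obtain ⟨m, hm, hmY⟩ := Sp_witness d h
    have hone : (g ^ m) ^ 2 = 1 := by rw [← pow_mul, mul_comm, pow_mul, pow_two, hg, one_pow]
    have h3 := d.J_exp _ hm
    rw [pow_succ, hone, one_mul] at h3
    exact hmY (h3 ▸ one_mem _)

/-- In the second case the involution `u'` is not conjugate to `t` in `C(y)`. -/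
theorem not_fused_t {u : G} (hu : d.IsU u) {n x : G} (hn : Acts d n 15)
    (hxy : x * d.yp = d.yp * x) (hx : x * d.t * x⁻¹ = n) : False := by
  haveI : Fact (Nat.Prime 3) := ⟨Nat.prime_three⟩
  let C : Subgroup G := centralizer ({d.yp, d.t} : Set G)
  have memC : ∀ {g : G}, g ∈ C ↔ g * d.yp = d.yp * g ∧ g * d.t = d.t * g := fun {g} => by
    show g ∈ centralizer _ ↔ _
    rw [Subgroup.mem_centralizer_iff]
    constructor
    · exact fun h => ⟨(h _ (Or.inl rfl)).symm, (h _ (Or.inr rfl)).symm⟩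
    · rintro ⟨h1, h2⟩ x (rfl | rfl)
      exacts [h1.symm, h2.symm]
  have hDC : d.D ≤ C := fun a ha =>
    memC.2 ⟨d.J_comm a (d.D_le_J ha) _ d.yp_J, (d.inE_D ha).comm⟩
  set D' := d.D.subgroupOf C with hD'
  have hDp : IsPGroup 3 D' := (d.toHyp.isPGroup_S.to_le (d.D_le_J.trans d.J_le)).comap_subtype
  obtain ⟨P, hP⟩ := hDp.exists_le_sylow
  have hPD : (P : Subgroup C) = D' := by
    refine le_antisymm ?_ hP
    by_contra hne
    have hlt : D'.subgroupOf P < ⊤ := lt_of_le_of_ne le_top fun h => hne (subgroupOf_eq_top.1 h)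
    haveI : Group.IsNilpotent (P : Subgroup C) := P.isPGroup'.isNilpotent
    obtain ⟨⟨g, hgP⟩, hgn, hgD⟩ := SetLike.exists_of_lt
      (Group.normalizerCondition_of_isNilpotent (G := (P : Subgroup C)) _ hlt)
    obtain ⟨hgy, hgt⟩ := memC.1 g.2
    have hn : Norms (g : G) d.D := fun j hj =>
      (Subgroup.mem_normalizer_iff.1 hgn ⟨⟨j, hDC hj⟩, hP hj⟩).1 (show (⟨j, hDC hj⟩ : C) ∈ D' from hj)
    obtain ⟨h, -, hA⟩ := exists_acts d (Or.inr hu) (g := (g : G)) ⟨hgy, d.norms_J_of_D hn⟩
    have hcomm : hm h 1 = hm 1 h := by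
      have h1 := hA.mul d (acts_t d)
      rw [hgt] at h1
      exact h1.unique d ((acts_t d).mul d hA)
    have h4 : (g : G) ^ 4 ∈ d.J := by
      have := ((hA.mul d hA).mul d hA).mul d hA
      rw [four_t h hcomm] at this
      rw [show (g : G) ^ 4 = (g : G) * g * g * g by rw [pow_succ, pow_succ, pow_two]]
      exact this.mem_J d
    have h3 : ∃ k : ℕ, orderOf (g : G) = 3 ^ k := by
      obtain ⟨k, hk⟩ := P.isPGroup' ⟨g, hgP⟩
      have hk' : (g : G) ^ 3 ^ k = 1 := by
        simpa using congrArg (fun x : (P : Subgroup C) => ((x : C) : G)) hk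
      obtain ⟨i, -, hi⟩ := (Nat.dvd_prime_pow Nat.prime_three).1 (orderOf_dvd_of_pow_eq_one hk')
      exact ⟨i, hi⟩
    refine hgD ?_
    show (g : G) ∈ d.D
    exact d.mem_D.2 ⟨mem_J_of_pow d h3 (by norm_num) h4, by rw [← hgt, mul_assoc, d.t_sq, mul_one]⟩
  -- the conjugate of the points fixed by `n`
  set T := (Zw d).map (MulAut.conj x⁻¹).toMonoidHom with hT
  have hTC : T ≤ C := by
    rintro _ ⟨z, hz, rfl⟩
    obtain ⟨i, b, rfl⟩ := hz
    have hzy : Commute (jc d (i, (0, b, b))) d.yp := d.J_comm _ (jc_J d _) _ d.yp_J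
    have hzn : n * jc d (i, (0, b, b)) * n⁻¹ = jc d (i, (0, b, b)) := by
      rw [hn, refl_fix]
    have hc1 : Commute x⁻¹ d.yp := (show Commute x d.yp from hxy).inv_left
    refine memC.2 ⟨?_, ?_⟩
    · show x⁻¹ * jc d (i, (0, b, b)) * x⁻¹⁻¹ * d.yp = _
      exact ((hc1.mul_left hzy).mul_left hc1.inv_left).eq
    · show x⁻¹ * jc d (i, (0, b, b)) * x⁻¹⁻¹ * d.t = d.t * (x⁻¹ * jc d (i, (0, b, b)) * x⁻¹⁻¹)
      calc x⁻¹ * jc d (i, (0, b, b)) * x⁻¹⁻¹ * d.t
          = x⁻¹ * (jc d (i, (0, b, b)) * (x * d.t * x⁻¹)) * x := by group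
        _ = x⁻¹ * ((x * d.t * x⁻¹) * jc d (i, (0, b, b))) * x := by
            rw [hx]
            congr 2
            exact (mul_inv_eq_iff_eq_mul.1 hzn).symm
        _ = _ := by group
  have hTp : IsPGroup 3 (T.subgroupOf C) :=
    ((d.toHyp.isPGroup_S.to_le ((Zw_le_J d).trans d.J_le)).map _).comap_subtype
  obtain ⟨P2, hP2⟩ := hTp.exists_le_sylow
  obtain ⟨c, hc⟩ := MulAction.exists_smul_eq C P2 P
  have hcard : Nat.card (T.subgroupOf C) = 9 := by
    rw [Nat.card_congr (Subgroup.subgroupOfEquivOfLe hTC).toEquiv, hT,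
      Subgroup.card_map_of_injective (MulAut.conj x⁻¹).injective, Zw_card]
  have hmap : (T.subgroupOf C).map (MulAut.conj c).toMonoidHom = D' := by
    refine Subgroup.eq_of_le_of_card_ge ?_ ?_
    · rw [← hPD, ← hc]
      exact Subgroup.map_mono hP2
    · rw [Subgroup.card_map_of_injective (MulAut.conj c).injective, hcard, hD',
        Nat.card_congr (Subgroup.subgroupOfEquivOfLe hDC).toEquiv, d.D_card]
  have hym : d.ym ∈ d.D := mul_mem d.z_D (inv_mem d.z2_D)
  have hymC : (⟨d.ym, hDC hym⟩ : C) ∈ D' := hym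
  rw [← hmap] at hymC
  obtain ⟨z, hz, hzeq⟩ := hymC
  obtain ⟨z0, ⟨i, b, rfl⟩, hz0⟩ := (hz : (z : G) ∈ T)
  have he : ((c : G) * x⁻¹) * jc d (i, (0, b, b)) * ((c : G) * x⁻¹)⁻¹ = d.ym := by
    have h1 := congrArg Subtype.val hzeq
    have h2 : (c : G) * (z : G) * (c : G)⁻¹ = d.ym := h1
    rw [show (z : G) = (MulAut.conj x⁻¹) (jc d (i, (0, b, b))) from hz0.symm] at h2
    rw [← h2]
    show _ = (c : G) * (x⁻¹ * jc d (i, (0, b, b)) * x⁻¹⁻¹) * (c : G)⁻¹
    group
  have hy' : (c : G) * x⁻¹ * d.yp = d.yp * ((c : G) * x⁻¹) :=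
    (Commute.mul_left (memC.1 c.2).1 (show Commute x d.yp from hxy).inv_left).eq
  by_cases hb : b = 0
  · subst hb
    rw [show ((i, ((0 : ZMod 3), (0 : ZMod 3), (0 : ZMod 3))) : ZMod 3 × Vec) = (i, 0) from rfl, jc_mem_Y,
      pw_conj, hy', mul_inv_cancel_right, ← jc_mem_Y,
      show d.ym = jc d (0, (1, 0, 0)) by simp [jc, jv, pw_zero, pw_one]] at he
    exact absurd (Prod.ext_iff.1 (Prod.ext_iff.1 (jc_inj d he)).2).1 axis_ne
  · have hj : Good d (jc d (i, (0, b, b))) :=
      good_all d (fun h => hb (Prod.ext_iff.1 (Prod.ext_iff.1 h).2).1) i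
    have hN : (c : G) * x⁻¹ ∈ NN d := ⟨hy', norms_of_fused d hy' hj (he ▸ d.ym_J)⟩
    obtain ⟨h, -, hA⟩ := exists_acts d (Or.inr hu) hN
    rw [hA, show d.ym = jc d (0, (1, 0, 0)) by simp [jc, jv, pw_zero, pw_one]] at he
    have hv := (Prod.ext_iff.1 (jc_inj d he)).2
    exact hb (axis_not_two h b hv)

end Cfsg.Agent.Lib.McL3NonSing87
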