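import Cfsg.Agent.Lib.McL3NonSing87.Fusion
import Cfsg.Agent.Lib.McL3NonSing87.Ev
import Cfsg.Agent.Lib.McL3NonSing87.Tab
import Cfsg.Agent.Lib.McL3NonSing87.Coef
import Cfsg.Agent.Lib.Characters.Kernel

/-!
# A character of degree three forces `C(y)` to normalise `J`

Its kernel contains `y`, hence all of `J`; the kernel is too large to meet the normaliser of `J` in more
than `J`, so it is `J` itself by the transfer and the signalizer lemma.
-/

set_option autoImplicit false
set_option linter.style.haveILetI false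
set_option linter.unusedSectionVars false
set_option maxRecDepth 100000
set_option maxHeartbeats 1000000
set_option synthInstance.maxSize 4000

namespace Cfsg.Agent.Lib.McL3NonSing87

open Subgroup
open Cfsg.Agent.Lib.McL3Local35
open Cfsg.Agent.Lib.Characters.Basic Cfsg.Agent.Lib.Characters.Kernel
open Model (Vec hf hm hi zeta zetaU dot ev zpw zsum)
open Cfg (yX)
open scoped ComplexConjugate

variable {G : Type*} [Group G] [Finite G] (d : Std G)

/-- The value at a product with a central element. -/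
theorem apply_central {X : Type*} [Group X] [Finite X] (χ : Cfsg.IrrCharacter X) {z : X}
    (hz : ∀ a : X, a * z = z * a) (g : X) :
    (χ : X → ℂ) (g * z) * (χ : X → ℂ) 1 = (χ : X → ℂ) g * (χ : X → ℂ) z := by
  haveI := Fintype.ofFinite X
  have h := H80.ClassMult.sum_apply_mul_conj χ g z
  rw [Finset.sum_congr rfl fun a _ => by rw [hz a, mul_inv_cancel_right]] at h
  rw [Finset.sum_const, Finset.card_univ, nsmul_eq_mul, ← Nat.card_eq_fintype_card,
    eq_div_iff (apply_one_ne_zero χ), mul_assoc, mul_assoc] at h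
  exact mul_left_cancel₀ (Nat.cast_ne_zero.2 Nat.card_pos.ne') h

theorem yX_one_mem (χ : Cfsg.IrrCharacter (Cy d)) (h3 : (χ : Cy d → ℂ) 1 = 3) {g : Cy d}
    (hne : ∑ i : ZMod 3, (χ : Cy d → ℂ) (yX i * g) ≠ 0) :
    (yX 1 : Cy d) ∈ charKer (isCharacter_irr χ) := by
  set z : Cy d := yX 1 with hzdef
  set μ : ℂ := (χ : Cy d → ℂ) z with hμ
  have hz : ∀ a : Cy d, a * z = z * a := fun a => Cfg.yX_comm 1 a
  have e1 := apply_central χ hz z
  have e2 := apply_central χ hz (z * z)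
  have hz3 : z * z * z = 1 := by
    have := Cfg.yX_three (d := d) 1
    rwa [pow_succ, pow_two] at this
  rw [hz3, h3] at e2
  rw [h3, ← hμ] at e1
  have hy2 : (yX 2 : Cy d) = z * z := Subtype.ext (by
    show pw d.yp 2 = pw d.yp 1 * pw d.yp 1
    rw [← pw_add (yp_three d)]; rfl)
  have hy0 : (yX 0 : Cy d) = 1 := Subtype.ext (pw_zero _)
  have g1 := apply_central χ hz g
  have g2 := apply_central χ hz (g * z)
  rw [h3, ← hμ] at g1 g2
  rw [mem_charKer]
  rw [h3, ← hμ]
  by_contra hμ3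
  refine hne ?_
  have hcube : μ ^ 3 = 27 := by linear_combination -3 * e2 - μ * e1
  have hq : μ ^ 2 + 3 * μ + 9 = 0 := by
    have : (μ - 3) * (μ ^ 2 + 3 * μ + 9) = 0 := by linear_combination hcube
    exact (mul_eq_zero.1 this).resolve_left (sub_ne_zero.2 hμ3)
  have hs : ∑ i : ZMod 3, (χ : Cy d → ℂ) (yX i * g) = (χ : Cy d → ℂ) g + (χ : Cy d → ℂ) (g * z) +
      (χ : Cy d → ℂ) (g * z * z) := by
    rw [show (Finset.univ : Finset (ZMod 3)) = {0, 1, 2} by decide +kernel,
      Finset.sum_insert (by decide +kernel), Finset.sum_insert (by decide +kernel), Finset.sum_singleton, hy0,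
      hy2, one_mul, ← hz g, mul_assoc z z g, ← hz g, ← mul_assoc z g z, ← hz g]
    ring
  rw [hs]
  have g3 : 9 * ((χ : Cy d → ℂ) g + (χ : Cy d → ℂ) (g * z) + (χ : Cy d → ℂ) (g * z * z)) = 0 := by
    linear_combination (χ : Cy d → ℂ) g * hq + (3 + μ) * g1 + 3 * g2
  exact (mul_eq_zero.1 g3).resolve_left (by norm_num)

/-- A vector as an element of `C(y)`. -/
noncomputable def jX : Multiplicative Vec →* Cy d where
  toFun v := ⟨jc d (0, v.toAdd), NN_le_Cy d (J_le_NN d (jc_J d _))⟩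
  map_one' := Subtype.ext (jc_zero d)
  map_mul' v w := Subtype.ext (by
    show jc d (0, v.toAdd + w.toAdd) = jc d (0, v.toAdd) * jc d (0, w.toAdd)
    rw [← jc_add]; simp)

/-- The linear character with given form. -/
noncomputable def lamV (l : Vec) : Multiplicative Vec →* ℂˣ where
  toFun v := zetaU ^ (4 * (dot l v.toAdd).val)
  map_one' := by simp [Model.dot]
  map_mul' v w := by
    rw [← pow_add, ← Model.zetaU_pow_mod, ← Model.zetaU_pow_mod (4 * _ + _)]
    congr 1
    revert v w l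
    decide +kernel

theorem lam_sum : ∀ v : Vec, zsum (Model.allV.map fun l => zpw (4 * (dot l v).val)) =
    if v = 0 then (27, 0, 0, 0) else (0, 0, 0, 0) := by decide +kernel

theorem orbit_four : ∀ l : Vec, l ≠ 0 →
    4 ≤ (Finset.univ.image fun h : Fin 12 => hf ⟨h.val, by omega⟩ l).card := by decide +kernel

theorem sum_lam (v : Vec) : ∑ l : Vec, zeta ^ (4 * (dot l v).val) = if v = 0 then 27 else 0 := by
  have h := congrArg ev (lam_sum v)
  rw [Model.ev_zsum, List.map_map] at h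
  rw [show (Finset.univ : Finset Vec) = Model.allV.toFinset by decide +kernel,
    List.sum_toFinset _ Model.allV_nodup]
  split_ifs at h ⊢ with hv
  · rw [Model.ev_int] at h
    push_cast at h
    rw [← h]
    congr 1
    exact List.map_congr_left fun l _ => (Model.ev_zpw _).symm
  · rw [Model.ev_zero] at h
    rw [← h]
    congr 1
    exact List.map_congr_left fun l _ => (Model.ev_zpw _).symm

/-- A character of degree three with `y` in its kernel is trivial on `J`. -/
theorem J_le_ker (χ : Cfsg.IrrCharacter (Cy d)) (h3 : (χ : Cy d → ℂ) 1 = 3)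
    (hy : (yX 1 : Cy d) ∈ charKer (isCharacter_irr χ)) :
    ∀ g : Cy d, (g : G) ∈ d.J → g ∈ charKer (isCharacter_irr χ) := by
  classical
  set F : Vec → ℂ := fun v => (χ : Cy d → ℂ) (jX d (Multiplicative.ofAdd v)) with hF
  have hinv : ∀ (h : Fin 24), h.val < 12 → ∀ v, F (hf h v) = F v := by
    intro h hh v
    have hA := acts_LL d (u := (1 : G)) (h := h) (Or.inl hh)
    have e : jX d (Multiplicative.ofAdd (hf h v)) = (⟨LL d 1 h, NN_le_Cy d (hA.mem_NN d)⟩ : Cy d) *
        jX d (Multiplicative.ofAdd v) * (⟨LL d 1 h, NN_le_Cy d (hA.mem_NN d)⟩ : Cy d)⁻¹ :=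
      Subtype.ext (hA 0 v).symm
    simp only [hF]
    rw [e, isClassFunction_irr χ]
  have hm' : ∀ l : Vec, ∃ m : ℕ, (27 : ℂ)⁻¹ * ∑ v : Vec, zeta ^ (4 * (dot l v).val) * conj (F v) = m := by
    intro l
    obtain ⟨m, hm⟩ := exists_classInner_nat
      (isCharacter_irr (Cfsg.Agent.Lib.Characters.Linear.linChar (lamV l)))
      (isCharacter_comp (jX d) (isCharacter_irr χ))
    refine ⟨m, ?_⟩
    rw [← hm, Cfsg.classInner, Nat.card_congr Multiplicative.toAdd]
    rw [show Nat.card Vec = 27 by simp [Nat.card_eq_fintype_card]]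
    push_cast
    congr 1
    refine Fintype.sum_equiv Multiplicative.ofAdd _ _ fun v => ?_
    simp [Cfsg.Agent.Lib.Characters.Linear.linChar_apply, lamV, hF, zetaU]
  choose m hm using hm'
  have htot : ∀ w : Vec, ∑ l : Vec, (m l : ℂ) * zeta ^ (4 * (dot l (-w)).val) = conj (F w) := by
    intro w
    have hadd : ∀ l v : Vec, zeta ^ (4 * (dot l v).val) * zeta ^ (4 * (dot l (-w)).val) =
        zeta ^ (4 * (dot l (v - w)).val) := fun l v => by
      rw [← pow_add, ← Model.zeta_pow_mod, ← Model.zeta_pow_mod (4 * (dot l (v - w)).val)]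
      congr 1
      revert l v w
      decide +kernel
    simp only [← hm, Finset.mul_sum, Finset.sum_mul]
    rw [Finset.sum_comm]
    have hin : ∀ v, ∑ l : Vec, (27 : ℂ)⁻¹ * (zeta ^ (4 * (dot l v).val) * conj (F v)) *
        zeta ^ (4 * (dot l (-w)).val) = if v = w then conj (F v) else 0 := fun v => by
      rw [show ∑ l : Vec, (27 : ℂ)⁻¹ * (zeta ^ (4 * (dot l v).val) * conj (F v)) *
          zeta ^ (4 * (dot l (-w)).val) = (27 : ℂ)⁻¹ * conj (F v) * ∑ l : Vec, zeta ^ (4 * (dot l (v - w)).val) by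
        rw [Finset.mul_sum]; refine Finset.sum_congr rfl fun l _ => ?_; rw [← hadd]; ring, sum_lam]
      by_cases hvw : v = w
      · rw [if_pos hvw, if_pos (sub_eq_zero.2 hvw)]; field_simp
      · rw [if_neg hvw, if_neg fun e => hvw (sub_eq_zero.1 e), mul_zero]
    rw [Finset.sum_congr rfl fun v _ => hin v, Finset.sum_ite_eq', if_pos (Finset.mem_univ _)]
  have hF0 : F 0 = 3 := by
    show (χ : Cy d → ℂ) (jX d 1) = 3
    rw [map_one, h3]
  have hsum : ∑ l : Vec, m l = 3 := by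
    have h := htot 0
    rw [hF0, map_ofNat] at h
    simp [Model.dot] at h
    exact_mod_cast h
  have hminv : ∀ (h : Fin 24), h.val < 12 → ∀ l, m (hf h l) = m l := by
    intro h hh l
    have e : (m (hf h l) : ℂ) = m l := by
      rw [← hm, ← hm]
      congr 1
      symm
      refine Fintype.sum_equiv
        ⟨hf h, hf (hi h), fun v => (Model.hf_hi h v).1, fun v => (Model.hf_hi h v).2⟩ _ _ fun v => ?_
      show _ = zeta ^ (4 * (dot (hf h l) (hf h v)).val) * conj (F (hf h v))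
      rw [Model.hf_dot, hinv h hh]
    exact_mod_cast e
  have hm0 : ∀ l : Vec, l ≠ 0 → m l = 0 := by
    intro l hl
    set O := Finset.univ.image fun h : Fin 12 => hf ⟨h.val, by omega⟩ l with hO
    have h1 : ∑ k ∈ O, m k = O.card * m l := by
      rw [Finset.sum_congr rfl fun k hk => ?_, Finset.sum_const, smul_eq_mul]
      obtain ⟨h, -, rfl⟩ := Finset.mem_image.1 hk
      exact hminv _ h.isLt l
    have h2 : ∑ k ∈ O, m k ≤ 3 := hsum ▸ Finset.sum_le_sum_of_subset (Finset.subset_univ _)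
    have h4 := orbit_four l hl
    rw [← hO] at h4
    by_contra hne
    have := Nat.mul_le_mul h4 (Nat.one_le_iff_ne_zero.2 hne)
    omega
  have hF3 : ∀ w, F w = 3 := by
    intro w
    have h := htot w
    rw [Finset.sum_eq_single 0 (fun l _ hl => by rw [hm0 l hl]; simp) (fun h => absurd (Finset.mem_univ _) h)] at h
    have hm3 : m 0 = 3 := by
      rw [← hsum, Finset.sum_eq_single 0 (fun l _ hl => hm0 l hl) (fun h => absurd (Finset.mem_univ _) h)]
    rw [hm3, show dot 0 (-w) = 0 by simp [Model.dot]] at h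
    have h' := congrArg conj h
    simp at h'
    exact h'.symm
  intro g hg
  obtain ⟨⟨i, v⟩, hv⟩ := exists_jc d hg
  have e : g = yX i * jX d (Multiplicative.ofAdd v) := Subtype.ext (by
    show (g : G) = pw d.yp i * jc d (0, v)
    rw [← jc_fst, ← hv])
  rw [e]
  refine mul_mem ?_ ((mem_charKer _ _).2 (by rw [h3]; exact hF3 v))
  rw [show (yX i : Cy d) = yX 1 ^ i.val from Subtype.ext (by simp [yX, pw, ZMod.val_one])]
  exact pow_mem hy _

theorem comm_four : ∀ h : Fin 24, h ≠ 0 → ∃ a b : Fin 12,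
    let c : Fin 24 → Fin 24 → Fin 24 := fun x y => hm (hm (hm x y) (hi x)) (hi y)
    h ∈ ([1, 2, 3] : List (Fin 24)) ∨ c ⟨a.val, by omega⟩ h ∈ ([1, 2, 3] : List (Fin 24)) ∨
      c ⟨b.val, by omega⟩ (c ⟨a.val, by omega⟩ h) ∈ ([1, 2, 3] : List (Fin 24)) := by decide +kernel

theorem conj_four : ∀ k ∈ ([1, 2, 3] : List (Fin 24)), ∀ m ∈ ([1, 2, 3] : List (Fin 24)), ∃ a : Fin 12,
    hm (hm ⟨a.val, by omega⟩ k) (hi ⟨a.val, by omega⟩) = m := by decide +kernel

/-- A character of degree three with a nonzero coset sum forces `C(y) ≤ N(J)`. -/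
theorem norms_of_three (χ : Cfsg.IrrCharacter (Cy d)) (h3 : (χ : Cy d → ℂ) 1 = 3) {g : Cy d}
    (hne : ∑ i : ZMod 3, (χ : Cy d → ℂ) (yX i * g) ≠ 0) {c : G} (hc : c * d.yp = d.yp * c) :
    Norms c d.J := by
  classical
  haveI : Fact (Nat.Prime 3) := ⟨Nat.prime_three⟩
  haveI := Fintype.ofFinite (Cy d)
  set K := charKer (isCharacter_irr χ) with hKdef
  haveI hKn : K.Normal := charKer_normal _
  have hJK : ∀ g : Cy d, (g : G) ∈ d.J → g ∈ K := J_le_ker d χ h3 (yX_one_mem d χ h3 hne)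
  -- size of the kernel
  have hnine : 9 * Nat.card K ≤ Nat.card (Cy d) := by
    have h1 := classInner_self_irr χ
    rw [Cfsg.classInner, inv_mul_eq_iff_eq_mul₀ (Nat.cast_ne_zero.2 Nat.card_pos.ne'), mul_one] at h1
    have h2 := congrArg Complex.re h1
    rw [Complex.re_sum, Complex.natCast_re] at h2
    have h4 : ∀ x : Cy d, ((χ : Cy d → ℂ) x * conj ((χ : Cy d → ℂ) x)).re = Complex.normSq ((χ : Cy d → ℂ) x) :=
      fun x => by rw [Complex.mul_conj, Complex.ofReal_re]
    rw [Finset.sum_congr rfl fun x _ => h4 x] at h2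
    have h5 : ∑ x ∈ Finset.univ.filter (· ∈ K), Complex.normSq ((χ : Cy d → ℂ) x) = 9 * Nat.card K := by
      rw [Finset.sum_congr rfl fun x hx => ?_, Finset.sum_const, nsmul_eq_mul, mul_comm,
        show (Finset.univ.filter (· ∈ K)).card = Nat.card K by
          rw [Nat.card_eq_fintype_card, ← Fintype.card_subtype]]
      · congr 1
      · rw [(mem_charKer _ _).1 (Finset.mem_filter.1 hx).2, h3]; norm_num
    have h6 : ((9 * Nat.card K : ℕ) : ℝ) ≤ (Nat.card (Cy d) : ℝ) := by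
      push_cast
      rw [← h5, ← h2]
      exact Finset.sum_le_sum_of_subset_of_nonneg (Finset.subset_univ _) fun x _ _ => Complex.normSq_nonneg _
    exact_mod_cast h6
  set JX : Subgroup (Cy d) := d.J.subgroupOf (Cy d) with hJX
  have hJXK : JX ≤ K := fun x hx => hJK x hx
  have hp : IsPGroup 3 (JX.subgroupOf K) :=
    ((d.toHyp.isPGroup_S.to_le d.J_le).comap_subtype (H := d.J) (K := Cy d)).comap_subtype
  obtain ⟨P, hP⟩ := hp.exists_le_sylow
  set P' : Subgroup (Cy d) := (P : Subgroup K).map K.subtype with hP'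
  have hJP' : JX ≤ P' := fun x hx => ⟨⟨x, hJXK hx⟩, hP (show (⟨x, hJXK hx⟩ : K) ∈ JX.subgroupOf K from hx), rfl⟩
  have hPN : ∀ x ∈ normalizer (P' : Set (Cy d)), Norms (x : G) d.J := by
    intro x hx
    have hPp : IsPGroup 3 (P'.map (Cy d).subtype) := (P.isPGroup'.map _).map _
    obtain ⟨g0, hg0⟩ := d.toHyp.S_sylow _ hPp
    have hmem : ∀ j ∈ d.J, ∀ y : Cy d, (y : G) = j → y ∈ P' := fun j hj y hy =>
      hJP' (show (y : G) ∈ d.J from hy ▸ hj)
    have hjC : ∀ j ∈ d.J, j ∈ Cy d := fun j hj => NN_le_Cy d (J_le_NN d hj)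
    have n1 : Norms g0 d.J := d.toHyp.conj_eq_J fun j hj =>
      hg0 j ⟨⟨j, hjC j hj⟩, hmem j hj _ rfl, rfl⟩
    have n2 : Norms (g0 * x) d.J := d.toHyp.conj_eq_J fun j hj => by
      have h1 : x * ⟨j, hjC j hj⟩ * x⁻¹ ∈ P' := (mem_normalizer_iff.1 hx _).1 (hmem j hj _ rfl)
      have := hg0 _ ⟨_, h1, rfl⟩
      simpa [mul_assoc] using this
    have := (Norms.mem_normalizer n1)
    have h12 := mul_mem (inv_mem this) (Norms.mem_normalizer n2)
    rw [inv_mul_cancel_left] at h12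
    exact fun j hj => (mem_normalizer_iff.1 h12 j).1 hj
  have hFr : NX d ⊔ K = ⊤ := by
    rw [eq_top_iff, ← Sylow.normalizer_sup_eq_top P]
    exact sup_le_sup_right (fun x hx => show (x : G) ∈ NN d from ⟨(mem_Cy d).1 x.2, hPN x hx⟩) _
  obtain ⟨u, hcase⟩ : ∃ u, d.CaseA ∨ d.IsU u := by
    rcases d.cases with h | ⟨u, h⟩
    · exact ⟨1, Or.inl h⟩
    · exact ⟨u, Or.inr h⟩
  -- the kernel meets `N(J)` in `J`
  have hKN : ∀ x : Cy d, x ∈ K → Norms (x : G) d.J → (x : G) ∈ d.J := by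
    intro x hx hxn
    obtain ⟨h, -, hA⟩ := exists_acts d hcase (g := (x : G)) ⟨(mem_Cy d).1 x.2, hxn⟩
    by_contra hxJ
    have hh : h ≠ 0 := fun e => hxJ ((e ▸ hA).mem_J d)
    let Q : Fin 24 → Prop := fun k => ∃ y : Cy d, y ∈ K ∧ Acts d (y : G) k
    have hcm : ∀ k, Q k → ∀ a : Fin 12,
        Q (hm (hm (hm ⟨a.val, by omega⟩ k) (hi ⟨a.val, by omega⟩)) (hi k)) ∧
        Q (hm (hm ⟨a.val, by omega⟩ k) (hi ⟨a.val, by omega⟩)) := by
      rintro k ⟨y, hy, hyA⟩ a
      have hB := acts_LL d (u := (1 : G)) (h := ⟨a.val, by omega⟩) (Or.inl a.isLt)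
      let b : Cy d := ⟨LL d 1 ⟨a.val, by omega⟩, NN_le_Cy d (hB.mem_NN d)⟩
      exact ⟨⟨b * y * b⁻¹ * y⁻¹, mul_mem (hKn.conj_mem _ hy _) (inv_mem hy),
          ((hB.mul d hyA).mul d (hB.inv d)).mul d (hyA.inv d)⟩,
        ⟨b * y * b⁻¹, hKn.conj_mem _ hy _, (hB.mul d hyA).mul d (hB.inv d)⟩⟩
    have hQh : Q h := ⟨x, hx, hA⟩
    obtain ⟨k, hk, hQk⟩ : ∃ k ∈ ([1, 2, 3] : List (Fin 24)), Q k := by
      obtain ⟨a, b, hab⟩ := comm_four h hh
      rcases hab with hab | hab | hab
      · exact ⟨_, hab, hQh⟩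
      · exact ⟨_, hab, (hcm h hQh a).1⟩
      · exact ⟨_, hab, (hcm _ (hcm h hQh a).1 b).1⟩
    have hQ4 : ∀ i : Fin 4, Q ⟨i.val, by omega⟩ := by
      have hall : ∀ m ∈ ([1, 2, 3] : List (Fin 24)), Q m := fun m hm => by
        obtain ⟨a, ha⟩ := conj_four k hk m hm
        exact ha ▸ (hcm k hQk a).2
      intro i
      fin_cases i
      · exact ⟨1, one_mem K, Acts.one d⟩
      · exact hall 1 (by simp)
      · exact hall 2 (by simp)
      · exact hall 3 (by simp)
    choose e heK heA using hQ4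
    let f : (ZMod 3 × Vec) × Fin 4 → (K ⊓ NX d : Subgroup (Cy d)) := fun p =>
      ⟨(⟨jc d p.1, NN_le_Cy d (J_le_NN d (jc_J d _))⟩ : Cy d) * e p.2,
        mul_mem (hJK _ (jc_J d _)) (heK p.2),
        mul_mem (show jc d p.1 ∈ NN d from J_le_NN d (jc_J d _)) ((heA p.2).mem_NN d)⟩
    have hfinj : Function.Injective f := by
      intro p q hpq
      have h1 : jc d p.1 * (e p.2 : G) = jc d q.1 * (e q.2 : G) := congrArg (fun z => ((z.1 : Cy d) : G)) hpq
      have a1 := (Acts.of_J d (jc_J d p.1)).mul d (heA p.2)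
      have a2 := (Acts.of_J d (jc_J d q.1)).mul d (heA q.2)
      rw [h1] at a1
      have e0 := a1.unique d a2
      rw [(Model.hm_one _).1, (Model.hm_one _).1] at e0
      have e2 : p.2 = q.2 := Fin.ext (congrArg Fin.val e0 :)
      rw [e2] at h1
      exact Prod.ext (jc_inj d (mul_right_cancel h1)) e2
    have hcard : 324 ≤ Nat.card (K ⊓ NX d : Subgroup (Cy d)) := by
      refine le_trans ?_ (Nat.card_le_card_of_injective f hfinj)
      simp [Nat.card_eq_fintype_card]
    let C : Cfg d := if hA : d.CaseA then ⟨1, 12, Or.inl ⟨rfl, hA⟩⟩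
      else ⟨u, 24, Or.inr ⟨rfl, hcase.resolve_left hA⟩⟩
    have hNX : Nat.card (NX d) ≤ 81 * 24 := by
      rw [C.card_NX]
      rcases C.nH_cases with e | e <;> rw [e] <;> norm_num
    have i1 : K.relIndex (NX d) = K.index := by
      rw [← Subgroup.relIndex_sup_right, hFr, Subgroup.relIndex_top_right]
    have i2 : Nat.card (K ⊓ NX d : Subgroup (Cy d)) * K.relIndex (NX d) = Nat.card (NX d) := by
      rw [← Subgroup.inf_relIndex_right]
      exact Hyp.card_mul_relIndex inf_le_right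
    have i3 := K.card_mul_index
    have hK0 : 0 < Nat.card K := Nat.card_pos
    rw [i1] at i2
    have h9 : 9 ≤ K.index := by
      by_contra hlt
      have := Nat.mul_lt_mul_of_pos_left (Nat.not_le.1 hlt) hK0
      omega
    have := Nat.mul_le_mul hcard h9
    omega
  -- so the kernel is `J`
  have hPJ : (P : Subgroup K) = JX.subgroupOf K := by
    refine le_antisymm ?_ hP
    by_contra hne'
    have hlt : (JX.subgroupOf K).subgroupOf P < ⊤ :=
      lt_of_le_of_ne le_top fun h => hne' (subgroupOf_eq_top.1 h)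
    haveI : Group.IsNilpotent (P : Subgroup K) := P.isPGroup'.isNilpotent
    obtain ⟨⟨x, hxP⟩, hxn, hxJ⟩ := SetLike.exists_of_lt
      (Group.normalizerCondition_of_isNilpotent (G := (P : Subgroup K)) _ hlt)
    refine hxJ (hKN x.1 x.2 fun j hj => ?_)
    have hjC : j ∈ Cy d := NN_le_Cy d (J_le_NN d hj)
    exact (Subgroup.mem_normalizer_iff.1 hxn
      ⟨⟨⟨j, hjC⟩, hJK _ hj⟩, hP (show (⟨⟨j, hjC⟩, hJK _ hj⟩ : K) ∈ JX.subgroupOf K from hj)⟩).1 hj
  have hmemP : ∀ k : K, k ∈ (P : Subgroup K) ↔ ((k : Cy d) : G) ∈ d.J := fun k => by rw [hPJ]; rfl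
  have hq : normalizer ((P : Subgroup K) : Set K) ≤ centralizer ((P : Subgroup K) : Set K) := by
    intro k hk
    have hkJ : ((k : Cy d) : G) ∈ d.J := hKN k.1 k.2 fun j hj => by
      have hjC : j ∈ Cy d := NN_le_Cy d (J_le_NN d hj)
      exact (hmemP _).1 ((mem_normalizer_iff.1 hk ⟨⟨j, hjC⟩, hJK _ hj⟩).1 ((hmemP _).2 hj))
    refine mem_centralizer_iff.2 fun y hy => Subtype.ext (Subtype.ext ?_)
    exact d.J_comm _ ((hmemP y).1 hy) _ hkJ
  obtain ⟨hmemO, hcardO⟩ := SmithTyrer56.core_of_norm_central P hq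
  set O := Cfsg.pPrimeCore 3 K with hOdef
  have hinj : Function.Injective ((Cy d).subtype.comp K.subtype) :=
    fun a b h => K.subtype_injective ((Cy d).subtype_injective h)
  have hU : O.map ((Cy d).subtype.comp K.subtype) = ⊥ := by
    refine signalizer d ?_ ?_ ?_
    · rintro _ ⟨k, -, rfl⟩; exact (mem_Cy d).1 k.1.2
    · rw [Subgroup.card_map_of_injective hinj]
      intro h
      obtain ⟨k, hk⟩ := exists_prime_orderOf_dvd_card' (G := O) 3 h
      refine (hmemO k.1).1 k.2 ?_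
      rw [Subgroup.orderOf_coe, hk]
    · rintro j hj _ ⟨k, hk, rfl⟩
      have hjC : j ∈ Cy d := NN_le_Cy d (J_le_NN d hj)
      let jk : K := ⟨⟨j, hjC⟩, hJK _ hj⟩
      refine ⟨jk * k * jk⁻¹, (hmemO _).2 fun h => (hmemO k).1 hk ?_, by simp [jk]⟩
      rwa [show jk * k * jk⁻¹ = MulAut.conj jk k from rfl, MulEquiv.orderOf_eq] at h
  have hO1 : Nat.card O = 1 := by
    rw [← Subgroup.card_map_of_injective (H := O) hinj, hU]; simp
  rw [hO1, one_mul] at hcardO
  have hall : ∀ k : K, k ∈ (P : Subgroup K) := fun k => by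
    rw [Subgroup.eq_top_of_card_eq _ hcardO]; exact mem_top k
  intro j hj
  have hjC : j ∈ Cy d := NN_le_Cy d (J_le_NN d hj)
  let cc : Cy d := ⟨c, (mem_Cy d).2 hc⟩
  exact (hmemP ⟨cc * ⟨j, hjC⟩ * cc⁻¹, hKn.conj_mem _ (hJK _ hj) _⟩).1 (hall _)

end Cfsg.Agent.Lib.McL3NonSing87
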