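import Cfsg.Agent.Lib.McL3NonSing87.CaseA
import Cfsg.Agent.Lib.McL3NonSing87.CaseB
import Cfsg.Agent.Lib.McL3NonSing87.Kernel

/-!
# `C(y)` normalises `J`
-/

set_option autoImplicit false

namespace Cfsg.Agent.Lib.McL3NonSing87

open Cfsg.Agent.Lib.McL3Local35

variable {G : Type*} [Group G] [Finite G]

/-- `C(y)` normalises `J`. -/
theorem cent_norms (d : Std G) {c : G} (hc : c * d.yp = d.yp * c) : Norms c d.J := by
  rcases d.cases with h | ⟨u, hu⟩
  · obtain ⟨χ, g, h3, hne⟩ := exists_threeA d h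
    exact norms_of_three d χ h3 hne hc
  · obtain ⟨χ, g, h3, hne⟩ := exists_threeB hu
    exact norms_of_three d χ h3 hne hc

/-- The hypothesis `HY` of the recognition. -/
theorem hY (d : Std G) : d.HY := fun _ hc _ => cent_norms d hc

end Cfsg.Agent.Lib.McL3NonSing87
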